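import Groth.Agent.SGA3x.K20.UGood
import Groth.Agent.Ega43.FPOfComp

/-!
# Transporters and centralizers by closed subschemes

`exists_closed_of_map`: for `Y` with `UGood Y`, a morphism `φ : G ⊗ Y ⟶ E` and a closed subscheme `i : E' ⟶ E`, the
points `g` of `G` with `φ(g, a) ∈ E'` for all points `a` of `Y` form a closed subscheme of `G` (lfp if `i` is).
-/

set_option autoImplicit false
universe u
open CategoryTheory MonoidalCategory CartesianMonoidalCategory MonObj GrpObj AlgebraicGeometry CategoryTheory.Limits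

namespace K20.Transp

open K20.WeilRep K20.UG

variable {S : Scheme.{u}}

lemma left_lift_fst {G Y X : Over S} (p : X ⟶ G) (q : X ⟶ Y) : (lift p q).left ≫ (fst G Y).left = p.left := by
  rw [← Over.comp_left, lift_fst]

lemma left_lift_snd {G Y X : Over S} (p : X ⟶ G) (q : X ⟶ Y) : (lift p q).left ≫ (snd G Y).left = q.left := by
  rw [← Over.comp_left, lift_snd]

lemma prod_left_ext {G Y : Over S} {X : Scheme.{u}} {a b : X ⟶ (G ⊗ Y).left}
    (h1 : a ≫ (fst G Y).left = b ≫ (fst G Y).left) (h2 : a ≫ (snd G Y).left = b ≫ (snd G Y).left) : a = b :=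
  pullback.hom_ext h1 h2

theorem exists_closed (G Y W : Over S) (hY : UGood Y) (w : W ⟶ G ⊗ Y) [IsClosedImmersion w.left] :
    ∃ (C : Over S) (c : C ⟶ G), IsClosedImmersion c.left ∧
      (LocallyOfFinitePresentation w.left → LocallyOfFinitePresentation c.left) ∧
      ∀ (X : Over S) (g : X ⟶ G), (∃ z : X ⟶ C, z ≫ c = g) ↔
        ∀ (X' : Over S) (x : X' ⟶ X) (a : X' ⟶ Y), ∃ b : X' ⟶ W, b ≫ w = lift (x ≫ g) a := by
  obtain ⟨T, t, ht, h1, h2⟩ := (hY G w.left).result
  refine ⟨Over.mk (t ≫ G.hom), Over.homMk t rfl, ht, h2, fun X g => ?_⟩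
  have h3 : (∃ z : X ⟶ Over.mk (t ≫ G.hom), z ≫ Over.homMk t rfl = g) ↔ ∃ g' : X.left ⟶ T, g' ≫ t = g.left := by
    constructor
    · rintro ⟨z, rfl⟩
      exact ⟨z.left, rfl⟩
    · rintro ⟨g', hg'⟩
      refine ⟨Over.homMk g' ?_, ?_⟩
      · change g' ≫ t ≫ G.hom = X.hom
        rw [← Category.assoc, hg', Over.w]
      · ext1
        exact hg'
  rw [h3, h1, isIso_snd_iff]
  constructor
  · intro H X' x a
    obtain ⟨b, hb⟩ := H X'.left x.left (lift (x ≫ g) a).left (by
      rw [← Over.comp_left, lift_fst, Over.comp_left])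
    refine ⟨Over.homMk b ?_, ?_⟩
    · rw [← Over.w w, ← Category.assoc, hb, Over.w]
    · exact Over.OverMorphism.ext hb
  · intro H X' x a hax
    have h5 : (a ≫ (snd G Y).left) ≫ Y.hom = x ≫ X.hom := by
      have := congrArg (· ≫ G.hom) hax
      simp only [Category.assoc, Over.w] at this ⊢
      exact this
    let x' : Over.mk (x ≫ X.hom) ⟶ X := Over.homMk x rfl
    let a' : Over.mk (x ≫ X.hom) ⟶ Y := Over.homMk (a ≫ (snd G Y).left) h5
    obtain ⟨b, hb⟩ := H _ x' a'
    refine ⟨b.left, ?_⟩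
    have h4 : b.left ≫ w.left = (lift (x' ≫ g) a').left := congrArg Over.Hom.left hb
    rw [h4]
    exact prod_left_ext ((left_lift_fst (x' ≫ g) a').trans hax.symm) (left_lift_snd (x' ≫ g) a')

theorem exists_closed_of_map (G Y E E' : Over S) (hY : UGood Y) (φ : G ⊗ Y ⟶ E) (i : E' ⟶ E)
    [IsClosedImmersion i.left] :
    ∃ (C : Over S) (c : C ⟶ G), IsClosedImmersion c.left ∧
      (LocallyOfFinitePresentation i.left → LocallyOfFinitePresentation c.left) ∧
      ∀ (X : Over S) (g : X ⟶ G), (∃ z : X ⟶ C, z ≫ c = g) ↔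
        ∀ (X' : Over S) (x : X' ⟶ X) (a : X' ⟶ Y), ∃ b : X' ⟶ E', lift (x ≫ g) a ≫ φ = b ≫ i := by
  let W : Over S := Over.mk (pullback.fst φ.left i.left ≫ (G ⊗ Y).hom)
  let w : W ⟶ G ⊗ Y := Over.homMk (pullback.fst φ.left i.left) rfl
  have hw : IsClosedImmersion w.left := inferInstanceAs (IsClosedImmersion (pullback.fst φ.left i.left))
  obtain ⟨C, c, h1, h2, h3⟩ := exists_closed G Y W hY w
  refine ⟨C, c, h1, fun hi => h2 (inferInstanceAs (LocallyOfFinitePresentation (pullback.fst φ.left i.left))), ?_⟩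
  intro X g
  rw [h3]
  refine forall_congr' fun X' => forall_congr' fun x => forall_congr' fun a => ?_
  constructor
  · rintro ⟨b, hb⟩
    refine ⟨Over.homMk (b.left ≫ pullback.snd φ.left i.left) ?_, ?_⟩
    · rw [Category.assoc, ← Over.w i, ← pullback.condition_assoc, Over.w]
      exact Over.w b
    · apply Over.OverMorphism.ext
      change (lift (x ≫ g) a ≫ φ).left = (b.left ≫ pullback.snd φ.left i.left) ≫ i.left
      rw [← hb, Category.assoc b.left, ← pullback.condition]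
      rfl
  · rintro ⟨b, hb⟩
    refine ⟨Over.homMk (pullback.lift (lift (x ≫ g) a).left b.left (congrArg Over.Hom.left hb)) ?_, ?_⟩
    · change pullback.lift _ _ _ ≫ pullback.fst φ.left i.left ≫ (G ⊗ Y).hom = _
      rw [pullback.lift_fst_assoc, Over.w]
    · exact Over.OverMorphism.ext (pullback.lift_fst _ _ _)

/-- The transporter of `Y` into a closed subscheme. -/
theorem exists_transporter (G Y Y' : Over S) [GrpObj G] (hY : UGood Y) (y : Y ⟶ G) (y' : Y' ⟶ G)
    [IsClosedImmersion y'.left] :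
    ∃ (C : Over S) (c : C ⟶ G), IsClosedImmersion c.left ∧
      (LocallyOfFinitePresentation y'.left → LocallyOfFinitePresentation c.left) ∧
      ∀ (X : Over S) (g : X ⟶ G), (∃ z : X ⟶ C, z ≫ c = g) ↔
        ∀ (X' : Over S) (x : X' ⟶ X) (a : X' ⟶ Y), ∃ a' : X' ⟶ Y', (x ≫ g) * (a ≫ y) * (x ≫ g)⁻¹ = a' ≫ y' := by
  obtain ⟨C, c, h1, h2, h3⟩ := exists_closed_of_map G Y G Y' hY
    ((fst G Y) * (snd G Y ≫ y) * (fst G Y)⁻¹) y'
  refine ⟨C, c, h1, h2, fun X g => ?_⟩
  rw [h3]
  refine forall_congr' fun X' => forall_congr' fun x => forall_congr' fun a => ?_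
  rw [comp_mul, comp_mul, comp_inv, lift_fst, lift_snd_assoc]

/-- The centralizer of `Y`, for a separated group. -/
theorem exists_centralizer (G Y : Over S) [GrpObj G] [IsSeparated G.hom] (hY : UGood Y) (y : Y ⟶ G) :
    ∃ (C : Over S) (c : C ⟶ G), IsClosedImmersion c.left ∧
      (LocallyOfFiniteType G.hom → LocallyOfFinitePresentation c.left) ∧
      ∀ (X : Over S) (g : X ⟶ G), (∃ z : X ⟶ C, z ≫ c = g) ↔
        ∀ (X' : Over S) (x : X' ⟶ X) (a : X' ⟶ Y), (x ≫ g) * (a ≫ y) = (a ≫ y) * (x ≫ g) := by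
  let Δ : G ⟶ G ⊗ G := lift (𝟙 G) (𝟙 G)
  have hΔ : IsClosedImmersion Δ.left := inferInstanceAs (IsClosedImmersion (pullback.diagonal G.hom))
  obtain ⟨C, c, h1, h2, h3⟩ := exists_closed_of_map G Y (G ⊗ G) G hY
    (lift ((fst G Y) * (snd G Y ≫ y)) ((snd G Y ≫ y) * (fst G Y))) Δ
  refine ⟨C, c, h1, fun hG => h2 ?_, fun X g => ?_⟩
  · have h4 : LocallyOfFinitePresentation (Δ.left ≫ (fst G G).left) := by
      rw [← Over.comp_left, lift_fst]
      infer_instance
    have h5 : LocallyOfFiniteType (fst G G).left := inferInstanceAs (LocallyOfFiniteType (pullback.fst G.hom G.hom))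
    exact Groth.Agent.Ega43.FPOfComp.locallyOfFinitePresentation_of_comp _ (fst G G).left
  rw [h3]
  refine forall_congr' fun X' => forall_congr' fun x => forall_congr' fun a => ?_
  have h6 : lift (x ≫ g) a ≫ lift ((fst G Y) * (snd G Y ≫ y)) ((snd G Y ≫ y) * (fst G Y)) =
      lift ((x ≫ g) * (a ≫ y)) ((a ≫ y) * (x ≫ g)) := by
    rw [comp_lift, comp_mul, comp_mul, lift_fst, lift_snd_assoc]
  rw [h6]
  constructor
  · rintro ⟨b, hb⟩
    have e1 := congrArg (· ≫ fst G G) hb
    have e2 := congrArg (· ≫ snd G G) hb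
    simp only [Δ, lift_fst, lift_snd, Category.assoc, Category.comp_id] at e1 e2
    rw [e1, e2]
  · intro h
    refine ⟨(x ≫ g) * (a ≫ y), ?_⟩
    rw [← h, comp_lift, Category.comp_id]

end K20.Transp
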