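import Groth.Agent.SGA3x.K20.HomFT
import Groth.Agent.SGA3x.K20.Transp
import Groth.Prelude.Def_AutFam

/-!
# `Hom_{S-gr}(H, G)` for `H` finite locally free and `G` affine over `S`

`exists_representsHom`: representable by an affine `S`-scheme, locally of finite type (presentation) if `G` is.
-/

set_option autoImplicit false
universe u
open CategoryTheory MonoidalCategory CartesianMonoidalCategory MonObj GrpObj AlgebraicGeometry CategoryTheory.Limits

namespace K20.HomGrp

open K20.Transp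

variable {S : Scheme.{u}}

theorem exists_representsHom (H G : Over S) [GrpObj H] [GrpObj G] [IsFinite H.hom] [Flat H.hom]
    [LocallyOfFinitePresentation H.hom] [IsAffineHom G.hom] :
    ∃ (A : Over S) (υ : H ⊗ A ⟶ G), AutFam.RepresentsHom H G A υ ∧ IsAffineHom A.hom ∧
      (LocallyOfFiniteType G.hom → LocallyOfFiniteType A.hom) ∧
      (LocallyOfFinitePresentation G.hom → LocallyOfFinitePresentation A.hom) := by
  obtain ⟨M, ev, hMa, hMfp, hMft, hM⟩ := HomFT.exists_homScheme H G
  have hf1 : IsFinite (H ⊗ H).hom := inferInstanceAs (IsFinite (pullback.fst H.hom H.hom ≫ H.hom))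
  have hf2 : Flat (H ⊗ H).hom := inferInstanceAs (Flat (pullback.fst H.hom H.hom ≫ H.hom))
  have hf3 : LocallyOfFinitePresentation (H ⊗ H).hom :=
    inferInstanceAs (LocallyOfFinitePresentation (pullback.fst H.hom H.hom ≫ H.hom))
  let Δ : G ⟶ G ⊗ G := lift (𝟙 G) (𝟙 G)
  have hΔ : IsClosedImmersion Δ.left := inferInstanceAs (IsClosedImmersion (pullback.diagonal G.hom))
  let a : M ⊗ (H ⊗ H) ⟶ H := snd M (H ⊗ H) ≫ fst H H
  let b : M ⊗ (H ⊗ H) ⟶ H := snd M (H ⊗ H) ≫ snd H H
  let m : M ⊗ (H ⊗ H) ⟶ M := fst M (H ⊗ H)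
  let φ : M ⊗ (H ⊗ H) ⟶ G ⊗ G := lift (lift (a * b) m ≫ ev) ((lift a m ≫ ev) * (lift b m ≫ ev))
  obtain ⟨C, c, h1, h2, h3⟩ := exists_closed_of_map M (H ⊗ H) (G ⊗ G) G (K20.UG.ugood_of_isFinite _) φ Δ
  have hc : Mono c := Over.mono_of_mono_left c
  -- the condition on points
  have key : ∀ {X' : Over S} (n : X' ⟶ M) (p q : X' ⟶ H),
      (∃ β : X' ⟶ G, lift n (lift p q) ≫ φ = β ≫ Δ) ↔
        lift (p * q) n ≫ ev = (lift p n ≫ ev) * (lift q n ≫ ev) := by
    intro X' n p q
    have e0 : lift n (lift p q) ≫ φ = lift (lift (p * q) n ≫ ev) ((lift p n ≫ ev) * (lift q n ≫ ev)) := by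
      have ea : lift n (lift p q) ≫ a = p := by rw [lift_snd_assoc, lift_fst]
      have eb : lift n (lift p q) ≫ b = q := by rw [lift_snd_assoc, lift_snd]
      have em : lift n (lift p q) ≫ m = n := lift_fst _ _
      simp only [φ, comp_lift, comp_mul, comp_lift_assoc, ea, eb, em]
    rw [e0]
    constructor
    · rintro ⟨β, hβ⟩
      have e1 := congrArg (· ≫ fst G G) hβ
      have e2 := congrArg (· ≫ snd G G) hβ
      simp only [Δ, lift_fst, lift_snd, Category.assoc, Category.comp_id] at e1 e2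
      rw [e1, e2]
    · intro h
      refine ⟨lift (p * q) n ≫ ev, ?_⟩
      rw [← h, comp_lift, Category.comp_id]
  refine ⟨C, (H ◁ c) ≫ ev, ⟨?_, ?_⟩, ?_, ?_, ?_⟩
  · intro X g₁ g₂ t
    have h4 := (h3 X (t ≫ c)).1 ⟨t, rfl⟩ X (𝟙 X) (lift g₁ g₂)
    rw [Category.id_comp, key] at h4
    have e : ∀ g : X ⟶ H, lift g t ≫ (H ◁ c) ≫ ev = lift g (t ≫ c) ≫ ev := by
      intro g
      rw [lift_whiskerLeft_assoc]
    rw [e, e, e]
    exact h4
  · intro T ψ hψ
    obtain ⟨v, hv, huniq⟩ := hM T ψ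
    have h5 : ∃ z : T ⟶ C, z ≫ c = v := by
      rw [h3]
      intro X' x y
      have e1 : ∀ g : X' ⟶ H, lift g (x ≫ v) ≫ ev = lift g x ≫ ψ := by
        intro g
        rw [← hv, lift_whiskerLeft_assoc]
      have := (key (x ≫ v) (y ≫ fst H H) (y ≫ snd H H)).2 (by
        rw [e1, e1, e1]
        exact hψ X' _ _ _)
      rwa [← comp_lift, lift_fst_snd, Category.comp_id] at this
    obtain ⟨z, hz⟩ := h5
    refine ⟨z, ?_, fun z' hz' => ?_⟩
    · dsimp only
      rw [← whiskerLeft_comp_assoc, hz, hv]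
    · rw [← cancel_mono c, hz]
      apply huniq
      dsimp only at hz' ⊢
      rw [MonoidalCategory.whiskerLeft_comp, Category.assoc, hz']
  · rw [← Over.w c]
    infer_instance
  · intro hG
    have := hMft hG
    rw [← Over.w c]
    infer_instance
  · intro hG
    have := hMfp hG
    have h4 : LocallyOfFinitePresentation (Δ.left ≫ (fst G G).left) := by
      rw [← Over.comp_left, lift_fst]
      infer_instance
    have h5 : LocallyOfFiniteType (fst G G).left := inferInstanceAs (LocallyOfFiniteType (pullback.fst G.hom G.hom))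
    have h6 := h2 (Groth.Agent.Ega43.FPOfComp.locallyOfFinitePresentation_of_comp _ (fst G G).left)
    rw [← Over.w c]
    infer_instance

end K20.HomGrp
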