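import Groth.Agent.Dix.NormalLoc
import Groth.Agent.Ega1.GenPts
import Groth.Agent.Fdesc.IntegralFib
import Groth.Prelude.Def_Red
import Mathlib.AlgebraicGeometry.Geometrically.Irreducible

/-!
# Smooth morphisms with connected geometric fibres are geometrically irreducible
-/

set_option autoImplicit false
universe u
open CategoryTheory MonoidalCategory CartesianMonoidalCategory AlgebraicGeometry CategoryTheory.Limits

namespace K20.GeomIrr

theorem irreducibleSpace_of_smooth {X : Scheme.{u}} {k : Type u} [Field k] (f : X ⟶ Spec (CommRingCat.of k)) [Smooth f]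
    [ConnectedSpace X] : IrreducibleSpace X := by
  have h1 : IsLocallyNoetherian X := LocallyOfFiniteType.isLocallyNoetherian f
  have h2 : IsIntegral X := (Groth.Agent.Ega1.GenPts.isIntegral_iff X).2
    ⟨inferInstance, fun x => (Groth.Agent.Dix.NormalLoc.stalk_of_smooth f x).1⟩
  infer_instance

theorem geomIrr {S : Scheme.{u}} (Y : Over S) [Smooth Y.hom]
    (h : ∀ s : S, ConnectedSpace ↥(Red.geomFibre s Y).left) : GeometricallyIrreducible Y.hom := by
  rw [GeometricallyIrreducible.iff_geometricallyIrreducible_fiber]
  intro s
  have h1 : Smooth (Red.geomFibre s Y).hom := inferInstanceAs (Smooth (pullback.snd _ _))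
  have h2 := h s
  have h3 : IrreducibleSpace ↥(Red.geomFibre s Y).left := irreducibleSpace_of_smooth (Red.geomFibre s Y).hom
  let a : Spec (CommRingCat.of (AlgebraicClosure (S.residueField s))) ⟶ Spec (S.residueField s) :=
    Spec.map (CommRingCat.ofHom (algebraMap (S.residueField s) (AlgebraicClosure (S.residueField s))))
  have h4 : IsPullback (pullback.fst (Y.hom.fiberToSpecResidueField s) a ≫ Y.hom.fiberι s)
      (pullback.snd (Y.hom.fiberToSpecResidueField s) a) Y.hom (a ≫ S.fromSpecResidueField s) :=
    (IsPullback.of_hasPullback _ _).paste_horiz (IsPullback.of_hasPullback Y.hom (S.fromSpecResidueField s))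
  have h5 : IrreducibleSpace ↥(pullback (Y.hom.fiberToSpecResidueField s) a) :=
    (Scheme.homeoOfIso h4.isoPullback).symm.irreducibleSpace_iff.1 h3
  exact Groth.Agent.Fdesc.IntegralFib.geometricallyIrreducible_of_irreducibleSpace_pullback
    (k := S.residueField s) (Y.hom.fiberToSpecResidueField s) a

end K20.GeomIrr
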