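import Groth.Agent.SGA3x.K20.CExtMain
import Groth.Prelude.Def_GLin5

/-!
# Central extensions of `SL_2` split uniquely: Hopf form
-/

set_option autoImplicit false
universe u

namespace K20.CExtHopf

open K20.SL2El K20.CEx TensorProduct CoordGrp

variable {k : Type u} [CommRing k]

/-- the coordinate ring of `SL_2` -/
abbrev O (k : Type u) [CommRing k] := CoordGrp.SLn 2 k

lemma comul_X (i j : Fin 2) :
    CoalgebraStruct.comul (R := k) (SLn.X i j : O k) = ∑ l : Fin 2, SLn.X i l ⊗ₜ[k] SLn.X l j := by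
  have h1 := congr($((SLn.mkHom 2 k).map_comp_comul) (GLn.X i j))
  have h2 : (CoalgebraStruct.comul (R := k) (GLn.X i j : GLn 2 k)) = ∑ l : Fin 2, GLn.X i l ⊗ₜ[k] GLn.X l j := GLn.comul_X i j
  change TensorProduct.map _ _ (CoalgebraStruct.comul (R := k) (GLn.X i j : GLn 2 k)) = CoalgebraStruct.comul (R := k) (SLn.X i j : O k) at h1
  rw [← h1, h2, map_sum]
  rfl

lemma counit_X (i j : Fin 2) : CoalgebraStruct.counit (R := k) (SLn.X i j : O k) = if i = j then (1 : k) else 0 := by
  have h1 := congr($((SLn.mkHom 2 k).counit_comp) (GLn.X i j))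
  rw [← GLn.counit_X]
  exact h1

lemma Dinv_eq : (SLn.mk 2 k GLn.Dinv : O k) = 1 := by
  have h1 : (SLn.mk 2 k (GLn.Dinv * GLn.det) : O k) = 1 := by rw [GLn.Dinv_mul_det, map_one]
  rwa [map_mul, SLn.det_eq_one, mul_one] at h1

lemma algHom_ext {B : Type*} [CommRing B] [Algebra k B] {f g : O k →ₐ[k] B} (h : ∀ i j, f (SLn.X i j) = g (SLn.X i j)) :
    f = g := SLn.algHom_ext h (by rw [Dinv_eq, map_one, map_one])

lemma det_eq_one {B : Type*} [CommRing B] [Algebra k B] (f : O k →ₐ[k] B) :
    (Matrix.of fun i j => f (SLn.X i j) : Matrix (Fin 2) (Fin 2) B).det = 1 := by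
  have h1 : (f.comp (SLn.mk 2 k)) GLn.det = 1 := by
    rw [AlgHom.comp_apply, SLn.det_eq_one, map_one]
  rw [GLn.det_eq, AlgHom.map_det] at h1
  exact h1

/-- the matrix of a point -/
noncomputable def mat {B : Type u} [CommRing B] [Algebra k B] (f : O k →ₐ[k] B) : SL B :=
  ⟨Matrix.of fun i j => f (SLn.X i j), det_eq_one f⟩

lemma mat_apply {B : Type u} [CommRing B] [Algebra k B] (f : O k →ₐ[k] B) (i j : Fin 2) : mat f i j = f (SLn.X i j) := rfl

variable {R R' : Type u} [CommRing R] [Algebra k R] [CommRing R'] [Algebra k R']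

lemma mat_comp (f : O k →ₐ[k] R) (g : R →ₐ[k] R') : mat (g.comp f) = CExt.sm g (mat f) := by
  apply sl_ext <;> rfl

/-- the point of a matrix -/
noncomputable def pt (m : SL R) : O k →ₐ[k] R := SLn.pt 2 k m.1 m.2

lemma mat_pt (m : SL R) : mat (pt (k := k) m) = m := by
  apply sl_ext <;> exact SLn.pt_X m.1 m.2 _ _

lemma pt_mat (f : O k →ₐ[k] R) : pt (mat f) = f := algHom_ext fun i j => SLn.pt_X _ _ i j

lemma mul_fn_apply {B : Type u} [CommRing B] [HopfAlgebra k B] (f g : Pt k B R) (b : B) :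
    (f * g).fn b = Algebra.TensorProduct.lift f.fn g.fn (fun _ _ => .all ..) (CoalgebraStruct.comul (R := k) b) :=
  AlgHom.convMul_apply _ _ _

lemma mat_mul (f g : Pt k (O k) R) : mat (f * g).fn = mat f.fn * mat g.fn := by
  have h1 : ∀ i j, (f * g).fn (SLn.X i j) = ∑ l, f.fn (SLn.X i l) * g.fn (SLn.X l j) := by
    intro i j
    have h2 : (f * g).fn (SLn.X i j) = Algebra.TensorProduct.lift f.fn g.fn (fun _ _ => .all ..)
        (CoalgebraStruct.comul (R := k) (SLn.X i j : O k)) := AlgHom.convMul_apply _ _ _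
    rw [h2, comul_X, map_sum]
    rfl
  ext i j
  rw [Matrix.SpecialLinearGroup.coe_mul, Matrix.mul_apply]
  exact h1 i j

lemma mat_one : mat (1 : Pt k (O k) R).fn = 1 := by
  ext i j
  change algebraMap k R (CoalgebraStruct.counit (R := k) (SLn.X i j : O k)) = _
  rw [counit_X, Matrix.SpecialLinearGroup.coe_one, Matrix.one_apply]
  split_ifs <;> simp

lemma mkPt_pt_mul (m m' : SL R) : mkPt (pt (k := k) (m * m')) = mkPt (pt m) * mkPt (pt m') := by
  apply pt_ext'
  have h1 := pt_mat (k := k) (mkPt (pt m) * mkPt (pt m')).fn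
  rw [mat_mul, fn_mkPt, fn_mkPt, mat_pt, mat_pt] at h1
  exact h1

lemma mkPt_pt_one : mkPt (pt (k := k) (1 : SL R)) = 1 := by
  apply pt_ext'
  have h1 := pt_mat (k := k) (1 : Pt k (O k) R).fn
  rw [mat_one] at h1
  exact h1

variable {A : Type u} [CommRing A] [HopfAlgebra k A]

/-- precomposition with a bialgebra map -/
lemma comp_mul_bialg {B : Type u} [CommRing B] [HopfAlgebra k B] (ψ : B →ₐc[k] A) (f g : Pt k A R) :
    mkPt ((f * g).fn.comp (ψ : B →ₐ[k] A)) = mkPt (f.fn.comp (ψ : B →ₐ[k] A)) * mkPt (g.fn.comp (ψ : B →ₐ[k] A)) :=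
  pt_ext' (AlgHom.convMul_comp_bialgHom_distrib f g ψ)

lemma comp_one_bialg {B : Type u} [CommRing B] [HopfAlgebra k B] (ψ : B →ₐc[k] A) :
    mkPt ((1 : Pt k A R).fn.comp (ψ : B →ₐ[k] A)) = 1 := by
  apply pt_ext
  intro b
  change algebraMap k R (CoalgebraStruct.counit (R := k) (ψ b)) = algebraMap k R (CoalgebraStruct.counit (R := k) b)
  congr 1
  exact congr($(ψ.counit_comp) b)

/-- the central extension attached to a Hopf algebra map -/
noncomputable def ext (ψ : O k →ₐc[k] A) (hfl : (ψ : O k →+* A).Flat)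
    (hsurj : Function.Surjective (PrimeSpectrum.comap (ψ : O k →+* A)))
    (hcen : ∀ (R : Type u) [CommRing R] [Algebra k R] (g z : A →ₐ[k] R),
      z.comp (ψ : O k →ₐ[k] A) = (Algebra.ofId k R).comp (Bialgebra.counitAlgHom k (O k)) →
      WithConv.toConv g * WithConv.toConv z = WithConv.toConv z * WithConv.toConv g) : CExt k A where
  π {R} _ _ :=
    { toFun := fun g => mat (g.fn.comp (ψ : O k →ₐ[k] A))
      map_one' := by
        have h1 := comp_one_bialg (R := R) ψ
        rw [← mat_one (k := k), ← h1]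
        rfl
      map_mul' := fun f g => by
        change mat (mkPt ((f * g).fn.comp (ψ : O k →ₐ[k] A))).fn = _
        rw [comp_mul_bialg, mat_mul]
        rfl }
  nat {R R'} _ _ _ _ f g := by
    change mat ((pmap f g).fn.comp (ψ : O k →ₐ[k] A)) = CExt.sm f (mat (g.fn.comp (ψ : O k →ₐ[k] A)))
    rw [← mat_comp]
    rfl
  central {R} _ _ g z hz := by
    refine hcen R g.fn z.fn ?_
    have h1 : mat (z.fn.comp (ψ : O k →ₐ[k] A)) = mat (1 : Pt k (O k) R).fn := by
      rw [mat_one]
      exact hz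
    rw [← pt_mat (z.fn.comp (ψ : O k →ₐ[k] A)), h1, pt_mat]
    rfl
  lift {R} _ _ m := by
    let _ : Algebra (O k) A := (ψ : O k →+* A).toAlgebra
    let _ : Algebra (O k) R := (pt (k := k) m : O k →+* R).toAlgebra
    have h0 : Module.FaithfullyFlat (O k) A := by
      have := (RingHom.FaithfullyFlat.iff_flat_and_comap_surjective (f := (ψ : O k →+* A))).2 ⟨hfl, hsurj⟩
      exact this
    have : IsScalarTower k (O k) A := IsScalarTower.of_algebraMap_eq fun x => ((ψ : O k →ₐ[k] A).commutes x).symm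
    have : IsScalarTower k (O k) R := IsScalarTower.of_algebraMap_eq fun x => ((pt (k := k) m).commutes x).symm
    let p : R →ₐ[k] R ⊗[O k] A := Algebra.TensorProduct.includeLeft
    let q : A →ₐ[k] R ⊗[O k] A := (Algebra.TensorProduct.includeRight : A →ₐ[O k] R ⊗[O k] A).restrictScalars k
    have hpq : p.comp (pt (k := k) m) = q.comp (ψ : O k →ₐ[k] A) := by
      ext x
      change (algebraMap (O k) R x) ⊗ₜ[O k] (1 : A) = (1 : R) ⊗ₜ[O k] (algebraMap (O k) A x)
      rw [Algebra.algebraMap_eq_smul_one, TensorProduct.smul_tmul, ← Algebra.algebraMap_eq_smul_one]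
    refine ⟨R ⊗[O k] A, inferInstance, inferInstance, p, ?_, mkPt q, ?_⟩
    · have : Module.FaithfullyFlat R (R ⊗[O k] A) := inferInstance
      exact (RingHom.faithfullyFlat_algebraMap_iff (R := R) (S := R ⊗[O k] A)).2 this
    · change mat (q.comp (ψ : O k →ₐ[k] A)) = CExt.sm p m
      rw [← hpq, mat_comp, mat_pt]

/-- **Central extensions of `SL_2` by affine groups split uniquely.** -/
theorem main (ψ : O k →ₐc[k] A) (hfl : (ψ : O k →+* A).Flat)
    (hsurj : Function.Surjective (PrimeSpectrum.comap (ψ : O k →+* A)))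
    (hcen : ∀ (R : Type u) [CommRing R] [Algebra k R] (g z : A →ₐ[k] R),
      z.comp (ψ : O k →ₐ[k] A) = (Algebra.ofId k R).comp (Bialgebra.counitAlgHom k (O k)) →
      WithConv.toConv g * WithConv.toConv z = WithConv.toConv z * WithConv.toConv g) :
    ∃! σ : A →ₐc[k] O k, σ.comp ψ = BialgHom.id k (O k) := by
  let E := ext ψ hfl hsurj hcen
  have hEπ : ∀ {R : Type u} [CommRing R] [Algebra k R] (g : Pt k A R), E.π g = mat (g.fn.comp (ψ : O k →ₐ[k] A)) :=
    fun g => rfl
  let U : SL (O k) := mat (AlgHom.id k (O k))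
  let s : Pt k A (O k) := E.sig U
  -- the value of the section at any point
  have hs : ∀ {R : Type u} [CommRing R] [Algebra k R] (f : O k →ₐ[k] R), pmap f s = E.sig (mat f) := by
    intro R _ _ f
    have h1 : mat f = CExt.sm f U := mat_comp (AlgHom.id k (O k)) f
    rw [E.sig_map, h1]
  let σ : A →ₐc[k] O k := BialgHom.ofAlgHom s.fn
    (by
      have h1 := hs (Bialgebra.counitAlgHom k (O k))
      have h2 : mat (Bialgebra.counitAlgHom k (O k)) = 1 := mat_one (k := k) (R := k)
      rw [h2, E.sig_one] at h1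
      have h3 := congrArg Pt.fn h1
      exact h3)
    (by
      have h1 := hs (Bialgebra.comulAlgHom k (O k))
      let i₁ : O k →ₐ[k] O k ⊗[k] O k := Algebra.TensorProduct.includeLeft
      let i₂ : O k →ₐ[k] O k ⊗[k] O k := Algebra.TensorProduct.includeRight
      have h2 : mat (Bialgebra.comulAlgHom k (O k)) = mat i₁ * mat i₂ := by
        have h3 : mat (mkPt i₁ * mkPt i₂).fn = mat i₁ * mat i₂ := mat_mul _ _
        rw [← h3]
        congr 1
        apply algHom_ext
        intro i j
        rw [mul_fn_apply, Bialgebra.comulAlgHom_apply, comul_X, map_sum]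
        refine Finset.sum_congr rfl fun l _ => ?_
        rw [Algebra.TensorProduct.lift_tmul]
        change _ = ((SLn.X i l : O k) ⊗ₜ[k] (1 : O k)) * ((1 : O k) ⊗ₜ[k] (SLn.X l j : O k))
        rw [Algebra.TensorProduct.tmul_mul_tmul, mul_one, one_mul]
      rw [h2, E.sig_mul, ← hs, ← hs] at h1
      have h4 := congrArg Pt.fn h1
      have h5 : (pmap i₁ s * pmap i₂ s).fn = (Algebra.TensorProduct.map s.fn s.fn).comp (Bialgebra.comulAlgHom k A) := by
        ext a
        rw [mul_fn_apply]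
        have h6 : Algebra.TensorProduct.lift (i₁.comp s.fn) (i₂.comp s.fn) (fun _ _ => .all ..) =
            Algebra.TensorProduct.map s.fn s.fn := by
          ext x <;> simp [i₁, i₂]
        exact DFunLike.congr_fun h6 _
      rw [h5] at h4
      exact h4.symm)
  have hσ : (σ : A →ₐ[k] O k) = s.fn := rfl
  refine ⟨σ, ?_, fun σ' hσ' => ?_⟩
  · have h1 : E.π s = U := E.π_sig U
    rw [hEπ] at h1
    have h2 : s.fn.comp (ψ : O k →ₐ[k] A) = AlgHom.id k (O k) := by
      rw [← pt_mat (s.fn.comp (ψ : O k →ₐ[k] A)), h1, pt_mat]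
    change σ.comp ψ = _
    apply BialgHom.coe_toAlgHom_injective
    exact h2
  · -- uniqueness
    let τ : ∀ {R : Type u} [CommRing R] [Algebra k R], SL R →* Pt k A R := fun {R} _ _ =>
      { toFun := fun m => mkPt ((pt (k := k) m).comp (σ' : A →ₐ[k] O k))
        map_one' := by
          have h1 := comp_one_bialg (R := R) σ'
          rw [← mkPt_pt_one] at h1
          exact h1
        map_mul' := fun m m' => by
          have h1 := comp_mul_bialg (R := R) σ' (mkPt (pt m)) (mkPt (pt m'))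
          rw [← mkPt_pt_mul] at h1
          exact h1 }
    have hτ : ∀ {R R' : Type u} [CommRing R] [Algebra k R] [CommRing R'] [Algebra k R'] (f : R →ₐ[k] R') (m : SL R),
        pmap f (τ m) = τ (CExt.sm f m) := by
      intro R R' _ _ _ _ f m
      apply pt_ext'
      change f.comp ((pt (k := k) m).comp (σ' : A →ₐ[k] O k)) = (pt (k := k) (CExt.sm f m)).comp (σ' : A →ₐ[k] O k)
      rw [← AlgHom.comp_assoc]
      congr 1
      rw [← pt_mat (f.comp (pt m)), mat_comp, mat_pt]
    have hπ : ∀ {R : Type u} [CommRing R] [Algebra k R] (m : SL R), E.π (τ m) = m := by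
      intro R _ _ m
      rw [hEπ]
      change mat (((pt (k := k) m).comp (σ' : A →ₐ[k] O k)).comp (ψ : O k →ₐ[k] A)) = m
      have h1 : (σ' : A →ₐ[k] O k).comp (ψ : O k →ₐ[k] A) = AlgHom.id k (O k) := congrArg (fun f : O k →ₐc[k] O k => (f : O k →ₐ[k] O k)) hσ'
      rw [AlgHom.comp_assoc, h1, AlgHom.comp_id, mat_pt]
    have h1 := E.eq_sig τ hτ hπ U
    apply BialgHom.coe_toAlgHom_injective
    have h2 : (τ U).fn = (σ' : A →ₐ[k] O k) := by
      change (pt (k := k) U).comp (σ' : A →ₐ[k] O k) = _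
      rw [pt_mat, AlgHom.id_comp]
    change (σ' : A →ₐ[k] O k) = s.fn
    rw [← h2, h1]

end K20.CExtHopf
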