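import Groth.Agent.SGA3x.K19.TorQuot

/-!
# Quotients of split tori and cocharacters over a connected base
-/

set_option autoImplicit false
universe u
open CategoryTheory MonoidalCategory CartesianMonoidalCategory MonObj GrpObj AlgebraicGeometry Limits

namespace K20.SplitQuot

open Groth.Agent Groth.Agent.Sga3 Groth.Agent.Sga3B Groth.Agent.Sga3B.DSPts Groth.Agent.Sga3B.DSRigid
open Groth.Agent.Sga3.H828.DiagChart Groth.Agent.Sga3.H828.DiagChart.Chart Groth.Agent.Sga3.H827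
open K19.Ad K19.LocSplit

variable {S : Scheme.{u}}

/-- the quotient of a split torus by a subgroup of multiplicative type over a connected base is split -/
theorem exists_split_quotient [ConnectedSpace S] {T H Q : Over S} [GrpObj T] [GrpObj H] [GrpObj Q] (r : ℕ)
    (hT : Red.IsSplitTorusWith (Fin r → ℤ) T) (i : H ⟶ T) [IsMonHom i] [Mono i] (hH : SGA3x.IsMultTypeFT H)
    (q : T ⟶ Q) [IsMonHom q] (hq : RedSub.IsQuotient i q) :
    ∃ r' : ℕ, r' ≤ r ∧ Red.IsSplitTorusWith (Fin r' → ℤ) Q := by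
  have hT' := BorSpan613.isTorus_of_isSplitTorusWith hT
  obtain ⟨h1, h2⟩ := K19.TorQuot.quot_props hT' i hH q hq
  have h3 := hq.1
  have h4 := hq.2.1
  have hA := TorusAlgClosed.isAffineHom_of_isTorus hT'
  have hqc : QuasiCompact q.left := by
    have h1 : QuasiCompact (q.left ≫ Q.hom) := by
      rw [Over.w]
      infer_instance
    exact QuasiCompact.of_comp q.left Q.hom
  obtain ⟨e⟩ := hT
  have he : IsIso e.inv.hom.hom := inferInstanceAs (IsIso ((Grp.forget _).map e.inv))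
  have he' : IsIso e.inv.hom.hom.left := inferInstanceAs (IsIso ((Over.forget S).map e.inv.hom.hom))
  let h : Red.DS S (Fin r → ℤ) ⟶ Q := e.inv.hom.hom ≫ q
  have g1 : Flat h.left := by
    change Flat (e.inv.hom.hom ≫ q).left
    rw [Over.comp_left]; infer_instance
  have g2 : Surjective h.left := by
    change Surjective (e.inv.hom.hom ≫ q).left
    rw [Over.comp_left]; infer_instance
  have g3 : QuasiCompact h.left := by
    change QuasiCompact (e.inv.hom.hom ≫ q).left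
    rw [Over.comp_left]; infer_instance
  obtain ⟨N, hN⟩ := exists_ad_top h
  have k1 : Flat (Red.DSmap S N.subtype).left := DSFlat.flat_DSmap _ S N.subtype_injective
  have k2 : Surjective (Red.DSmap S N.subtype).left := DSFlat.surjective_DSmap _ S N.subtype_injective
  have k3 : IsAffineHom (Red.DSmap S N.subtype).left := DSFlat.isAffineHom_DSmap _ S
  have k4 : IsMonHom (Red.DSmap S N.subtype) := KerLoc.isMonHom_DSmap _
  have key : ∀ (X : Over S) (x : X ⟶ Red.DS S (Fin r → ℤ)), x ≫ h = 1 ↔ x ≫ Red.DSmap S N.subtype = 1 := by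
    intro X x
    rw [hN X (fun _ _ => trivial) x, ← (dsEquiv X N).symm.injective.eq_iff, map_one]
    change _ ↔ dsChar _ = 1
    rw [dsChar_DSmap]
    constructor
    · intro h0
      refine MonoidHom.ext fun n => ?_
      exact h0 (n.toAdd : Fin r → ℤ) n.toAdd.2
    · intro h0 n hn
      exact congr($h0 (Multiplicative.ofAdd ⟨n, hn⟩))
  obtain ⟨E, -⟩ := UQ.exists_iso h (Red.DSmap S N.subtype) key
  obtain ⟨k, ⟨ε⟩, hk⟩ := exists_fin_equiv N
  exact ⟨k, hk, isSplit_of_addEquiv ε ⟨E⟩⟩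

/-- A cocharacter factors through the greatest split subtorus. -/
theorem cochar_factor [ConnectedSpace S] {T T₀ : Over S} [GrpObj T] [GrpObj T₀] (hT : Red.IsTorus T) (j₀ : T₀ ⟶ T)
    (hmax : ∀ (T' : Over S) [GrpObj T'] (j' : T' ⟶ T) [IsMonHom j'] [Mono j'] (r' : ℕ),
      Red.IsSplitTorusWith (Fin r' → ℤ) T' → ∃ g : T' ⟶ T₀, g ≫ j₀ = j')
    (lam : Red.Gm S ⟶ T) [IsMonHom lam] : ∃ mu : Red.Gm S ⟶ T₀, mu ≫ j₀ = lam := by
  have hA := TorusAlgClosed.isAffineHom_of_isTorus hT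
  have hsm := TorusAlgClosed.smooth_of_isTorus hT
  let ε₁ : (Fin 1 → ℤ) ≃+ ℤ := (LinearEquiv.funUnique (Fin 1) ℤ ℤ).toAddEquiv
  let a : Red.DS S (Fin 1 → ℤ) ⟶ Red.DS S ℤ := Red.DSmap S ε₁.symm.toAddMonoidHom
  have ha : IsIso a := K19.DSKit.isIso_DSmap S _ ε₁.symm.bijective
  have ham : IsMonHom a := KerLoc.isMonHom_DSmap _
  have ham' : IsMonHom (a ≫ lam) := inferInstance
  obtain ⟨N, hN⟩ := exists_ad_top (a ≫ lam)
  obtain ⟨j, hj, hjm, hjh⟩ := exists_factor hN
  obtain ⟨k, ⟨ε⟩, hk⟩ := exists_fin_equiv N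
  obtain ⟨g, hg⟩ := hmax (Red.DS S N) j k (isSplit_of_addEquiv ε (K19.SplitTor.isSplit_DS S N))
  refine ⟨inv a ≫ Red.DSmap S N.subtype ≫ g, ?_⟩
  rw [Category.assoc, Category.assoc, hg, hjh, IsIso.inv_hom_id_assoc]

end K20.SplitQuot
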