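import Groth.Agent.SGA3x.K20.ChartRel
import Groth.Agent.SGA3x.K19.LocSplitMax

/-!
# Locally split tori over an irreducible base are split
-/

set_option autoImplicit false
universe u
open CategoryTheory MonoidalCategory CartesianMonoidalCategory MonObj GrpObj AlgebraicGeometry Limits

namespace K20.LocSplitIrr

open Groth.Agent Groth.Agent.Sga3 Groth.Agent.Sga3B Groth.Agent.Sga3B.DSPts
open Groth.Agent.Sga3.H828.DiagChart Groth.Agent.Sga3.H828.DiagChart.Chart Groth.Agent.Sga3.H827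
open K19.Ad K19.LocSplit K20.ChartRel

variable {S : Scheme.{u}} {T : Over S} [GrpObj T] {M : Type} [AddCommGroup M]

/-- Gluing of compatible charts. -/
theorem exists_glue (V : S → Scheme.{u}) (v : ∀ s, V s ⟶ S) [∀ s, IsOpenImmersion (v s)] (hv : ∀ s, s ∈ Set.range (v s))
    (c : ∀ s, Chart T (Over.mk (v s)) M) (hc : ∀ s s', Rel (c s) (c s') ⊤ (AddMonoidHom.id M)) :
    ∃ f : T ⟶ Red.DS S M, ∀ (s : S) (X : Over S) (t : X ⟶ Over.mk (v s)) (x : X ⟶ T),
      x ≫ f = dsEquiv X M ((c s).chr t x) := by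
  have ht : ∀ s, Nonempty (res T (v s).opensRange ⟶ Over.mk (v s)) := fun s =>
    exists_hom_of_range (v s) (range_res T _)
  let t : ∀ s, res T (v s).opensRange ⟶ Over.mk (v s) := fun s => (ht s).some
  let f : ∀ s, res T (v s).opensRange ⟶ Red.DS S M := fun s => dsEquiv _ M ((c s).chr (t s) (inc T _))
  let 𝒰 : T.left.OpenCover := T.left.openCoverOfIsOpenCover (fun s : S => T.hom ⁻¹ᵁ ((v s).opensRange)) (by
    rw [TopologicalSpace.IsOpenCover, eq_top_iff]
    intro x _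
    simp only [TopologicalSpace.Opens.mem_iSup]
    exact ⟨T.hom x, hv _⟩)
  have hcompat : ∀ s s' : S, pullback.fst (𝒰.f s) (𝒰.f s') ≫ (f s).left = pullback.snd (𝒰.f s) (𝒰.f s') ≫ (f s').left := by
    intro s s'
    let P : Over S := Over.mk (pullback.fst (𝒰.f s) (𝒰.f s') ≫ (res T (v s).opensRange).hom)
    let p1 : P ⟶ res T (v s).opensRange := Over.homMk (pullback.fst (𝒰.f s) (𝒰.f s')) rfl
    have hw : pullback.fst (𝒰.f s) (𝒰.f s') ≫ 𝒰.f s = pullback.snd (𝒰.f s) (𝒰.f s') ≫ 𝒰.f s' := pullback.condition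
    let p2 : P ⟶ res T (v s').opensRange := Over.homMk (pullback.snd (𝒰.f s) (𝒰.f s')) (by
      change pullback.snd (𝒰.f s) (𝒰.f s') ≫ 𝒰.f s' ≫ T.hom = pullback.fst (𝒰.f s) (𝒰.f s') ≫ 𝒰.f s ≫ T.hom
      rw [← Category.assoc, ← hw, Category.assoc])
    have h1 : p1 ≫ inc T _ = p2 ≫ inc T _ := by
      ext1
      exact hw
    have h2 : p1 ≫ f s = p2 ≫ f s' := by
      simp only [f]
      rw [dsEquiv_naturality, dsEquiv_naturality, ← (c s).chr_comp, ← (c s').chr_comp, h1,
        hc s s' P (fun _ _ => trivial) (p1 ≫ t s) (p2 ≫ t s') (p2 ≫ inc T _)]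
      rfl
    exact congr(($h2).left)
  let F : T.left ⟶ (Red.DS S M).left := 𝒰.glueMorphisms (fun s => (f s).left) hcompat
  have hF : ∀ s, 𝒰.f s ≫ F = (f s).left := fun s => 𝒰.ι_glueMorphisms _ hcompat s
  let F' : T ⟶ Red.DS S M := Over.homMk F (by
    refine 𝒰.hom_ext _ _ fun s => ?_
    rw [← Category.assoc, hF]
    exact Over.w (f s))
  refine ⟨F', fun s X t' x => ?_⟩
  -- `x` factors through the restriction of `T`
  have hr : Set.range x.left ⊆ Set.range (T.hom ⁻¹ᵁ (v s).opensRange).ι := by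
    rw [Scheme.Opens.range_ι]
    rintro _ ⟨z, rfl⟩
    change T.hom (x.left z) ∈ Set.range (v s)
    rw [← Scheme.Hom.comp_apply, Over.w x, ← Over.w t']
    exact ⟨t'.left z, (Scheme.Hom.comp_apply _ _ _).symm⟩
  obtain ⟨k, hk⟩ := exists_lift_of_range _ x.left hr
  let k' : X ⟶ res T (v s).opensRange := Over.homMk k (by
    change k ≫ (T.hom ⁻¹ᵁ (v s).opensRange).ι ≫ T.hom = _
    rw [← Category.assoc, hk, Over.w])
  have h1 : k' ≫ inc T _ = x := by
    ext1
    exact hk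
  have h2 : inc T (v s).opensRange ≫ F' = f s := by
    ext1
    exact hF s
  rw [← h1, Category.assoc, h2]
  simp only [f]
  rw [dsEquiv_naturality, ← (c s).chr_comp, hom_ext_open (v s) (k' ≫ t s) t']

/-- **A locally split torus over an irreducible base is split.** -/
theorem isSplit [IrreducibleSpace S] (h : IsLocSplit T) : ∃ r : ℕ, Red.IsSplitTorusWith (Fin r → ℤ) T := by
  obtain ⟨r, hr⟩ := K19.LocSplitMax.exists_hasRk h
  refine ⟨r, ?_⟩
  have h1 : ∀ s : S, ∃ (V : Scheme.{u}) (v : V ⟶ S) (_ : Chart T (Over.mk v) (Fin r → ℤ)), IsOpenImmersion v ∧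
      s ∈ Set.range v := by
    intro s
    obtain ⟨U, hs, r', ⟨e⟩⟩ := h s
    obtain rfl := K19.LocSplitMax.rank_unique (hr s) (K19.LocSplitMax.isSplit_geomFibre hs ⟨e⟩)
    refine ⟨U, U.ι, Chart.ofIso U.ι e, inferInstance, ?_⟩
    rw [Scheme.Opens.range_ι]
    exact hs
  choose V v c hv hs using h1
  have hne : ∀ s, Nonempty (V s) := fun s => ⟨(hs s).choose⟩
  obtain ⟨s₀⟩ := (inferInstance : Nonempty S)
  choose c' hc' using fun s => exists_adapt (v s₀) (v s) (c s₀) (c s)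
  obtain ⟨f, hf⟩ := exists_glue V v hs c' fun s s' => rel_of_adapt (hc' s) (hc' s')
  have hD : IsLocSplit (Red.DS S (Fin r → ℤ)) := isLocSplit_of_isSplit (K19.SplitTor.isSplit_DS S _)
  have hin : ∀ (X : Over S) (x : X ⟶ T) (z : X.left), ∃ t : res X (v (X.hom z)).opensRange ⟶ Over.mk (v (X.hom z)), True :=
    fun X x z => by
      obtain ⟨t⟩ := exists_hom_of_range (v (X.hom z)) (range_res X (v (X.hom z)).opensRange)
      exact ⟨t, trivial⟩
  have hm : IsMonHom f := Pts.isMonHom_of_points _ fun X x y => by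
    refine ext_of_cover' _ _ fun z => ⟨(v (X.hom z)).opensRange, hs _, ?_⟩
    obtain ⟨t, -⟩ := hin X x z
    rw [MonObj.comp_mul, ← Category.assoc, ← Category.assoc, ← Category.assoc, hf _ _ t, hf _ _ t, hf _ _ t,
      MonObj.comp_mul, map_mul, map_mul]
  have hmono : Mono f := ⟨fun {X} x y hxy => by
    refine ext_of_cover' _ _ fun z => ⟨(v (X.hom z)).opensRange, hs _, ?_⟩
    obtain ⟨t, -⟩ := hin X x z
    have h2 : (inc X (v (X.hom z)).opensRange ≫ x) ≫ f = (inc X (v (X.hom z)).opensRange ≫ y) ≫ f := by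
      rw [Category.assoc, hxy, Category.assoc]
    rw [hf _ _ t, hf _ _ t] at h2
    exact ((c' _).chr t).injective ((dsEquiv _ _).injective h2)⟩
  have hiso := K19.LocSplitMax.isIso_of_mono (isTorus h) (isTorus hD) f le_rfl hr
    (fun s => TorusAlgClosed.isSplitTorusWith_bc _ (K19.SplitTor.isSplit_DS S _))
  let e : T ≅ Red.DS S (Fin r → ℤ) := asIso f
  have he : IsMonHom e.hom := hm
  exact ⟨Grp.mkIso' e⟩

end K20.LocSplitIrr
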