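import Groth.Agent.SGA3x.K20.QAffLoc
import Groth.Agent.SGA3x.K21.HomRep
import Groth.Agent.SGA3x.K10.MTLoc
import Groth.Agent.Sga3B.RepDescent9
import Groth.Agent.Sga3B.TorusEtSplit

/-!
# Quasi-compact open subschemes of schemes of homomorphisms are quasi-affine
-/

set_option autoImplicit false
universe u
open CategoryTheory MonoidalCategory CartesianMonoidalCategory MonObj GrpObj AlgebraicGeometry Limits

namespace K20.OrbQA

open Groth.Agent.Sga3B

variable {S : Scheme.{u}} {H G : Over S} [GrpObj H] [GrpObj G]

/-- `H` of multiplicative type, `G` smooth and affine, `A` representing `Hom(H, G)`: an open subscheme of `A` which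
is quasi-compact over `S` is quasi-affine over `S`. -/
theorem isQuasiAffine_of_openImmersion (hH : SGA3x.IsMultTypeFT H) (hG : Smooth G.hom) (hGa : IsAffineHom G.hom)
    {A : Over S} {υ : H ⊗ A ⟶ G} (hA : AutFam.RepresentsHom H G A υ) {W : Over S} (m : W ⟶ A)
    (hm : IsOpenImmersion m.left) (hW : QuasiCompact W.hom) : Mor2.IsQuasiAffine W.hom := by
  refine QAffLoc.isQuasiAffine_of_etale_affine W.hom fun s => ?_
  obtain ⟨B, _, v, M, _, hv, hs, hM, he⟩ := K10.MTLoc.exists_etale_split hH s
  refine ⟨_, v, inferInstance, hv, hs, ?_⟩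
  have h1 : Smooth (Red.bc v G).hom := by
    change Smooth (pullback.snd _ _)
    infer_instance
  have h2 : IsAffineHom (Red.bc v G).hom := by
    change IsAffineHom (pullback.snd _ _)
    infer_instance
  obtain ⟨A', υ', hA', -, -, hU⟩ := K21.HomRep.exists_representsHom_split (Red.bc v H) (Red.bc v G) M he h1 h2
  obtain ⟨υ'', hA''⟩ := RepDescent.representsHom_bc hA v
  obtain ⟨e⟩ := RepDescent.nonempty_iso_of_representsHom hA'' hA'
  -- the open immersion
  let m' : (Red.bc v W) ⟶ A' := (Over.pullback v).map m ≫ e.hom
  have h3 : IsOpenImmersion ((Over.pullback v).map m).left :=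
    MorphismProperty.of_isPullback (P := @IsOpenImmersion) (TorusEtSplit.isPullback_map v m) hm
  have h4 : IsIso e.hom.left := inferInstance
  have h5 : IsOpenImmersion m'.left := by
    change IsOpenImmersion (((Over.pullback v).map m).left ≫ e.hom.left)
    infer_instance
  have h6 : CompactSpace (Red.bc v W).left := by
    have : QuasiCompact (Red.bc v W).hom := by
      change QuasiCompact (pullback.snd _ _)
      infer_instance
    exact QuasiCompact.compactSpace_of_compactSpace (Red.bc v W).hom
  obtain ⟨P, k, hP, hk⟩ := hU m'.left.opensRange (by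
    rw [Scheme.Hom.coe_opensRange]
    exact isCompact_range m'.left.continuous)
  let k' : (Red.bc v W).left ⟶ P := m'.left.isoOpensRange.hom ≫ k
  have : CompactSpace (pullback W.hom v : Scheme.{u}) := h6
  exact Scheme.IsQuasiAffine.of_isImmersion (X := (Red.bc v W).left) k'

end K20.OrbQA
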