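import Groth.Agent.SGA3x.K20.ImgQuot
import Groth.Agent.SGA3x.K5.Clopen
import Groth.Agent.SGA3x.K5.MTTransp

/-!
# Orbit maps of homomorphisms from groups of multiplicative type

`A` represents `Hom(H, G)`, `H` of multiplicative type, `G` smooth and separated: the orbit map
`G ⟶ A, g ↦ int(g) ∘ i` is smooth and its open image is the quotient of `G` by the centralizer of `i`.
-/

set_option autoImplicit false
universe u
open CategoryTheory MonoidalCategory CartesianMonoidalCategory MonObj GrpObj AlgebraicGeometry Limits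

namespace K20.OrbSm

open Groth.Agent.Sga3B Groth.Agent.SGA3x.K5.Clopen Groth.Agent.Sga3B.TorTransp

variable {S : Scheme.{u}}

/-- If the points of `G` over `A` whose image is the tautological point of `A` are the points of a smooth
`A`-scheme, then `G ⟶ A` is smooth. -/
theorem smooth_of_pts {G A : Over S} (c : G ⟶ A) {Z : Over A.left} (z : Z ⟶ Red.bc A.hom G) [Mono z]
    (hZ : Smooth Z.hom)
    (h : ∀ (T : Over A.left) (g : T ⟶ Red.bc A.hom G), (∃ a : T ⟶ Z, a ≫ z = g) ↔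
      (BcPts.bcEquiv A.hom T G).symm g ≫ c = st T) : Smooth c.left := by
  let C : Over A.left := Over.mk c.left
  let e : (Over.map A.hom).obj C ⟶ G := Over.homMk (𝟙 _) (by
    change 𝟙 _ ≫ G.hom = c.left ≫ A.hom
    rw [Over.w, Category.id_comp])
  let g₀ : C ⟶ Red.bc A.hom G := BcPts.bcEquiv A.hom C G e
  have hg₀ : (BcPts.bcEquiv A.hom C G).symm g₀ = e := Equiv.symm_apply_apply _ _
  obtain ⟨α, hα⟩ := (h C g₀).mpr (by
    rw [hg₀]
    ext1
    exact Category.id_comp _)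
  let β₀ : (Over.map A.hom).obj Z ⟶ G := (BcPts.bcEquiv A.hom Z G).symm z
  have hβ₀ : β₀ ≫ c = st Z := (h Z z).mp ⟨𝟙 Z, Category.id_comp z⟩
  let β : Z ⟶ C := Over.homMk β₀.left (by
    have := congrArg (fun t => t.left) hβ₀
    exact this)
  have h1 : β ≫ α = 𝟙 Z := by
    rw [← cancel_mono z, Category.assoc, hα, Category.id_comp]
    apply (BcPts.bcEquiv A.hom Z G).symm.injective
    rw [BcPts.comp_bcEquiv_symm, hg₀]
    change (Over.map A.hom).map β ≫ e = β₀
    ext1
    exact Category.comp_id _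
  have h2 : α ≫ β = 𝟙 C := by
    ext1
    have h3 : (Over.map A.hom).map α ≫ β₀ = e := by
      rw [← BcPts.comp_bcEquiv_symm, hα, hg₀]
    exact congrArg (fun t => t.left) h3
  have h4 : c.left = α.left ≫ Z.hom := (Over.w α).symm
  have h6 : IsIso α.left :=
    ⟨β.left, congrArg (fun t => t.left) h2, congrArg (fun t => t.left) h1⟩
  rw [h4]
  infer_instance

section

variable {H G : Over S} [GrpObj H] [GrpObj G] (i : H ⟶ G) [IsMonHom i]
  {A : Over S} {υ : H ⊗ A ⟶ G} (hA : AutFam.RepresentsHom H G A υ)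

/-- The family of conjugates of a homomorphism. -/
noncomputable def conjFam : H ⊗ G ⟶ G := snd H G * (fst H G ≫ i) * (snd H G)⁻¹

omit [IsMonHom i] [GrpObj H] in
lemma lift_conjFam {T : Over S} (h : T ⟶ H) (g : T ⟶ G) : lift h g ≫ conjFam i = g * (h ≫ i) * g⁻¹ := by
  rw [conjFam, MonObj.comp_mul, MonObj.comp_mul, GrpObj.comp_inv, lift_snd, lift_fst_assoc]

lemma isHomFamily_conjFam : AutFam.IsHomFamily H G (conjFam i) := by
  intro T h₁ h₂ g
  rw [lift_conjFam, lift_conjFam, lift_conjFam, MonObj.mul_comp]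
  group

include hA in
theorem exists_orbitMap : ∃ c : G ⟶ A, ∀ (T : Over S) (h : T ⟶ H) (g : T ⟶ G),
    lift h (g ≫ c) ≫ υ = g * (h ≫ i) * g⁻¹ := by
  obtain ⟨c, hc, -⟩ := hA.2 G _ (isHomFamily_conjFam i)
  refine ⟨c, fun T h g => ?_⟩
  rw [← lift_conjFam, ← hc, lift_whiskerLeft_assoc]

omit [GrpObj H] [GrpObj G] in
lemma lift_st_comp {X : Over S} (χ : H ⊗ X ⟶ G) {T : Over X.left} (q : T ⟶ Red.bc X.hom H) :
    (BcPts.bcEquiv X.hom _ _).symm (q ≫ famMap χ) = lift ((BcPts.bcEquiv X.hom _ H).symm q) (st T) ≫ χ := by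
  rw [comp_famMap, Equiv.symm_apply_apply]

/-- Points over `(Over.map A.hom).obj T` as points over `A`. -/
lemma exists_over {X : Over S} (T : Over X.left) {T' : Over S} (x : T' ⟶ (Over.map X.hom).obj T) :
    ∃ (T₁ : Over X.left) (y : T₁ ⟶ T) (e : (Over.map X.hom).obj T₁ ≅ T'), (Over.map X.hom).map y = e.hom ≫ x := by
  let T₁ : Over X.left := Over.mk (x.left ≫ T.hom)
  refine ⟨T₁, Over.homMk x.left rfl, Over.isoMk (Iso.refl _) ?_, ?_⟩
  · have := Over.w x
    change 𝟙 _ ≫ T'.hom = (x.left ≫ T.hom) ≫ X.hom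
    rw [Category.id_comp, ← this, Category.assoc]
    rfl
  · ext1
    exact (Category.id_comp _).symm

lemma bcEquiv_symm_conj {X : Over S} {T : Over X.left} (g a : T ⟶ Red.bc X.hom G) :
    (BcPts.bcEquiv X.hom T G).symm (g * a * g⁻¹) =
      (BcPts.bcEquiv X.hom T G).symm g * (BcPts.bcEquiv X.hom T G).symm a *
        ((BcPts.bcEquiv X.hom T G).symm g)⁻¹ := by
  have h1 := (BcPts.bcMulEquiv X.hom T G).symm.map_mul (g * a) g⁻¹
  have h2 := (BcPts.bcMulEquiv X.hom T G).symm.map_mul g a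
  have h3 := (BcPts.bcMulEquiv X.hom T G).symm.map_inv g
  rw [h2, h3] at h1
  exact h1

include hA in
theorem transp_iff {c : G ⟶ A} (hc : ∀ (T : Over S) (h : T ⟶ H) (g : T ⟶ G),
    lift h (g ≫ c) ≫ υ = g * (h ≫ i) * g⁻¹) (T : Over A.left) (g : T ⟶ Red.bc A.hom G) :
    Transp ((Over.pullback A.hom).map i) (famMap υ) g ↔ (BcPts.bcEquiv A.hom T G).symm g ≫ c = st T := by
  constructor
  · intro h
    refine (hA.2 _ ((H ◁ st T) ≫ υ) ?_).unique ?_ rfl
    · intro X g₁ g₂ t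
      simp only [lift_whiskerLeft_assoc]
      exact hA.1 X g₁ g₂ _
    · set T₀ := (Over.map A.hom).obj T with hT₀
      obtain ⟨T₁, y, e, he⟩ := exists_over T (snd H T₀)
      have h1 := h T₁ y (BcPts.bcEquiv A.hom T₁ H (e.hom ≫ fst H T₀))
      have h2 := congrArg (BcPts.bcEquiv A.hom T₁ G).symm h1
      rw [bcEquiv_symm_conj, lift_st_comp, BcPts.comp_bcEquiv_symm, BcPts.bcEquiv_symm_comp,
        Equiv.symm_apply_apply, ← hc, ← map_st y, he] at h2
      have h3 : ∀ (x : T₀ ⟶ A), (H ◁ x) ≫ υ = e.inv ≫ lift (e.hom ≫ fst H T₀) ((e.hom ≫ snd H T₀) ≫ x) ≫ υ := by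
        intro x
        rw [Category.assoc e.hom, ← comp_lift, Category.assoc, Iso.inv_hom_id_assoc]
        congr 1
      rw [h3, h3, ← h2, Category.assoc (e.hom ≫ snd H T₀)]
  · intro h T' y q
    apply (BcPts.bcEquiv A.hom T' G).symm.injective
    rw [bcEquiv_symm_conj, lift_st_comp, BcPts.comp_bcEquiv_symm, BcPts.bcEquiv_symm_comp, ← hc,
      Category.assoc, h, map_st]

include hA in
/-- **The orbit map is smooth.** -/
theorem smooth_orbitMap (hH : SGA3x.IsMultTypeFT H) [Smooth G.hom] [IsSeparated G.hom] {c : G ⟶ A}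
    (hc : ∀ (T : Over S) (h : T ⟶ H) (g : T ⟶ G), lift h (g ≫ c) ≫ υ = g * (h ≫ i) * g⁻¹) : Smooth c.left := by
  have h1 : IsMonHom (famMap υ) := isMonHom_famMap hA.1
  have h2 : Smooth (Red.bc A.hom G).hom := by
    change Smooth (pullback.snd _ _)
    infer_instance
  have h3 : IsSeparated (Red.bc A.hom G).hom := by
    change IsSeparated (pullback.snd _ _)
    infer_instance
  obtain ⟨Z, z, hz, hZ, -, huniv⟩ := Groth.Agent.SGA3x.K5.MTTransp.exists_transporter
    ((Over.pullback A.hom).map i) (famMap υ) (K10.MTLoc.bc A.hom hH)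
  have hzm : Mono z := by
    have : Mono z.left := inferInstance
    exact Over.mono_of_mono_left z
  exact smooth_of_pts c z hZ fun T g => (huniv T g).trans (transp_iff i hA hc T g)

include hA in
/-- **The quotient of `G` by the centralizer of `i`** is an open subscheme of the scheme of homomorphisms. -/
theorem exists_quotient_centralizer (hH : SGA3x.IsMultTypeFT H) [Smooth G.hom] [IsSeparated G.hom]
    {Z : Over S} [GrpObj Z] (j : Z ⟶ G) (hj : Red.IsCentralizerOf i j) {c : G ⟶ A}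
    (hc : ∀ (T : Over S) (h : T ⟶ H) (g : T ⟶ G), lift h (g ≫ c) ≫ υ = g * (h ≫ i) * g⁻¹) :
    ∃ (W : Over S) (q : G ⟶ W) (m : W ⟶ A), q ≫ m = c ∧ IsOpenImmersion m.left ∧ Smooth q.left ∧
      RedSub.IsQuotient j q := by
  obtain ⟨hj0, hj1, hj2⟩ := hj
  have hcs := smooth_orbitMap i hA hH hc
  refine K20.ImgQuot.exists_quotient_openImage j c hcs ?_ ?_
  · intro T g z
    have h3 := (hj2 Z j).mp ⟨𝟙 Z, Category.id_comp j⟩
    refine (hA.2 T ((H ◁ (g ≫ c)) ≫ υ) ?_).unique ?_ rfl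
    · intro X g₁ g₂ t
      simp only [lift_whiskerLeft_assoc]
      exact hA.1 X g₁ g₂ _
    · have e1 : ∀ x : T ⟶ G, (H ◁ (x ≫ c)) ≫ υ = lift (fst H T) ((snd H T ≫ x) ≫ c) ≫ υ := by
        intro x
        rw [Category.assoc]
        congr 1
      rw [e1, e1, hc, hc, MonObj.comp_mul, _root_.mul_inv_rev]
      have h4 := h3 (H ⊗ T) (snd H T ≫ z) (fst H T)
      rw [Category.assoc] at h4
      generalize snd H T ≫ z ≫ j = b at h4 ⊢
      generalize snd H T ≫ g = a at h4 ⊢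
      generalize fst H T ≫ i = w at h4 ⊢
      have h5 : a * b * w * (b⁻¹ * a⁻¹) = a * ((b * w) * b⁻¹) * a⁻¹ := by group
      rw [h5, h4]
      group
  · intro T g g' h
    obtain ⟨z, hz⟩ := (hj2 T (g⁻¹ * g')).mpr (by
      intro X x y
      have h4 : lift y ((x ≫ g) ≫ c) ≫ υ = lift y ((x ≫ g') ≫ c) ≫ υ := by
        rw [Category.assoc, Category.assoc, h]
      rw [hc, hc] at h4
      rw [MonObj.comp_mul, GrpObj.comp_inv]
      generalize x ≫ g = a at h4 ⊢
      generalize x ≫ g' = b at h4 ⊢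
      generalize y ≫ i = w at h4 ⊢
      have h6 : a⁻¹ * (a * w * a⁻¹) * b = a⁻¹ * (b * w * b⁻¹) * b := by rw [h4]
      have h7 : a⁻¹ * (a * w * a⁻¹) * b = w * (a⁻¹ * b) := by group
      have h8 : a⁻¹ * (b * w * b⁻¹) * b = (a⁻¹ * b) * w := by group
      rw [← h7, ← h8, h6])
    exact ⟨z, by rw [hz, mul_inv_cancel_left]⟩

end

end K20.OrbSm
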