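import Groth.Agent.S5246
import Groth.Agent.SGA3x.K20.OrbSm
import Groth.Agent.SGA3x.K20.OrbQA
import Groth.Agent.Sga3.H771.QcDesc

/-!
# The quotient by the centralizer of a homomorphism from a group of multiplicative type
-/

set_option autoImplicit false
universe u
open CategoryTheory MonoidalCategory CartesianMonoidalCategory MonObj GrpObj AlgebraicGeometry Limits

namespace K20.CentQuot

variable {S : Scheme.{u}} {H G Z : Over S} [GrpObj H] [GrpObj G] [GrpObj Z]

/-- **The quotient by the centralizer.** -/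
theorem exists_quotient (hH : SGA3x.IsMultTypeFT H) (hG : Smooth G.hom) (hGa : IsAffineHom G.hom) (i : H ⟶ G)
    [IsMonHom i] (j : Z ⟶ G) (hj : Red.IsCentralizerOf i j) :
    ∃ (Q : Over S) (q : G ⟶ Q), RedSub.IsQuotient j q ∧ Smooth Q.hom ∧ Mor2.IsQuasiAffine Q.hom := by
  obtain ⟨A, υ, hA, hAs, hA2⟩ := Groth.Agent.S5246.result H G hH hG hGa
  obtain ⟨c, hc⟩ := OrbSm.exists_orbitMap i hA
  obtain ⟨W, q, m, -, hm, -, hq⟩ := OrbSm.exists_quotient_centralizer i hA hH j hj hc
  have hqs : Surjective q.left := hq.1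
  have h1 : Smooth W.hom := by
    rw [← Over.w m]
    infer_instance
  have h2 : QuasiCompact (q.left ≫ W.hom) := by
    rw [Over.w]
    infer_instance
  have h3 : QuasiCompact W.hom := Groth.Agent.Sga3.H771.QcDesc.quasiCompact_of_surjective_comp q.left W.hom
  exact ⟨W, q, hq, h1, OrbQA.isQuasiAffine_of_openImmersion hH hG hGa hA m hm h3⟩

end K20.CentQuot
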