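import Groth.Prelude.Def_Red2
import Groth.Agent.Sga3B.BcPts

/-!
# Base change of normalizers
-/

set_option autoImplicit false
universe u
open CategoryTheory MonoidalCategory CartesianMonoidalCategory MonObj GrpObj AlgebraicGeometry Limits

namespace K20.NormBc

open Groth.Agent.Sga3B Groth.Agent.Sga3B.BcPts

variable {S S' : Scheme.{u}} {H G N : Over S} [GrpObj G]

lemma symm_mul (f : S' ⟶ S) {T : Over S'} (x y : T ⟶ Red.bc f G) :
    (bcEquiv f T G).symm (x * y) = (bcEquiv f T G).symm x * (bcEquiv f T G).symm y :=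
  (bcMulEquiv f T G).symm.map_mul x y

lemma symm_inv (f : S' ⟶ S) {T : Over S'} (x : T ⟶ Red.bc f G) :
    (bcEquiv f T G).symm x⁻¹ = ((bcEquiv f T G).symm x)⁻¹ :=
  (bcMulEquiv f T G).symm.map_inv x

variable [GrpObj N]

/-- **Base change of normalizers.** -/
theorem isNormalizerOf_bc (f : S' ⟶ S) {i : H ⟶ G} {k : N ⟶ G} (h : Red.IsNormalizerOf i k) :
    Red.IsNormalizerOf ((Over.pullback f).map i) ((Over.pullback f).map k) := by
  obtain ⟨h1, h2, h3⟩ := h
  refine ⟨inferInstance, inferInstance, fun X g => ⟨?_, fun hg => ?_⟩⟩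
  · rintro ⟨z, rfl⟩ X' x t
    obtain ⟨⟨a, ha⟩, ⟨b, hb⟩⟩ := (h3 ((Over.map f).obj X) ((bcEquiv f X N).symm z ≫ k)).mp ⟨_, rfl⟩
      ((Over.map f).obj X') ((Over.map f).map x) ((bcEquiv f X' H).symm t)
    refine ⟨⟨bcEquiv f X' H a, ?_⟩, ⟨bcEquiv f X' H b, ?_⟩⟩
    · apply (bcEquiv f X' G).symm.injective
      rw [symm_mul, symm_mul, symm_inv, ← bcEquiv_comp, Equiv.symm_apply_apply, ← ha, comp_bcEquiv_symm,
        bcEquiv_symm_comp, bcEquiv_symm_comp]
    · apply (bcEquiv f X' G).symm.injective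
      rw [symm_mul, symm_mul, symm_inv, ← bcEquiv_comp, Equiv.symm_apply_apply, ← hb, comp_bcEquiv_symm,
        bcEquiv_symm_comp, bcEquiv_symm_comp]
  · obtain ⟨z, hz⟩ := (h3 ((Over.map f).obj X) ((bcEquiv f X G).symm g)).mpr (by
      intro X' x t
      let X₁ : Over S' := Over.mk (x.left ≫ X.hom)
      let x₁ : X₁ ⟶ X := Over.homMk x.left rfl
      let ε : (Over.map f).obj X₁ ≅ X' := Over.isoMk (Iso.refl _) (by
        have := Over.w x
        simp only [Over.map_obj_hom] at this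
        simp [X₁, this])
      have h6 : ε.hom ≫ x = (Over.map f).map x₁ := by
        ext1
        simp [ε, x₁]
      obtain ⟨⟨a, ha⟩, ⟨b, hb⟩⟩ := hg X₁ x₁ (bcEquiv f X₁ H (ε.hom ≫ t))
      have ha' := congrArg (bcEquiv f X₁ G).symm ha
      have hb' := congrArg (bcEquiv f X₁ G).symm hb
      rw [symm_mul, symm_mul, symm_inv, bcEquiv_symm_comp, bcEquiv_symm_comp, Equiv.symm_apply_apply,
        comp_bcEquiv_symm, ← h6] at ha' hb'
      simp only [Category.assoc] at ha' hb'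
      rw [← GrpObj.comp_inv, ← MonObj.comp_mul, ← MonObj.comp_mul] at ha' hb'
      refine ⟨⟨ε.inv ≫ (bcEquiv f X₁ H).symm a, ?_⟩, ⟨ε.inv ≫ (bcEquiv f X₁ H).symm b, ?_⟩⟩
      · rw [Category.assoc, ← ha', Iso.inv_hom_id_assoc]
      · rw [Category.assoc, ← hb', Iso.inv_hom_id_assoc])
    refine ⟨bcEquiv f X N z, ?_⟩
    rw [← bcEquiv_comp, hz, Equiv.apply_symm_apply]

/-- Normalizers depend only on the subobject. -/
theorem isNormalizerOf_of_iso {H' : Over S} {i : H ⟶ G} {k : N ⟶ G} (h : Red.IsNormalizerOf i k) (e : H' ≅ H) :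
    Red.IsNormalizerOf (e.hom ≫ i) k := by
  obtain ⟨h1, h2, h3⟩ := h
  refine ⟨h1, h2, fun X g => ?_⟩
  rw [h3]
  have key : ∀ {X' : Over S} (γ : X' ⟶ G), (∃ h' : X' ⟶ H, γ = h' ≫ i) ↔ ∃ h' : X' ⟶ H', γ = h' ≫ e.hom ≫ i := by
    intro X' γ
    constructor
    · rintro ⟨h', rfl⟩
      exact ⟨h' ≫ e.inv, by simp⟩
    · rintro ⟨h', rfl⟩
      exact ⟨h' ≫ e.hom, by simp⟩
  constructor
  · intro hg X' x t
    have := hg X' x (t ≫ e.hom)
    rw [Category.assoc] at this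
    exact ⟨(key _).mp this.1, (key _).mp this.2⟩
  · intro hg X' x t
    have := hg X' x (t ≫ e.inv)
    rw [Category.assoc, e.inv_hom_id_assoc] at this
    exact ⟨(key _).mpr this.1, (key _).mpr this.2⟩

end K20.NormBc
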