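import Groth.Agent.SGA3x.K20.TorsFix
import Groth.Agent.Sga3B.AdCentre

/-!
# The centralizer of a diagonalizable subgroup is the centralizer of its `n`-torsion

`G` an affine group of finite type over an affine base, `i : D(N) ⟶ G`, `N` finitely generated: for a suitable
`n > 0` the points of `G` centralizing `D(N / n N)` centralize `D(N)`.
-/

set_option autoImplicit false
universe u
open CategoryTheory MonoidalCategory CartesianMonoidalCategory MonObj GrpObj AlgebraicGeometry Limits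

namespace K20.TorsCent

open Groth.Agent.Sga3B FreeBC DSPts Groth.Agent.SGA3x.K5.ActTriv K20.TorsFix

variable {R : Type u} [CommRing R] {G : Over (Spec (CommRingCat.of R))} [GrpObj G] {N : Type} [AddCommGroup N]

/-- The right conjugation action, transported to an affine scheme. -/
noncomputable def conjR {X : Over (Spec (CommRingCat.of R))} (e : G ≅ X) (i : Red.DS (Spec (CommRingCat.of R)) N ⟶ G) :
    X ⊗ Red.DS (Spec (CommRingCat.of R)) N ⟶ X :=
  ((snd _ _ ≫ i)⁻¹ * (fst _ _ ≫ e.inv) * (snd _ _ ≫ i)) ≫ e.hom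

lemma lift_conjR {X T : Over (Spec (CommRingCat.of R))} (e : G ≅ X) (i : Red.DS (Spec (CommRingCat.of R)) N ⟶ G)
    (x : T ⟶ X) (h : T ⟶ Red.DS (Spec (CommRingCat.of R)) N) :
    lift x h ≫ conjR e i = ((h ≫ i)⁻¹ * (x ≫ e.inv) * (h ≫ i)) ≫ e.hom := by
  rw [conjR, ← Category.assoc, MonObj.comp_mul, MonObj.comp_mul, GrpObj.comp_inv, lift_snd_assoc, lift_fst_assoc]

lemma isAct_conjR {X : Over (Spec (CommRingCat.of R))} (e : G ≅ X) (i : Red.DS (Spec (CommRingCat.of R)) N ⟶ G)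
    [IsMonHom i] : IsAct (conjR e i) where
  one {T} x := by
    have h1 : (1 : T ⟶ Red.DS (Spec (CommRingCat.of R)) N) ≫ i = 1 := MonObj.one_comp i
    rw [lift_conjR, h1]
    have h2 : (1 : T ⟶ G)⁻¹ * (x ≫ e.inv) * 1 = x ≫ e.inv := by group
    rw [h2, Category.assoc, Iso.inv_hom_id, Category.comp_id]
  mul {T} x h h' := by
    rw [lift_conjR, lift_conjR, lift_conjR, MonObj.mul_comp h h' i, Category.assoc, Iso.hom_inv_id, Category.comp_id]
    congr 1
    group

/-- **The centralizer of the torsion is the centralizer.** -/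
theorem exists_centralize (hG : IsAffineHom G.hom) (hft : LocallyOfFiniteType G.hom) [AddGroup.FG N]
    (i : Red.DS (Spec (CommRingCat.of R)) N ⟶ G) [IsMonHom i] :
    ∃ n : ℕ, 0 < n ∧ ∀ (T : Over (Spec (CommRingCat.of R))) (g : T ⟶ G),
      (∀ (T' : Over (Spec (CommRingCat.of R))) (t : T' ⟶ T)
        (h : T' ⟶ Red.DS (Spec (CommRingCat.of R)) (Qn N n)),
        (t ≫ g) * (h ≫ Red.DSmap _ (qn N n) ≫ i) = (h ≫ Red.DSmap _ (qn N n) ≫ i) * (t ≫ g)) →
      ∀ (T' : Over (Spec (CommRingCat.of R))) (t : T' ⟶ T) (h : T' ⟶ Red.DS (Spec (CommRingCat.of R)) N),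
        (t ≫ g) * (h ≫ i) = (h ≫ i) * (t ≫ g) := by
  obtain ⟨A, _, _, ⟨e⟩⟩ := AdCentre.exists_specIso G hG
  have hft' : Algebra.FiniteType R A := by
    have h1 : LocallyOfFiniteType (DE R A).hom := by
      rw [← Over.w e.inv]
      infer_instance
    have h2 : LocallyOfFiniteType (Spec.map (CommRingCat.ofHom (algebraMap R A))) := h1
    rw [HasRingHomProperty.Spec_iff (P := @LocallyOfFiniteType)] at h2
    simp only [CommRingCat.hom_ofHom] at h2
    exact RingHom.finiteType_algebraMap.mp h2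
  obtain ⟨n, hn, hn'⟩ := exists_fix (isAct_conjR e i)
  refine ⟨n, hn, fun T g hg T' t h => ?_⟩
  have h1 := hn' T' (t ≫ g ≫ e.hom) (by
    intro T'' t' h'
    have h2 := hg T'' (t' ≫ t) h'
    rw [lift_conjR]
    have h3 : (t' ≫ t ≫ g ≫ e.hom) ≫ e.inv = (t' ≫ t) ≫ g := by simp
    have h4 : (h' ≫ Red.DSmap (Spec (CommRingCat.of R)) (qn N n)) ≫ i =
      h' ≫ Red.DSmap (Spec (CommRingCat.of R)) (qn N n) ≫ i := Category.assoc _ _ _
    rw [h3, h4, _root_.mul_assoc, h2, inv_mul_cancel_left]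
    simp) h
  rw [lift_conjR] at h1
  have h3 : (t ≫ g ≫ e.hom) ≫ e.inv = t ≫ g := by simp
  have h4 : (h ≫ i)⁻¹ * (t ≫ g) * (h ≫ i) = t ≫ g := by
    rw [← cancel_mono e.hom, ← h3, h1, h3, Category.assoc]
  calc (t ≫ g) * (h ≫ i) = (h ≫ i) * ((h ≫ i)⁻¹ * (t ≫ g) * (h ≫ i)) := by group
    _ = (h ≫ i) * (t ≫ g) := by rw [h4]

end K20.TorsCent
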