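import Groth.Agent.SGA3x.K20.AutAct
import Groth.Agent.SGA3x.K20.TorsCent
import Groth.Agent.SGA3x.K20.OrbSm
import Groth.Agent.SGA3x.K20.HomGrp
import Groth.Agent.S2907
import Groth.Agent.S2908
import Groth.Agent.S2925
import Groth.Agent.AlgSt.K746.AffFin
import Groth.Agent.RedSub.H650.QuotPts
import Groth.Agent.Sga1.QuotAffine
import Groth.Agent.S0114

/-!
# The quotient by the normalizer of a diagonalisable subgroup is quasi-affine

`G` smooth and affine over `Spec R`, `i : D(M) ⟶ G` a monomorphism, `M` finitely generated, `k` the normalizer: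
if `G/N` is representable by a separated scheme, this scheme is quasi-affine.
-/

set_option autoImplicit false
universe u
open CategoryTheory MonoidalCategory CartesianMonoidalCategory MonObj GrpObj AlgebraicGeometry Limits

namespace K20.NormQA

open K20.NormLoc K20.TorsFix K20.AutAct

lemma isFinite_DS (S : Scheme.{u}) (M : Type) [AddCommGroup M] [Finite M] : IsFinite (Red.DS S M).hom := by
  have h1 : Module.Finite (ULift.{u} ℤ) (MonoidAlgebra (ULift.{u} ℤ) (Multiplicative M)) :=
    Module.Finite.of_basis (MonoidAlgebra.basis (Multiplicative M) (ULift.{u} ℤ))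
  have h2 : IsFinite (Red.diag (ULift.{u} ℤ) M).hom := by
    change IsFinite (Spec.map (CommRingCat.ofHom (algebraMap _ _)))
    rw [IsFinite.SpecMap_iff]
    exact RingHom.finite_algebraMap.mpr h1
  change IsFinite (pullback.snd _ _)
  infer_instance

variable {R : Type u} [CommRing R] {G : Over (Spec (CommRingCat.of R))} [GrpObj G] {M : Type} [AddCommGroup M]

theorem exists_finite_fibres (hG : Smooth G.hom) (hGa : IsAffineHom G.hom) (hM : AddGroup.FG M)
    (i : Red.DS (Spec (CommRingCat.of R)) M ⟶ G) [IsMonHom i] [Mono i] {N' Q : Over (Spec (CommRingCat.of R))}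
    [GrpObj N'] (k : N' ⟶ G) (hk : Red.IsNormalizerOf i k) (q : G ⟶ Q) (hq : RedSub.IsQuotient k q) :
    ∃ (Y : Over (Spec (CommRingCat.of R))) (f : Q ⟶ Y), IsAffine Y.left ∧ ∀ y : Y.left, (f.left ⁻¹' {y}).Finite := by
  have hfin : Module.Finite ℤ M := Module.Finite.iff_addGroup_fg.mpr hM
  have hft : LocallyOfFiniteType G.hom := inferInstance
  obtain ⟨hk0, hkm, hk'⟩ := id hk
  obtain ⟨n, hn, hcent⟩ := TorsCent.exists_centralize hGa hft i
  have hfinQ : Finite (Qn M n) := finite_Qn M n hn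
  have hFGQ : AddGroup.FG (Qn M n) := inferInstance
  set F := Red.DS (Spec (CommRingCat.of R)) (Qn M n) with hF
  let iF : F ⟶ G := Red.DSmap _ (qn M n) ≫ i
  have hDSm : IsMonHom (Red.DSmap (Spec (CommRingCat.of R)) (qn M n)) := K12.HomDS.isMonHom_DSmap _
  have hiF : IsMonHom iF := inferInstance
  have hFM : SGA3x.IsMultTypeFT F := K10.MTLoc.of_split hFGQ ⟨Iso.refl _⟩
  have hF1 : IsFinite F.hom := isFinite_DS _ _
  have hF2 : Flat F.hom := K10.MTLoc.flat hFM
  have hF3 : LocallyOfFinitePresentation F.hom := K10.MTLoc.locallyOfFinitePresentation hFM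
  obtain ⟨A, υ, hA, hAa, -, -⟩ := K20.HomGrp.exists_representsHom F G
  have hAaff : IsAffine A.left := isAffine_of_isAffineHom A.hom
  obtain ⟨c, hc⟩ := OrbSm.exists_orbitMap iF hA
  -- the quotient by the finite group
  obtain ⟨Y, p, hp⟩ := Groth.Agent.S2907.result (rho hA) fun x =>
    ⟨⊤, isAffineOpen_top _, fun g => trivial⟩
  have hinv : ∀ g, (rho hA g).hom ≫ A.hom = A.hom := fun g => by
    rw [rho_hom, Over.w]
  obtain ⟨s, hs, -⟩ := Groth.Agent.S2925.result (rho hA) p hp _ A.hom hinv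
  have hsaff : IsAffineHom s := Groth.Agent.Sga1.QuotAffine.isAffineHom_of_isQuot hp hs
  have hYaff : IsAffine Y := isAffine_of_isAffineHom s
  let YS : Over (Spec (CommRingCat.of R)) := Over.mk s
  let pS : A ⟶ YS := Over.homMk p hs
  have hpS : ∀ α : Qn M n ≃+ Qn M n, act hA α ≫ pS = pS := by
    intro α
    ext1
    have := hp.inv (GA.mk α)
    rw [rho_hom, GA.eq_mk] at this
    exact this
  -- the invariance under the normalizer
  have hinvN : ∀ (T : Over (Spec (CommRingCat.of R))) (a : T ⟶ G) (y : T ⟶ N'),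
      (a * (y ≫ k)) ≫ c ≫ pS = a ≫ c ≫ pS := by
    intro T a y
    refine K12.ConstPts.hom_ext_opens _ _ fun t => ?_
    obtain ⟨U, ht, φ, hφ⟩ := exists_local i (y ≫ k) ((hk' T (y ≫ k)).mp ⟨y, rfl⟩) t
    refine ⟨U, ht, ?_⟩
    set w := K12.ConstPts.opnι U with hw
    have h1 : (w ≫ (a * (y ≫ k))) ≫ c = w ≫ a ≫ c ≫ act hA (congrQn n φ) := by
      refine ext_hom hA _ _ fun T' t' h => ?_
      have hU : ∀ z, (t' ≫ w).left z ∈ U := fun z => (t'.left z).2
      have h2 := hφ T' (h ≫ Red.DSmap _ (qn M n)) (t' ≫ w) hU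
      have h3 : t' ≫ (w ≫ (a * (y ≫ k))) ≫ c = (((t' ≫ w) ≫ a) * ((t' ≫ w) ≫ y ≫ k)) ≫ c := by
        rw [← MonObj.comp_mul]
        simp only [Category.assoc]
      have h4 : t' ≫ w ≫ a ≫ c ≫ act hA (congrQn n φ) = (((t' ≫ w) ≫ a) ≫ c) ≫ act hA (congrQn n φ) := by
        simp only [Category.assoc]
      rw [h3, h4, lift_act, hc, hc]
      have h5 : h ≫ iF = (h ≫ Red.DSmap _ (qn M n)) ≫ i := (Category.assoc _ _ _).symm
      have h6 : (h ≫ Red.DSmap _ ((congrQn n φ : Qn M n ≃+ Qn M n) : Qn M n →+ Qn M n)) ≫ iF =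
          ((h ≫ Red.DSmap _ (qn M n)) ≫ Red.DSmap _ (φ : M →+ M)) ≫ i := by
        change _ ≫ Red.DSmap _ (qn M n) ≫ i = _
        rw [Category.assoc h, Category.assoc h, DSmap_comp_DSmap, ← congrQn_comp, ← DSmap_comp_DSmap]
        simp only [Category.assoc]
      rw [h5, h6, ← h2]
      group
    rw [← Category.assoc w, ← Category.assoc (w ≫ _), h1]
    simp only [Category.assoc, hpS]
  obtain ⟨g₀, hg₀⟩ := Groth.Agent.RedSub.H650.QuotPts.exists_desc hq (c ≫ pS) hinvN
  refine ⟨YS, g₀, hYaff, fun y => ?_⟩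
  -- the quotient by the centralizer
  have hsep : IsSeparated G.hom := inferInstance
  obtain ⟨Z, _, z, hz, -, -, -⟩ := Groth.Agent.SGA3x.K5.MTTransp.exists_centralizer iF hFM
  obtain ⟨W, qW, m, hqm, hm, -, hqW⟩ := OrbSm.exists_quotient_centralizer iF hA hFM z hz hc
  obtain ⟨w, hw⟩ := Groth.Agent.RedSub.H650.QuotPts.exists_desc hqW q (by
    intro T a y
    obtain ⟨y', hy'⟩ : ∃ y' : T ⟶ N', y' ≫ k = y ≫ z := by
      refine (hk' T (y ≫ z)).mpr fun X x h => ?_
      have h1 := hcent T (y ≫ z) ((hz.2.2 T (y ≫ z)).mp ⟨y, rfl⟩) X x h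
      refine ⟨⟨h, ?_⟩, ⟨h, ?_⟩⟩
      · rw [h1, mul_inv_cancel_right]
      · rw [_root_.mul_assoc, ← h1, inv_mul_cancel_left]
    rw [← hy']
    exact Groth.Agent.RedSub.H650.QuotPts.mul_comp hq a y')
  have hepi : Epi qW := Groth.Agent.RedSub.H650.QuotPts.epi_of_isQuotient hqW
  have hwg : w ≫ g₀ = m ≫ pS := by
    rw [← cancel_epi qW, ← Category.assoc, hw, hg₀, ← Category.assoc, hqm]
  have hws : Function.Surjective w.left := by
    intro x
    obtain ⟨g, hg⟩ := hq.1.surj x
    refine ⟨qW.left g, ?_⟩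
    rw [← Scheme.Hom.comp_apply, ← Over.comp_left, hw]
    exact hg
  have hmi : Function.Injective m.left := m.left.isOpenEmbedding.injective
  have hpfin : ∀ y : Y, (p ⁻¹' {y}).Finite := by
    intro y
    obtain ⟨x, hx⟩ := (Groth.Agent.S2908.result (rho hA) p hp).1 y
    refine (Set.finite_range fun g : GA (Qn M n) => (rho hA g).hom x).subset ?_
    intro x' hx'
    obtain ⟨g, hg⟩ := ((Groth.Agent.S2908.result (rho hA) p hp).2.1 x x').mp (hx.trans hx'.symm)
    exact ⟨g, hg⟩
  have h1 : (g₀.left ⁻¹' {y}) ⊆ w.left '' (m.left ⁻¹' (p ⁻¹' {y})) := by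
    intro x hx
    obtain ⟨x', rfl⟩ := hws x
    refine ⟨x', ?_, rfl⟩
    have h2 : (w ≫ g₀).left x' = y := hx
    rw [hwg] at h2
    exact h2
  exact (((hpfin y).preimage hmi.injOn).image _).subset h1

/-- **The quotient by the normalizer of a diagonalisable subgroup is quasi-affine.** -/
theorem isQuasiAffine (hG : Smooth G.hom) (hGa : IsAffineHom G.hom) (hM : AddGroup.FG M)
    (i : Red.DS (Spec (CommRingCat.of R)) M ⟶ G) [IsMonHom i] [Mono i] {N' Q : Over (Spec (CommRingCat.of R))}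
    [GrpObj N'] (k : N' ⟶ G) (hk : Red.IsNormalizerOf i k) (q : G ⟶ Q) (hq : RedSub.IsQuotient k q)
    (hQ : IsSeparated Q.hom) : Q.left.IsQuasiAffine := by
  obtain ⟨Y, f, hY, hfib⟩ := exists_finite_fibres hG hGa hM i k hk q hq
  obtain ⟨hq1, hq2, hq3, -⟩ := id hq
  have h1 : LocallyOfFinitePresentation Q.hom := by
    have : LocallyOfFinitePresentation (q.left ≫ Q.hom) := by
      rw [Over.w]
      infer_instance
    exact Groth.Agent.S0114.result q.left Q.hom
  have h2 : LocallyOfFiniteType f.left := by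
    have : LocallyOfFiniteType (f.left ≫ Y.hom) := by
      rw [Over.w]
      infer_instance
    exact locallyOfFiniteType_of_comp f.left Y.hom
  have h3 : IsSeparated f.left := by
    have : IsSeparated (f.left ≫ Y.hom) := by
      rw [Over.w]
      exact hQ
    exact IsSeparated.of_comp f.left Y.hom
  have h4 : LocallyQuasiFinite f.left := LocallyQuasiFinite.of_finite_preimage_singleton _ hfib
  have h5 : CompactSpace Q.left := by
    have hGc : CompactSpace G.left := by
      have : IsAffine G.left := isAffine_of_isAffineHom G.hom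
      infer_instance
    refine ⟨?_⟩
    rw [← Set.range_eq_univ.mpr hq1.surj]
    exact isCompact_range q.left.continuous
  exact K746.AffFin.isQuasiAffine f.left

end K20.NormQA
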