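import Groth.Agent.Ega2.QuasiAffine
import Groth.Agent.S1127
import Mathlib.AlgebraicGeometry.Morphisms.Etale
import Mathlib.AlgebraicGeometry.Morphisms.Smooth

/-!
# Quasi-affine morphisms are étale-local on the target
-/

set_option autoImplicit false
universe u
open CategoryTheory CategoryTheory.Limits AlgebraicGeometry

namespace K20.QAffLoc

open Groth.Agent.Ega2.QuasiAffine

/-- **Quasi-affineness can be checked étale-locally on the target.** -/
theorem isQuasiAffine_of_etale_local {X Y : Scheme.{u}} (f : X ⟶ Y)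
    (H : ∀ y : Y, ∃ (V : Scheme.{u}) (v : V ⟶ Y) (W : Scheme.{u}) (fst : W ⟶ X) (snd : W ⟶ V),
      Etale v ∧ y ∈ Set.range v ∧ IsPullback fst snd f v ∧ Mor2.IsQuasiAffine snd) : Mor2.IsQuasiAffine f := by
  have hd : QAff.{u}.DescendsAlong (@Surjective ⊓ @Flat ⊓ @QuasiCompact : MorphismProperty Scheme.{u}) :=
    Groth.Agent.S1127.result.{u}
  have hd' : QAff.{u}.DescendsAlong
    (@Surjective ⊓ @Flat ⊓ @LocallyOfFinitePresentation : MorphismProperty Scheme.{u}) := inferInstance
  change QAff f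
  refine IsZariskiLocalAtTarget.of_forall_exists_morphismRestrict fun y => ?_
  obtain ⟨V, v, W, fst, snd, hv, ⟨x, rfl⟩, sq, hP⟩ := H y
  let O : Y.Opens := ⟨Set.range v, v.isOpenMap.isOpen_range⟩
  refine ⟨O, ⟨x, rfl⟩, ?_⟩
  let l : V ⟶ O.toScheme := IsOpenImmersion.lift O.ι v (by simp [O])
  have hl : l ≫ O.ι = v := IsOpenImmersion.lift_fac _ _ _
  have hle : Etale l := by
    have : Etale (l ≫ O.ι) := by rw [hl]; exact hv
    exact Etale.of_comp l O.ι
  have hls : Surjective l := by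
    constructor
    rintro ⟨_, x, rfl⟩
    refine ⟨x, O.ι.isOpenEmbedding.injective ?_⟩
    rw [← Scheme.Hom.comp_apply, hl]
    rfl
  have sq1' : IsPullback (f ⁻¹ᵁ O).ι (f ∣_ O) f O.ι := (isPullback_morphismRestrict f O).flip
  let m : W ⟶ (f ⁻¹ᵁ O).toScheme := sq1'.lift fst (snd ≫ l) (by rw [Category.assoc, hl, sq.w])
  have sq2 : IsPullback m snd (f ∣_ O) l :=
    IsPullback.of_right (t := sq1') (by rw [sq1'.lift_fst, hl]; exact sq) (sq1'.lift_snd _ _ _)
  exact MorphismProperty.of_isPullback_of_descendsAlong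
    (Q := (@Surjective ⊓ @Flat ⊓ @LocallyOfFinitePresentation : MorphismProperty Scheme.{u})) sq2.flip
    ⟨⟨hls, inferInstance⟩, inferInstance⟩ hP

/-- Étale-local criterion, with base changes of the source to affine schemes. -/
theorem isQuasiAffine_of_etale_affine {X Y : Scheme.{u}} (f : X ⟶ Y)
    (H : ∀ y : Y, ∃ (V : Scheme.{u}) (v : V ⟶ Y), IsAffine V ∧ Etale v ∧ y ∈ Set.range v ∧
      (pullback f v).IsQuasiAffine) : Mor2.IsQuasiAffine f := by
  refine isQuasiAffine_of_etale_local f fun y => ?_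
  obtain ⟨V, v, hV, hv, hy, hq⟩ := H y
  refine ⟨V, v, _, pullback.fst f v, pullback.snd f v, hv, hy, IsPullback.of_hasPullback f v, ?_⟩
  exact (HasAffineProperty.iff_of_isAffine (P := QAff)).2 hq

end K20.QAffLoc
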