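import Groth.Agent.SGA3x.K20.OrbM
import Groth.Agent.SGA3x.K20.NormQA
import Groth.Agent.SGA3x.K20.NormBc
import Groth.Agent.SGA3x.K20.QAffLoc
import Groth.Agent.RedSub.H650.QuotPts
import Groth.Agent.Sga3.H771.QcDesc

/-!
# The quotient by the normalizer of a subgroup of multiplicative type
-/

set_option autoImplicit false
universe u
open CategoryTheory MonoidalCategory CartesianMonoidalCategory MonObj GrpObj AlgebraicGeometry Limits

namespace K20.NormQuot

open Groth.Agent.Sga3B

variable {S : Scheme.{u}} {H G N : Over S} [GrpObj H] [GrpObj G] [GrpObj N]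

/-- A separated quotient of a smooth affine group by the normalizer of a subgroup of multiplicative type is
quasi-affine. -/
theorem isQuasiAffine (hH : SGA3x.IsMultTypeFT H) (hG : Smooth G.hom) (hGa : IsAffineHom G.hom) (i : H ⟶ G)
    [IsMonHom i] [Mono i] (k : N ⟶ G) (hk : Red.IsNormalizerOf i k) {Q : Over S} (q : G ⟶ Q)
    (hq : RedSub.IsQuotient k q) (hQ : IsSeparated Q.hom) : Mor2.IsQuasiAffine Q.hom := by
  refine QAffLoc.isQuasiAffine_of_etale_affine Q.hom fun s => ?_
  obtain ⟨B, _, v, M, _, hv, hs, hM, ⟨e⟩⟩ := K10.MTLoc.exists_etale_split hH s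
  refine ⟨_, v, inferInstance, hv, hs, ?_⟩
  have h1 : Smooth (Red.bc v G).hom := by
    change Smooth (pullback.snd _ _)
    infer_instance
  have h2 : IsAffineHom (Red.bc v G).hom := by
    change IsAffineHom (pullback.snd _ _)
    infer_instance
  have h3 : IsSeparated (Red.bc v Q).hom := by
    change IsSeparated (pullback.snd _ _)
    infer_instance
  have hkm : Mono k := hk.2.1
  let e' : Red.DS (Spec (CommRingCat.of B)) M ≅ Red.bc v H := (Grp.forget _).mapIso e.symm
  have he' : IsMonHom e'.hom := e.symm.hom.hom.isMonHom_hom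
  let i' : Red.DS (Spec (CommRingCat.of B)) M ⟶ Red.bc v G := e'.hom ≫ (Over.pullback v).map i
  have hi' : IsMonHom i' := by
    have : IsMonHom ((Over.pullback v).map i) := inferInstance
    infer_instance
  have hm' : Mono i' := by
    have : Mono ((Over.pullback v).map i) := inferInstance
    infer_instance
  have hk' := NormBc.isNormalizerOf_of_iso (NormBc.isNormalizerOf_bc v hk) e'
  have hq' := Groth.Agent.RedSub.H650.QuotPts.isQuotient_bc v hq
  exact NormQA.isQuasiAffine h1 h2 hM i' _ hk' _ hq' h3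

/-- **The quotient by the normalizer.** -/
theorem exists_quotient (hH : SGA3x.IsMultTypeFT H) (hG : Smooth G.hom) (hGa : IsAffineHom G.hom) (i : H ⟶ G)
    [IsMonHom i] [Mono i] (k : N ⟶ G) (hk : Red.IsNormalizerOf i k)
    {M : Over S} {K : Over M.left} [GrpObj K] (j : K ⟶ Red.bc M.hom G)
    (hMs : Smooth M.hom) (hM : IsSeparated M.hom) (hj : IsMonHom j) (hji : IsImmersion j.left)
    (hK : SGA3x.IsMultTypeFT K)
    (hU : ∀ (T : Scheme.{u}) (f : T ⟶ S) (K' : Over T) [GrpObj K'] (j' : K' ⟶ Red.bc f G),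
        IsMonHom j' → IsImmersion j'.left → SGA3x.IsMultTypeFT K' →
        ∃! v : T ⟶ M.left, v ≫ M.hom = f ∧
          ∃ φ : K'.left ≅ (Red.bc v K).left,
            φ.hom ≫ (Red.bc v K).hom = K'.hom ∧
            φ.hom ≫ ((Over.pullback v).map j).left ≫ pullback.fst (Red.bc M.hom G).hom v ≫
              pullback.fst G.hom M.hom = j'.left ≫ pullback.fst G.hom f) :
    ∃ (Q : Over S) (q : G ⟶ Q), RedSub.IsQuotient k q ∧ Smooth Q.hom ∧ Mor2.IsQuasiAffine Q.hom := by
  have h2 : IsAffineHom (Red.bc M.hom G).hom := MorphismProperty.pullback_snd _ _ hGa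
  have hjm : Mono j := Over.mono_of_mono_left j
  have hic : IsClosedImmersion i.left := Groth.Agent.SGA3x.K5.MTNorm.isClosedImmersion_of_mono i hH
  have hjc : IsClosedImmersion j.left := Groth.Agent.SGA3x.K5.MTNorm.isClosedImmersion_of_mono j hK
  obtain ⟨Q, q, m, hm, hqs, hq⟩ := OrbM.exists_quotient_normalizer j hK i hH
    (OrbM.classifies j hU i hH) k hk
  have h3 : Smooth Q.hom := by
    rw [← Over.w m]
    infer_instance
  have h4 : IsSeparated Q.hom := by
    rw [← Over.w m]
    infer_instance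
  exact ⟨Q, q, hq, h3, isQuasiAffine hH hG hGa i k hk q hq h4⟩

end K20.NormQuot
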