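import Groth.Agent.RedSub.K197.QuotPts

/-!
# Open images of smooth morphisms as quotients
-/

set_option autoImplicit false
universe u

open CategoryTheory Limits MonoidalCategory CartesianMonoidalCategory MonObj GrpObj AlgebraicGeometry

namespace K20.ImgQuot

open K197.Fppf

variable {S : Scheme.{u}}

/-- An `S`-morphism from a smooth scheme to an étale scheme is smooth. -/
theorem smooth_of_etale {N A : Over S} (c : N ⟶ A) (hN : Smooth N.hom) (hA : Etale A.hom) : Smooth c.left := by
  have h0 : Smooth (c.left ≫ A.hom) := by rw [Over.w]; exact hN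
  have hm : MorphismProperty.IsMultiplicative @Smooth.{u} := { id_mem := fun X => inferInstance }
  have : MorphismProperty.HasOfPostcompProperty @Smooth.{u} @Etale.{u} := by
    rw [MorphismProperty.hasOfPostcompProperty_iff_le_diagonal]
    intro X Y f hf
    exact inferInstanceAs <| Smooth (pullback.diagonal f)
  exact MorphismProperty.of_postcomp (W := @Smooth.{u}) (W' := @Etale.{u}) c.left A.hom hA h0

/-- The open image of a smooth morphism. -/
theorem exists_openImage {N A : Over S} (c : N ⟶ A) (hc : Smooth c.left) :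
    ∃ (W : Over S) (q : N ⟶ W) (m : W ⟶ A), q ≫ m = c ∧ IsOpenImmersion m.left ∧ Surjective q.left ∧
      Smooth q.left := by
  let U : A.left.Opens := ⟨Set.range c.left, c.left.isOpenMap.isOpen_range⟩
  have hr : Set.range c.left ⊆ Set.range U.ι := by
    rw [Scheme.Opens.range_ι]
    exact le_rfl
  let W : Over S := Over.mk (U.ι ≫ A.hom)
  let m : W ⟶ A := Over.homMk U.ι rfl
  let q₀ : N.left ⟶ (U : Scheme.{u}) := IsOpenImmersion.lift U.ι c.left hr
  have hq₀ : q₀ ≫ U.ι = c.left := IsOpenImmersion.lift_fac _ _ _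
  let q : N ⟶ W := Over.homMk q₀ (by
    change q₀ ≫ U.ι ≫ A.hom = N.hom
    rw [← Category.assoc, hq₀, Over.w])
  refine ⟨W, q, m, ?_, inferInstanceAs (IsOpenImmersion U.ι), ?_, ?_⟩
  · ext1
    exact hq₀
  · refine ⟨fun y => ?_⟩
    obtain ⟨x, hx⟩ := y.2
    refine ⟨x, U.ι.injective ?_⟩
    change U.ι (q₀ x) = U.ι y
    rw [← Scheme.Hom.comp_apply, hq₀]
    exact hx
  · change Smooth q₀
    have : Smooth (q₀ ≫ U.ι) := by rw [hq₀]; exact hc
    exact MorphismProperty.of_postcomp (W := @Smooth) (W' := @IsOpenImmersion) q₀ U.ι inferInstance this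

/-- A quotient obtained from a smooth map whose fibres are the cosets. -/
theorem exists_quotient_openImage {H G A : Over S} [GrpObj H] [GrpObj G] (i : H ⟶ G) [Mono i] (c : G ⟶ A)
    (hc : Smooth c.left)
    (h1 : ∀ (T : Over S) (g : T ⟶ G) (h : T ⟶ H), (g * (h ≫ i)) ≫ c = g ≫ c)
    (h2 : ∀ (T : Over S) (g g' : T ⟶ G), g ≫ c = g' ≫ c → ∃ h : T ⟶ H, g' = g * (h ≫ i)) :
    ∃ (W : Over S) (q : G ⟶ W) (m : W ⟶ A), q ≫ m = c ∧ IsOpenImmersion m.left ∧ Smooth q.left ∧
      RedSub.IsQuotient i q := by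
  obtain ⟨W, q, m, hqm, hm, hq, hqs⟩ := exists_openImage c hc
  have hmm : Mono m := by
    have : Mono m.left := inferInstance
    exact Over.mono_of_mono_left m
  refine ⟨W, q, m, hqm, hm, hqs, K197.QuotPts.isQuotient_of_pts ⟨hq, inferInstance, inferInstance⟩ ?_ ?_⟩
  · intro T g h
    rw [← cancel_mono m, Category.assoc, Category.assoc, hqm, h1]
  · intro T g g' h
    refine h2 T g g' ?_
    rw [← hqm, reassoc_of% h]

end K20.ImgQuot
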