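import Groth.Agent.SGA3x.K20.WeilFP
import Groth.Agent.Pi1C.HomScheme
import Mathlib.AlgebraicGeometry.Morphisms.Flat
import Mathlib.AlgebraicGeometry.Morphisms.FinitePresentation
import Mathlib.RingTheory.Flat.EquationalCriterion
import Mathlib.RingTheory.Finiteness.ModuleFinitePresentation

/-!
# The scheme of morphisms `Hom_S(X, Y)`, `X` finite locally free and `Y` affine over `S`
-/

set_option autoImplicit false
set_option backward.isDefEq.respectTransparency false
set_option backward.defeqAttrib.useBackward true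
universe u
open CategoryTheory MonoidalCategory CartesianMonoidalCategory Limits AlgebraicGeometry TensorProduct

namespace K20.HomSch

open Groth.Agent.Pi1C Groth.Agent.Pi1C.HomGlue Groth.Agent.Pi1C.WeilAlg Groth.Agent.Pi1C.HomLocal
  Groth.Agent.Pi1C.HomScheme

variable {X : Scheme.{u}}

theorem exists_localRep (U V : Over X) [IsFinite U.hom] [Flat U.hom] [LocallyOfFinitePresentation U.hom]
    [IsAffineHom V.hom] (i : X.affineOpens) :
    ∃ D : LocalRep U V i, LocallyOfFinitePresentation V.hom → LocallyOfFinitePresentation D.w.left := by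
  obtain ⟨B, _, _, bU, hU⟩ := exists_alg_of_isAffineHom (sp i) U.hom
  obtain ⟨C, _, _, cV, hV⟩ := exists_alg_of_isAffineHom (sp i) V.hom
  have := finite_of_isPullback (sp i) U.hom hU
  have h1 : Module.Projective Γ(X, i.1) B := by
    have h1 : Flat (spm Γ(X, i.1) B) := MorphismProperty.of_isPullback (P := @Flat) hU inferInstance
    have h2 : LocallyOfFinitePresentation (spm Γ(X, i.1) B) :=
      MorphismProperty.of_isPullback (P := @LocallyOfFinitePresentation) hU inferInstance
    rw [HasRingHomProperty.Spec_iff (P := @Flat)] at h1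
    rw [HasRingHomProperty.Spec_iff (P := @LocallyOfFinitePresentation)] at h2
    have h3 : Module.Flat Γ(X, i.1) B := RingHom.flat_algebraMap_iff.1 h1
    have h4 : Algebra.FinitePresentation Γ(X, i.1) B := RingHom.finitePresentation_algebraMap.1 h2
    have h5 : Module.FinitePresentation Γ(X, i.1) B :=
      Module.FinitePresentation.of_finite_of_finitePresentation _ _
    exact Module.Flat.projective_of_finitePresentation
  by_cases hVf : LocallyOfFinitePresentation V.hom
  · have hC : Algebra.FinitePresentation Γ(X, i.1) C := by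
      have h2 : LocallyOfFinitePresentation (spm Γ(X, i.1) C) :=
        MorphismProperty.of_isPullback (P := @LocallyOfFinitePresentation) hV inferInstance
      rw [HasRingHomProperty.Spec_iff (P := @LocallyOfFinitePresentation)] at h2
      exact RingHom.finitePresentation_algebraMap.1 h2
    obtain ⟨W, _, _, ev, hev, hW⟩ := WeilFP.exists_isRep_fp Γ(X, i.1) B C
    let w0 : XT (sp i) W ⟶ Over.mk (sp i) := Over.homMk (spm Γ(X, i.1) W) rfl
    let D : LocalRep U V i :=
      { W := XT (sp i) W
        w := w0 ≫ (spIso i).hom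
        aff := inferInstanceAs (IsAffine (Spec _))
        ev := mkφ (sp i) U V B C bU hU cV hV W ev
        up := fun T hT t => UP_affine (sp i) U V B C bU hU cV hV hev T hT (t ≫ (spIso i).inv) }
    refine ⟨D, fun _ => ?_⟩
    have h3 : LocallyOfFinitePresentation (spm Γ(X, i.1) W) := by
      rw [HasRingHomProperty.Spec_iff (P := @LocallyOfFinitePresentation)]
      exact RingHom.finitePresentation_algebraMap.2 hW
    have : IsIso (spIso i).hom.left := inferInstance
    change LocallyOfFinitePresentation (spm Γ(X, i.1) W ≫ (spIso i).hom.left)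
    infer_instance
  · obtain ⟨W, _, _, ev, hev⟩ := exists_isRep Γ(X, i.1) B C
    let w0 : XT (sp i) W ⟶ Over.mk (sp i) := Over.homMk (spm Γ(X, i.1) W) rfl
    let D : LocalRep U V i :=
      { W := XT (sp i) W
        w := w0 ≫ (spIso i).hom
        aff := inferInstanceAs (IsAffine (Spec _))
        ev := mkφ (sp i) U V B C bU hU cV hV W ev
        up := fun T hT t => UP_affine (sp i) U V B C bU hU cV hV hev T hT (t ≫ (spIso i).inv) }
    exact ⟨D, fun h => absurd h hVf⟩

/-- Existence of the internal hom object in `Over X`. -/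
theorem exists_homObj (U V : Over X) [IsFinite U.hom] [Flat U.hom] [LocallyOfFinitePresentation U.hom]
    [IsAffineHom V.hom] : ∃ (W : Over X) (ev : (Q U).obj W ⟶ V), IsAffineHom W.hom ∧
      (LocallyOfFinitePresentation V.hom → LocallyOfFinitePresentation W.hom) ∧ ∀ T : Over X, UP ev T := by
  choose D hD using exists_localRep U V
  obtain ⟨ev, hev⟩ := exists_ev D
  have hcov : TopologicalSpace.IsOpenCover (fun i : X.affineOpens => i.1) := by
    rw [TopologicalSpace.IsOpenCover, eq_top_iff]
    intro x _
    obtain ⟨i, hi, hxi, -⟩ := exists_isAffineOpen_mem_and_subset (x := x) (U := (⊤ : X.Opens)) trivial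
    exact TopologicalSpace.Opens.mem_iSup.mpr ⟨⟨i, hi⟩, hxi⟩
  let 𝒰 := X.openCoverOfIsOpenCover (fun i : X.affineOpens => i.1) hcov
  refine ⟨glued D, ev, ?_, fun hV => ?_, glued_UP D ev hev⟩
  · rw [IsZariskiLocalAtTarget.iff_of_openCover (P := @IsAffineHom) 𝒰]
    intro i
    have h1 : IsPullback (D i).w.left (inc D i).left (𝒰.f i) (glued D).hom :=
      inc_isPullback D i
    have h2 := h1.flip.isoPullback_hom_snd
    have h3 : IsAffine (D i).W.left := (D i).aff
    have h4 : IsAffine (oObj i).left := i.2
    have h5 : IsAffineHom (D i).w.left := inferInstance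
    have : IsAffineHom (h1.flip.isoPullback.inv ≫ (D i).w.left) := inferInstance
    rwa [h1.flip.isoPullback_inv_snd] at this
  · rw [IsZariskiLocalAtTarget.iff_of_openCover (P := @LocallyOfFinitePresentation) 𝒰]
    intro i
    have h1 : IsPullback (D i).w.left (inc D i).left (𝒰.f i) (glued D).hom :=
      inc_isPullback D i
    have h3 := hD i hV
    have : LocallyOfFinitePresentation (h1.flip.isoPullback.inv ≫ (D i).w.left) := inferInstance
    rwa [h1.flip.isoPullback_inv_snd] at this

/-- The comparison `U ⊗ T ≅ T ×_X U`. -/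
noncomputable def qIso (U T : Over X) : U ⊗ T ≅ (Q U).obj T :=
  Over.isoMk (pullbackSymmetry U.hom T.hom) (by
    change _ ≫ pullback.fst T.hom U.hom ≫ T.hom = _
    rw [pullbackSymmetry_hom_comp_fst_assoc]
    exact Over.w (snd U T))

lemma qIso_nat (U : Over X) {T T' : Over X} (a : T ⟶ T') :
    (U ◁ a) ≫ (qIso U T').hom = (qIso U T).hom ≫ (Q U).map a := by
  apply Over.OverMorphism.ext
  apply q_hom_ext
  · change ((U ◁ a).left ≫ (qIso U T').hom.left) ≫ qFst U T' = ((qIso U T).hom.left ≫ ((Q U).map a).left) ≫ qFst U T'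
    have h1 : (qIso U T').hom.left ≫ qFst U T' = (snd U T').left := pullbackSymmetry_hom_comp_fst _ _
    have h2 : (qIso U T).hom.left ≫ qFst U T = (snd U T).left := pullbackSymmetry_hom_comp_fst _ _
    rw [Category.assoc, h1, Category.assoc, q_map_fst, reassoc_of% h2, ← Over.comp_left, whiskerLeft_snd,
      Over.comp_left]
  · change ((U ◁ a).left ≫ (qIso U T').hom.left) ≫ qSnd U T' = ((qIso U T).hom.left ≫ ((Q U).map a).left) ≫ qSnd U T'
    have h1 : (qIso U T').hom.left ≫ qSnd U T' = (fst U T').left := pullbackSymmetry_hom_comp_snd _ _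
    have h2 : (qIso U T).hom.left ≫ qSnd U T = (fst U T).left := pullbackSymmetry_hom_comp_snd _ _
    rw [Category.assoc, h1, Category.assoc, q_map_snd, h2, ← Over.comp_left, whiskerLeft_fst]

/-- **The scheme of morphisms** from a finite locally free `U` to an affine `V`. -/
theorem exists_homScheme (U V : Over X) [IsFinite U.hom] [Flat U.hom] [LocallyOfFinitePresentation U.hom]
    [IsAffineHom V.hom] : ∃ (M : Over X) (ev : U ⊗ M ⟶ V), IsAffineHom M.hom ∧
      (LocallyOfFinitePresentation V.hom → LocallyOfFinitePresentation M.hom) ∧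
      ∀ (T : Over X) (φ : U ⊗ T ⟶ V), ∃! v : T ⟶ M, (U ◁ v) ≫ ev = φ := by
  obtain ⟨W, ev, h1, h2, h3⟩ := exists_homObj U V
  refine ⟨W, (qIso U W).hom ≫ ev, h1, h2, fun T φ => ?_⟩
  obtain ⟨a, ha⟩ := (h3 T).2 ((qIso U T).inv ≫ φ)
  refine ⟨a, ?_, fun b hb => ?_⟩
  · dsimp only at ha ⊢
    rw [← Category.assoc, qIso_nat, Category.assoc, ha, Iso.hom_inv_id_assoc]
  · apply (h3 T).1
    dsimp only at ha hb ⊢
    rw [ha, ← cancel_epi (qIso U T).hom, ← Category.assoc, ← qIso_nat, Category.assoc, hb, Iso.hom_inv_id_assoc]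

end K20.HomSch
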