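import Groth.Agent.SGA3x.K20.RatSec
import Groth.Agent.SGA3x.K20.OrbM
import Groth.Agent.Sga3B.MT.MemOps

/-!
# Lifting subgroups of multiplicative type of a fibre
-/

set_option autoImplicit false
universe u
open CategoryTheory MonoidalCategory CartesianMonoidalCategory MonObj GrpObj AlgebraicGeometry Limits

namespace K20.FibLift

open Groth.Agent.Sga3B Groth.Agent.Sga3B.MT

variable {S : Scheme.{u}} {G : Over S} [GrpObj G]

lemma isMonHom_bcSub {S' S'' : Scheme.{u}} {f : S' ⟶ S} {T : Over S'} [GrpObj T] (q : S'' ⟶ S') (t : T ⟶ Red.bc f G)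
    [IsMonHom t] : IsMonHom (bcSub q t) := by
  have e : (RedIso.und (BcIso.bcCompIso q f G).symm).hom = (Over.pullbackComp q f).inv.app G := by
    have h1 := BcNat.und_bcCompIso q f G
    have h2 : (RedIso.und (BcIso.bcCompIso q f G).symm).hom ≫
        (RedIso.und (BcIso.bcCompIso q f G)).hom = 𝟙 _ := by
      rw [BcNat.und_symm, Iso.inv_hom_id]
    rw [h1] at h2
    have h3 : (Over.pullbackComp q f).inv.app G ≫ (Over.pullbackComp q f).hom.app G = 𝟙 _ := by
      simp
    exact (cancel_mono ((Over.pullbackComp q f).hom.app G)).1 (h2.trans h3.symm)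
  have h6 : bcSub q t = (Over.pullback q).map t ≫ (RedIso.und (BcIso.bcCompIso q f G).symm).hom := by
    rw [e]
    rfl
  have h4 : IsMonHom (RedIso.und (BcIso.bcCompIso q f G).symm).hom :=
    (BcIso.bcCompIso q f G).symm.hom.hom.isMonHom_hom
  have h5 : IsMonHom ((Over.pullback q).map t) := inferInstance
  rw [h6]
  infer_instance

/-- **A subgroup of multiplicative type of a fibre lifts to an étale neighbourhood** without extension of the
residue field. -/
theorem exists_lift {M : Over S} {K : Over M.left} [GrpObj K] (j : K ⟶ Red.bc M.hom G)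
    (hMs : Smooth M.hom) (hj : IsMonHom j) (hji : IsImmersion j.left) (hK : SGA3x.IsMultTypeFT K)
    (hU : ∀ (T : Scheme.{u}) (f : T ⟶ S) (K' : Over T) [GrpObj K'] (j' : K' ⟶ Red.bc f G),
        IsMonHom j' → IsImmersion j'.left → SGA3x.IsMultTypeFT K' →
        ∃! v : T ⟶ M.left, v ≫ M.hom = f ∧
          ∃ φ : K'.left ≅ (Red.bc v K).left,
            φ.hom ≫ (Red.bc v K).hom = K'.hom ∧
            φ.hom ≫ ((Over.pullback v).map j).left ≫ pullback.fst (Red.bc M.hom G).hom v ≫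
              pullback.fst G.hom M.hom = j'.left ≫ pullback.fst G.hom f)
    (s : S) (H₀ : Over (Spec (S.residueField s))) [GrpObj H₀] (i₀ : H₀ ⟶ Red.bc (S.fromSpecResidueField s) G)
    (hi₀ : IsMonHom i₀) (hi₀' : IsImmersion i₀.left) (hH₀ : SGA3x.IsMultTypeFT H₀) :
    ∃ (S' : Scheme.{u}) (e : S' ⟶ S) (σ : Spec (S.residueField s) ⟶ S'), Etale e ∧ σ ≫ e = S.fromSpecResidueField s ∧
      ∃ (H' : Over S') (_ : GrpObj H') (i' : H' ⟶ Red.bc e G) (_ : IsMonHom i') (_ : Mono i'), SGA3x.IsMultTypeFT H' ∧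
        ∃ φ : H₀.left ≅ (Red.bc σ H').left, φ.hom ≫ (Red.bc σ H').hom = H₀.hom ∧
          φ.hom ≫ ((Over.pullback σ).map i').left ≫ pullback.fst (Red.bc e G).hom σ ≫ pullback.fst G.hom e =
            i₀.left ≫ pullback.fst G.hom (S.fromSpecResidueField s) := by
  obtain ⟨v₀, ⟨hv₀, φ₀, hφ1, hφ2⟩, -⟩ := hU _ _ H₀ i₀ hi₀ hi₀' hH₀
  obtain ⟨S', e, σ, v, he, hσ, rfl, rfl⟩ := RatSec.exists_etale_through M.hom s v₀ hv₀
  have hjm : Mono j := Over.mono_of_mono_left j
  have h1 : IsMonHom (bcSub v j) := isMonHom_bcSub v j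
  have h2 : Mono (bcSub v j) := by
    have : Mono ((Over.pullback v).map j) := inferInstance
    unfold bcSub
    infer_instance
  let ψ : (Red.bc (σ ≫ v) K).left ≅ (Red.bc σ (Red.bc v K)).left :=
    (Over.forget _).mapIso ((Over.pullbackComp σ v).app K)
  have hψ1 : ψ.hom ≫ (Red.bc σ (Red.bc v K)).hom = (Red.bc (σ ≫ v) K).hom :=
    Over.w ((Over.pullbackComp σ v).hom.app K)
  have hψ2 : ψ.hom ≫ pullback.fst (pullback.snd K.hom v) σ ≫ pullback.fst K.hom v = pullback.fst K.hom (σ ≫ v) :=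
    pullbackComp_hom_fst σ K
  refine ⟨S', v ≫ M.hom, σ, he, hσ, Red.bc v K, inferInstance, bcSub v j, h1, h2, K10.MTLoc.bc v hK, φ₀ ≪≫ ψ, ?_, ?_⟩
  · rw [Iso.trans_hom, Category.assoc, hψ1, hφ1]
  · rw [← hφ2]
    have h3 : ((Over.pullback σ).map (bcSub v j)).left ≫ pullback.fst (Red.bc (v ≫ M.hom) G).hom σ =
        pullback.fst (Red.bc v K).hom σ ≫ (bcSub v j).left :=
      (Parab.EtHom.isPullback_map σ (bcSub v j)).w.symm
    have h4 : ((Over.pullback (σ ≫ v)).map j).left ≫ pullback.fst (Red.bc M.hom G).hom (σ ≫ v) =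
        pullback.fst K.hom (σ ≫ v) ≫ j.left := (Parab.EtHom.isPullback_map (σ ≫ v) j).w.symm
    rw [reassoc_of% h3, bcSub_fst, reassoc_of% h4, ← hψ2]
    simp only [Iso.trans_hom, Category.assoc]
    rfl

end K20.FibLift
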