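import Groth.Agent.Sga3.H830.Trans3
import Groth.Agent.Sga3.H219.GeoGlue
import Groth.Agent.Sga3.H665.TorBcNA
import Groth.Agent.Sga3.H831.CartBc
import Groth.Agent.Sga3B.DsBc
import Groth.Agent.Sga3B.SplitBc264
import Groth.Agent.Sga3C.GrpIrr
import Groth.Agent.SGA3x.K16.NilRank
import Groth.Agent.AlgGrp.K405.ConnOrbit
import Mathlib.AlgebraicGeometry.AffineSpace

/-!
# Rational points of the scheme of maximal tori

`k` a field, `G` a smooth algebraic group over `k`, `(𝒯, Tu, iu)` representing the functor of maximal tori of `G`.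

* `exists_point_affineSpace`: over an infinite field, every nonempty open subset of an affine space has a rational
  point;
* `irreducibleSpace`: `𝒯` is irreducible when `G` is connected;
* `exists_point`: if `k` is infinite, `G` connected and some nonempty open subscheme of `𝒯` is an open subscheme of an
  affine space, then every nonempty open subset of `𝒯` has a rational point;
* `exists_iso_centralizer`: the centralizer of a maximal torus of a base change of `G` is the inverse image of the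
  centralizer of the universal maximal torus.
-/

set_option autoImplicit false
universe u
open CategoryTheory MonoidalCategory CartesianMonoidalCategory MonObj GrpObj AlgebraicGeometry Limits

namespace K20.TorPt

open Groth.Agent Groth.Agent.Sga3 Groth.Agent.Sga3B Groth.Agent.Sga3B.RedIso

/-- Over an infinite field, every nonempty open subset of an affine space has a rational point. -/
theorem exists_point_affineSpace {k : Type u} [Field k] [Infinite k] (σ : Type u)
    (V : (AffineSpace σ (Spec (CommRingCat.of k))).Opens) (hV : (V : Set ↥(AffineSpace σ (Spec (CommRingCat.of k)))).Nonempty) :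
    ∃ t : Spec (CommRingCat.of k) ⟶ AffineSpace σ (Spec (CommRingCat.of k)),
      t ≫ (AffineSpace σ (Spec (CommRingCat.of k)) ↘ Spec (CommRingCat.of k)) = 𝟙 _ ∧
        t (IsLocalRing.closedPoint k) ∈ V := by
  obtain ⟨x, hx⟩ := hV
  let e := AffineSpace.SpecIso σ (CommRingCat.of k)
  let y := e.hom x
  have hy : y ∈ e.inv ⁻¹ᵁ V := by
    change e.inv (e.hom x) ∈ V
    rw [← Scheme.Hom.comp_apply, e.hom_inv_id]
    exact hx
  obtain ⟨_, ⟨f, rfl⟩, hyf, hfV⟩ := PrimeSpectrum.isTopologicalBasis_basic_opens.exists_subset_of_mem_open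
    (show y ∈ ((e.inv ⁻¹ᵁ V : (Spec _).Opens) : Set _) from hy) (e.inv ⁻¹ᵁ V).isOpen
  have hf : f ≠ 0 := by
    rintro rfl
    exact hyf (Ideal.zero_mem _)
  obtain ⟨a, ha⟩ : ∃ a : σ → k, MvPolynomial.eval a f ≠ 0 := by
    by_contra hcon
    push Not at hcon
    exact hf (MvPolynomial.funext fun a => by rw [hcon a, map_zero])
  let t₀ : Spec (CommRingCat.of k) ⟶ Spec (CommRingCat.of (MvPolynomial σ k)) :=
    Spec.map (CommRingCat.ofHom (MvPolynomial.eval a))
  refine ⟨t₀ ≫ e.inv, ?_, ?_⟩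
  · have h1 : e.inv ≫ (AffineSpace σ (Spec (CommRingCat.of k)) ↘ Spec (CommRingCat.of k)) =
        Spec.map (CommRingCat.ofHom MvPolynomial.C) := AffineSpace.SpecIso_inv_over (n := σ) (CommRingCat.of k)
    rw [Category.assoc, h1]
    change Spec.map _ ≫ Spec.map _ = _
    rw [← Spec.map_comp, ← CommRingCat.ofHom_comp]
    have h2 : (MvPolynomial.eval a).comp MvPolynomial.C = RingHom.id k := by
      ext z
      simp
    rw [h2]
    exact Spec.map_id _
  · rw [Scheme.Hom.comp_apply]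
    refine hfV ?_
    change MvPolynomial.eval a f ∉ (IsLocalRing.maximalIdeal k)
    rw [IsLocalRing.mem_maximalIdeal, mem_nonunits_iff, not_not]
    exact (Ne.isUnit ha)

section irr

variable {k : Type u} [Field k] {G : Over (Spec (CommRingCat.of k))} [GrpObj G] [Smooth G.hom]
  [QuasiCompact G.hom] {𝒯 : Over (Spec (CommRingCat.of k))} {Tu : Over 𝒯.left} [GrpObj Tu]
  {iu : Tu ⟶ Red.bc 𝒯.hom G}

omit [Smooth G.hom] [QuasiCompact G.hom] [GrpObj G] in
/-- A closed point of a scheme locally of finite type over `k` is the image of a geometric point. -/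
theorem exists_geom_point (K : Type u) [Field K] [IsAlgClosed K] [Algebra k K] [LocallyOfFiniteType 𝒯.hom]
    (x : 𝒯.left) (hx : IsClosed ({x} : Set 𝒯.left)) :
    ∃ w : Books.AffBridge.SpecOver k K ⟶ 𝒯, w.left (IsLocalRing.closedPoint K) = x := by
  let b : Spec (CommRingCat.of K) ⟶ Spec (CommRingCat.of k) :=
    Spec.map (CommRingCat.ofHom (algebraMap k K))
  let X' := Red.bc b 𝒯
  have : LocallyOfFiniteType X'.hom := inferInstanceAs (LocallyOfFiniteType (pullback.snd 𝒯.hom b))
  let p : X'.left ⟶ 𝒯.left := pullback.fst 𝒯.hom b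
  have hb : Surjective b := ⟨fun y => ⟨IsLocalRing.closedPoint K, Subsingleton.elim _ _⟩⟩
  have hp : Surjective p := inferInstanceAs (Surjective (pullback.fst 𝒯.hom b))
  obtain ⟨x', hx'⟩ := hp.surj x
  obtain ⟨w, hw, -⟩ := K405.ConnOrbit.exists_point X' (p ⁻¹' {x}) ⟨x', hx'⟩
    (hx.preimage p.continuous).isLocallyClosed
  refine ⟨Over.homMk (w.left ≫ p) ?_, ?_⟩
  · have h1 : p ≫ 𝒯.hom = X'.hom ≫ b := pullback.condition
    have h2 : w.left ≫ X'.hom = 𝟙 _ := Over.w w
    have h3 : w.left ≫ X'.hom ≫ b = b := by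
      rw [← Category.assoc, h2]
      exact Category.id_comp b
    change (w.left ≫ p) ≫ 𝒯.hom = b
    rw [Category.assoc, h1]
    exact h3
  · exact hw

open H665.Act in
/-- The scheme of maximal tori of a connected group is irreducible. -/
theorem irreducibleSpace [ConnectedSpace G.left] [LocallyOfFiniteType 𝒯.hom]
    (h𝒯 : SGA3x.RepresentsMaxTori G 𝒯 Tu iu) : IrreducibleSpace 𝒯.left := by
  let K := AlgebraicClosure k
  have hbc : TorBc G := fun q => H665.TorBcNA.torBc G q
  obtain ⟨r, hr⟩ := H665.Act.exists_isAct h𝒯 hbc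
  obtain ⟨v₀⟩ := H219.GeoGlue.nonempty_point K h𝒯
  have h1 : GrpObj (Over.mk G.hom) := inferInstanceAs (GrpObj G)
  have hG : GeometricallyIrreducible G.hom :=
    Sga3C.GrpIrr.geometricallyIrreducible_of_connectedSpace G.hom
  let X := Books.AffBridge.SpecOver k K ⊗ G
  have hX : IrreducibleSpace X.left := by
    have : IrreducibleSpace (Books.AffBridge.SpecOver k K).left :=
      inferInstanceAs (IrreducibleSpace (Spec (CommRingCat.of K)))
    change IrreducibleSpace ↥(pullback (Books.AffBridge.SpecOver k K).hom G.hom)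
    infer_instance
  let o : X ⟶ 𝒯 := lift (fst _ _ ≫ v₀) (snd _ _) ≫ r
  have hu : Set.range (𝟙 G : G ⟶ G).left = connectedComponent (Books.AlgPts.pt η[G]) := by
    rw [PreconnectedSpace.connectedComponent_eq_univ, Over.id_left]
    exact Set.range_eq_univ.2 fun x => ⟨x, rfl⟩
  have hJ : JacobsonSpace 𝒯.left := LocallyOfFiniteType.jacobsonSpace 𝒯.hom
  have hcl : closedPoints 𝒯.left ⊆ Set.range o.left := by
    intro x hx
    obtain ⟨w, hw⟩ := exists_geom_point K x hx
    have hoi : IsOpenImmersion (𝟙 G : G ⟶ G).left := by rw [Over.id_left]; infer_instance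
    obtain ⟨g, hg⟩ := H830.Trans3.exists_act_eq_neutral (𝟙 G) h𝒯 hbc hr hu v₀ w
    have h2 : lift (𝟙 _) g ≫ o = w := by
      rw [← hg, Category.comp_id, ← Category.assoc, comp_lift, lift_fst_assoc, Category.id_comp, lift_snd]
    rw [← hw, ← h2, Over.comp_left]
    exact ⟨_, (Scheme.Hom.comp_apply _ _ _).symm⟩
  have hirr : IsIrreducible (Set.range o.left) := by
    rw [← Set.image_univ]
    exact (irreducibleSpace_def X.left).1 hX |>.image _ o.left.continuous.continuousOn
  rw [irreducibleSpace_def]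
  have h3 : closure (Set.range o.left) = Set.univ :=
    Set.univ_subset_iff.1 ((closure_closedPoints (X := 𝒯.left)).symm.subset.trans (closure_mono hcl))
  change IsIrreducible (Set.univ : Set 𝒯.left)
  rw [← h3]
  exact hirr.closure

/-- If `k` is infinite, `G` connected and some nonempty open subscheme of `𝒯` is an open subscheme of an affine space,
then the rational points of `𝒯` are dense. -/
theorem exists_point [Infinite k] [ConnectedSpace G.left] [LocallyOfFiniteType 𝒯.hom]
    (h𝒯 : SGA3x.RepresentsMaxTori G 𝒯 Tu iu)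
    (hrat : ∃ (n : ℕ) (U : 𝒯.left.Opens) (V : (AffineSpace (ULift.{u} (Fin n)) (Spec (CommRingCat.of k))).Opens)
      (e : (U : Scheme.{u}) ≅ (V : Scheme.{u})), (U : Set ↥𝒯.left).Nonempty ∧
      e.hom ≫ V.ι ≫ (AffineSpace (ULift.{u} (Fin n)) (Spec (CommRingCat.of k)) ↘ (Spec (CommRingCat.of k))) =
        U.ι ≫ 𝒯.hom) (W : Set 𝒯.left) (hWo : IsOpen W) (hW : W.Nonempty) :
    ∃ t : Spec (CommRingCat.of k) ⟶ 𝒯.left, t ≫ 𝒯.hom = 𝟙 _ ∧ t (IsLocalRing.closedPoint k) ∈ W := by
  have hirr := irreducibleSpace h𝒯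
  obtain ⟨n, U, V, e, hU, he⟩ := hrat
  obtain ⟨x, hxU, hxW⟩ : ((U : Set 𝒯.left) ∩ W).Nonempty := nonempty_preirreducible_inter U.isOpen hWo hU hW
  let A := AffineSpace (ULift.{u} (Fin n)) (Spec (CommRingCat.of k))
  let j : (U : Scheme.{u}) ⟶ A := e.hom ≫ V.ι
  let W' : (U : Scheme.{u}).Opens := U.ι ⁻¹ᵁ ⟨W, hWo⟩
  let O : A.Opens := j ''ᵁ W'
  have hO : (O : Set A).Nonempty := ⟨j ⟨x, hxU⟩, ⟨x, hxU⟩, hxW, rfl⟩
  obtain ⟨t, ht, htO⟩ := exists_point_affineSpace _ O hO
  obtain ⟨y, hy, hyt⟩ := htO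
  have hlift : Set.range t ⊆ Set.range j := by
    rintro _ ⟨z, rfl⟩
    rw [Subsingleton.elim z (IsLocalRing.closedPoint k)]
    exact ⟨y, hyt⟩
  let t' : Spec (CommRingCat.of k) ⟶ (U : Scheme.{u}) := IsOpenImmersion.lift j t hlift
  have ht' : t' ≫ j = t := IsOpenImmersion.lift_fac j t hlift
  refine ⟨t' ≫ U.ι, ?_, ?_⟩
  · rw [Category.assoc, ← he, ← Category.assoc e.hom, ← Category.assoc]
    change (t' ≫ j) ≫ _ = _
    rw [ht', ht]
  · rw [Scheme.Hom.comp_apply]
    have h4 : j (t' (IsLocalRing.closedPoint k)) = j y := by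
      rw [← Scheme.Hom.comp_apply, ht']
      exact hyt.symm
    have h5 : t' (IsLocalRing.closedPoint k) = y := j.isOpenEmbedding.injective h4
    rw [h5]
    exact hy

end irr

section cent

variable {S S' : Scheme.{u}} {G 𝒯 : Over S} [GrpObj G] {Tu : Over 𝒯.left} [GrpObj Tu] {iu : Tu ⟶ Red.bc 𝒯.hom G}

/-- The centralizer of a maximal torus of a base change of `G` is the inverse image of the centralizer of the
universal maximal torus. -/
theorem exists_iso_centralizer (h𝒯 : SGA3x.RepresentsMaxTori G 𝒯 Tu iu) {Z : Over 𝒯.left} [GrpObj Z]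
    {z : Z ⟶ Red.bc 𝒯.hom G} (hz : Red.IsCentralizerOf iu z) (f : S' ⟶ S) {T' C' : Over S'} [GrpObj T'] [GrpObj C']
    (i' : T' ⟶ Red.bc f G) (hi' : Red.IsMaximalTorus i') (c' : C' ⟶ Red.bc f G) (hc' : Red.IsCentralizerOf i' c') :
    ∃ v : S' ⟶ 𝒯.left, v ≫ 𝒯.hom = f ∧ ∃ e : C' ≅ Red.bc v Z,
      e.hom.left ≫ pullback.fst Z.hom v ≫ z.left ≫ pullback.fst G.hom 𝒯.hom =
        c'.left ≫ pullback.fst G.hom f := by
  obtain ⟨v, ⟨rfl, φ, h1, h2⟩, -⟩ := h𝒯.2 S' f T' i' hi'
  have := hi'.1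
  let ψ : Red.bc v (Red.bc 𝒯.hom G) ≅ Red.bc (v ≫ 𝒯.hom) G := (und (BcIso.bcCompIso v 𝒯.hom G)).symm
  have hψm : IsMonHom ψ.hom := inferInstanceAs (IsMonHom (und (BcIso.bcCompIso v 𝒯.hom G)).inv)
  have hψ : ψ.hom.left ≫ pullback.fst G.hom (v ≫ 𝒯.hom) =
      pullback.fst (Red.bc 𝒯.hom G).hom v ≫ pullback.fst G.hom 𝒯.hom := by
    have h3 : ψ.inv.left ≫ pullback.fst (Red.bc 𝒯.hom G).hom v ≫ pullback.fst G.hom 𝒯.hom =
        pullback.fst G.hom (v ≫ 𝒯.hom) := by
      have h4 : ψ.inv = (Over.pullbackComp v 𝒯.hom).hom.app G := BcNat.und_bcCompIso v 𝒯.hom G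
      rw [h4]
      exact DsBc.pullbackComp_fst v 𝒯.hom G
    rw [← h3, ← Over.comp_left_assoc, ψ.hom_inv_id]
    exact Category.id_comp _
  let φ' : T' ≅ Red.bc v Tu := Over.isoMk φ h1
  have hφ' : φ'.hom ≫ (Over.pullback v).map iu ≫ ψ.hom = i' := by
    ext1
    apply pullback.hom_ext
    · rw [Over.comp_left, Over.comp_left, Category.assoc, Category.assoc, hψ]
      exact h2
    · exact (Over.w (φ'.hom ≫ (Over.pullback v).map iu ≫ ψ.hom)).trans (Over.w i').symm
  have hid : IsMonHom (Iso.refl (Red.bc v Z)).hom := inferInstanceAs (IsMonHom (𝟙 (Red.bc v Z)))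
  have h5 : Red.IsCentralizerOf i' ((Over.pullback v).map z ≫ ψ.hom) :=
    H831.CartBc.isCentralizerOf_of_iso φ'.symm (Iso.refl _) ψ
      (by rw [← hφ', Iso.symm_hom, Iso.inv_hom_id_assoc]) (by rw [Iso.refl_hom, Category.id_comp])
      (SplitBc264.isCentralizerOf_bc v hz)
  obtain ⟨e, he⟩ := K16.NilRank.exists_iso_centralizer hc' h5
  refine ⟨v, rfl, e, ?_⟩
  rw [← he, Over.comp_left, Over.comp_left, Category.assoc, Category.assoc, hψ]
  congr 1
  have h6 : ((Over.pullback v).map z).left ≫ pullback.fst (Red.bc 𝒯.hom G).hom v =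
      pullback.fst Z.hom v ≫ z.left := pullback.lift_fst _ _ _
  rw [reassoc_of% h6]

end cent

end K20.TorPt
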