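import Groth.Agent.SGA3x.K20.AdjPt
import Groth.Agent.SGA3x.K18.BorelFld
import Groth.Agent.SGA3x.K5.MTNorm
import Groth.Agent.Red.K217.IdComp2
import Groth.Agent.RedSub.K199.QuotTools
import Groth.Agent.AlgSp.K618.Dim
import Groth.Agent.S3027
import Groth.Agent.S3278
import Groth.Agent.S8393
import Groth.Agent.S8410

/-!
# Reduction to affine connected groups without central multiplicative subgroups

`exists_adjoint`: the scheme of maximal tori of a smooth algebraic group `G` over a field is also the scheme of maximal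
tori of a smooth connected affine group `G2`, with `dim G2 ≤ dim G`, whose reductive centre is trivial.
-/

set_option autoImplicit false
universe u
open CategoryTheory MonoidalCategory CartesianMonoidalCategory MonObj GrpObj AlgebraicGeometry Limits

namespace K20.Adj

open Groth.Agent

variable {k : Type u} [Field k]

/-- A kernel which is central commutes with everything. -/
lemma central_of_isKernel {S : Scheme.{u}} {Z G Q : Over S} [GrpObj G] [GrpObj Q] {i : Z ⟶ G} {q : G ⟶ Q}
    (hker : AlgGrp.IsKernel i q) (hcen : ∀ (X : Over S) (x : X ⟶ Z) (g : X ⟶ G), (x ≫ i) * g = g * (x ≫ i))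
    (X : Over S) (z g : X ⟶ G) (hz : z ≫ q = 1) : z * g = g * z := by
  have h1 : z ≫ q = toUnit X ≫ η[Q] := hz.trans rfl
  have h2 := hcen X (IsPullback.lift hker z (toUnit X) h1) g
  rwa [IsPullback.lift_fst] at h2

theorem exists_adjoint (k : Type u) [Field k] (G : Over (Spec (CommRingCat.of k))) [GrpObj G] [Smooth G.hom]
    [QuasiCompact G.hom] (𝒯 : Over (Spec (CommRingCat.of k))) (Tu : Over 𝒯.left) [GrpObj Tu]
    (iu : Tu ⟶ Red.bc 𝒯.hom G) (h𝒯 : SGA3x.RepresentsMaxTori G 𝒯 Tu iu) :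
    ∃ (G2 : Over (Spec (CommRingCat.of k))) (_ : GrpObj G2) (Tu2 : Over 𝒯.left) (_ : GrpObj Tu2)
      (iu2 : Tu2 ⟶ Red.bc 𝒯.hom G2), SGA3x.RepresentsMaxTori G2 𝒯 Tu2 iu2 ∧ Smooth G2.hom ∧ IsAffine G2.left ∧
      ConnectedSpace ↥G2.left ∧ topologicalKrullDim ↥G2.left ≤ topologicalKrullDim ↥G.left ∧
      ∀ (S' : Scheme.{u}) (f : S' ⟶ Spec (CommRingCat.of k)) (H : Over S') [GrpObj H] (v : H ⟶ Red.bc f G2)
        [IsMonHom v], SGA3x.IsMultTypeFT H →
        (∀ (X : Over S') (x : X ⟶ H) (g : X ⟶ Red.bc f G2), (x ≫ v) * g = g * (x ≫ v)) → v = 1 := by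
  obtain ⟨G0, _, u, hum, huo, hur, h0s, h0q, h0sep, h0irr, -⟩ := K217.IdComp2.exists_neutral G
  have h0c : ConnectedSpace G0.left := by
    have : IrreducibleSpace G0.left := GeometricallyIrreducible.irreducibleSpace_of_subsingleton G0.hom
    infer_instance
  obtain ⟨Tu0, _, iu0, h0⟩ := AdjPt.of_open h𝒯 u hur
  -- the quotient by the centre
  obtain ⟨Z, _, i, hi, hcl, hcen, Q, _, q, hq, haff, hlft, hfl, hsurj, hker⟩ := S3027.result k G0
  have hcen' : ∀ (X : Over (Spec (CommRingCat.of k))) (x : X ⟶ Z) (g : X ⟶ G0), (x ≫ i) * g = g * (x ≫ i) := by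
    intro X x g
    have h3 := (hcen X (x ≫ i)).1 ⟨x, rfl⟩ X (𝟙 X) g
    rwa [Category.id_comp] at h3
  have hQs : Smooth Q.hom := K18.BorelFld.smooth_of_flat_surjective q
  have hQc : ConnectedSpace Q.left := hsurj.surj.connectedSpace q.left.continuous
  have hQq : QuasiCompact Q.hom := inferInstance
  have hQa : IsAffineHom Q.hom := inferInstance
  obtain ⟨Tu1, _, iu1, h1⟩ := AdjPt.of_quotient h0 q (central_of_isKernel hker hcen')
  -- the quotient by the reductive centre
  obtain ⟨Z1, _, z1, hz1⟩ := S8393.result k Q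
  obtain ⟨hzm, hzo, hzt, hzc, hzu⟩ := id hz1
  have hzcl : IsClosedImmersion z1.left := SGA3x.K5.MTNorm.isClosedImmersion_of_mono z1 hzt
  obtain ⟨G2, _, q2, hq2, h2a, h2lft, h2f, h2s, hker2⟩ := S3278.result k Q Z1 z1 (fun T g n => ⟨n, by
    rw [← hzc, mul_inv_cancel_right]⟩)
  have h2sm : Smooth G2.hom := K18.BorelFld.smooth_of_flat_surjective q2
  have h2c : ConnectedSpace G2.left := h2s.surj.connectedSpace q2.left.continuous
  have h2q : QuasiCompact G2.hom := inferInstance
  obtain ⟨Tu2, _, iu2, h2⟩ := AdjPt.of_quotient h1 q2 (central_of_isKernel hker2 hzc)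
  refine ⟨G2, inferInstance, Tu2, inferInstance, iu2, h2, h2sm, h2a, h2c, ?_, fun S' f H _ v _ hH hv => ?_⟩
  · exact ((K618.Dim.dim_le_of_flat_surjective q2.left).trans
      (K618.Dim.dim_le_of_flat_surjective q.left)).trans (K618.Dim.dim_le_of_lqf u.left)
  · have hconn : ∀ s : Spec (CommRingCat.of k), _root_.IsConnected (Q.hom.base ⁻¹' {s}) := by
      intro s
      have : Q.hom.base ⁻¹' {s} = Set.univ := Set.eq_univ_of_forall fun x => Subsingleton.elim _ _
      rw [this]
      exact isConnected_univ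
    have hlfp := Sga3.H799.FibCrit.lfp_left q2
    exact S8410.result _ Q hconn Z1 z1 hz1 G2 q2
      (K199.QuotTools.isQuotient_of_isKernel q2 hker2 ⟨h2s, h2f, hlfp⟩) S' f H v hH hv

end K20.Adj
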