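import Groth.Agent.SGA3x.K197.RatNodes
import Groth.Agent.SGA3x.K20.Adj
import Groth.Agent.SGA3x.K20.TorPt
import Groth.Agent.SGA3x.K17.CartPre
import Groth.Agent.Sga3B.RG.BrMax
import Groth.Agent.S4133

/-!
# The scheme of maximal tori of a smooth algebraic group is smooth, affine and irreducible
-/

set_option autoImplicit false
universe u
open CategoryTheory MonoidalCategory CartesianMonoidalCategory MonObj GrpObj AlgebraicGeometry Limits

namespace K20.RatN10

open Groth.Agent

theorem main : K197.Rat.N10_smooth.{u} := by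
  intro k _ G _ _ _ 𝒯 Tu _ iu h𝒯
  obtain ⟨T₀, _, i₀, hi₀⟩ := S4121.result k G
  obtain ⟨-, 𝒯', Tu', _, iu', h𝒯', hs, ha⟩ := S4133.result _ G (K17.CartPre.hasMaxTorus i₀ hi₀)
  obtain ⟨e, -⟩ := Sga3.H665.Act.exists_iso h𝒯 (fun q => Sga3.H665.TorBcNA.torBc G q) h𝒯'
  have he : IsIso e.hom.left := inferInstance
  have h1 : Smooth 𝒯.hom := by
    rw [← Over.w e.hom]
    infer_instance
  have h2 : IsAffine 𝒯'.left := by
    let s : Spec (CommRingCat.of k) := IsLocalRing.closedPoint k
    have h3 := ha s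
    have h4 : IsIso ((Spec (CommRingCat.of k)).fromSpecResidueField s) :=
      Sga3B.RG.BrMax.isIso_fromSpecResidueField s
    exact IsAffine.of_isIso (inv (pullback.fst 𝒯'.hom ((Spec (CommRingCat.of k)).fromSpecResidueField s)))
  have h3 : IsAffine 𝒯.left := IsAffine.of_isIso e.hom.left
  refine ⟨h1, h3, ?_⟩
  obtain ⟨G0, _, u, hum, huo, hur, h0s, h0q, h0sep, h0irr, -⟩ := K217.IdComp2.exists_neutral G
  have h0c : ConnectedSpace G0.left := by
    have : IrreducibleSpace G0.left := GeometricallyIrreducible.irreducibleSpace_of_subsingleton G0.hom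
    infer_instance
  obtain ⟨Tu0, _, iu0, h0⟩ := AdjPt.of_open h𝒯 u hur
  exact TorPt.irreducibleSpace h0

end K20.RatN10
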