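import Groth.Agent.Sga3.H665.TorBcNA
import Groth.Agent.Sga3.H813.NeutralTor
import Groth.Agent.SGA3x.K19.ImgCart
import Groth.Agent.S4121
import Groth.Agent.S4147
import Groth.Agent.S8429

/-!
# Transfer of the scheme of maximal tori along a homomorphism

`(𝒯, Tu, iu)` represents the functor of maximal tori of `G`.

* `representsMaxTori_iff`: the universal property in terms of points;
* `transfer`: a correspondence between the maximal tori of `G` and those of `G'`, compatible with base change,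
  makes `𝒯` represent the functor of maximal tori of `G'`;
* `of_quotient`: for `u : G ⟶ G'` faithfully flat with central kernel;
* `of_open`: for `u : G0 ⟶ G` the neutral component.
-/

set_option autoImplicit false
universe u
open CategoryTheory CategoryTheory.Limits AlgebraicGeometry MonoidalCategory CartesianMonoidalCategory MonObj GrpObj

namespace K20.AdjPt

open Groth.Agent Groth.Agent.RedSub.H647.SubPt Groth.Agent.RedSub.H647.SubF Groth.Agent.Sga3B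
  Groth.Agent.Sga3B.MT Groth.Agent.Sga3B.BcPts Groth.Agent.Sga3.H665.Act Groth.Agent.Sga3B.RedIso

variable {S : Scheme.{u}}

/-- Two subgroups of the same base change of `G` have the same points. -/
def SamePt {S' : Scheme.{u}} {f : S' ⟶ S} {G : Over S} {H H' : Over S'} (h : H ⟶ Red.bc f G)
    (h' : H' ⟶ Red.bc f G) : Prop :=
  ∀ (X : Scheme.{u}) (y : X ⟶ S') (c : X ⟶ G.left), Pt h y c ↔ Pt h' y c

lemma SamePt.symm {S' : Scheme.{u}} {f : S' ⟶ S} {G : Over S} {H H' : Over S'} {h : H ⟶ Red.bc f G}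
    {h' : H' ⟶ Red.bc f G} (e : SamePt h h') : SamePt h' h := fun X y c => (e X y c).symm

/-- Subobjects related by an isomorphism have the same points. -/
lemma samePt_of_iso {S' : Scheme.{u}} {f : S' ⟶ S} {G : Over S} {H H' : Over S'} {h : H ⟶ Red.bc f G}
    {h' : H' ⟶ Red.bc f G} (e : H ≅ H') (he : e.hom ≫ h' = h) : SamePt h h' := by
  have key : ∀ {H H' : Over S'} {h : H ⟶ Red.bc f G} {h' : H' ⟶ Red.bc f G} (e : H ≅ H') (_ : e.hom ≫ h' = h)
      (X : Scheme.{u}) (y : X ⟶ S') (c : X ⟶ G.left), Pt h y c → Pt h' y c := by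
    rintro H H' h h' e rfl X y c ⟨p, h1, h2⟩
    refine ⟨p ≫ e.hom.left, ?_, ?_⟩
    · rw [Category.assoc, Over.w, h1]
    · rw [← h2, Over.comp_left, Category.assoc, Category.assoc]
  exact fun X y c => ⟨key e he X y c, key e.symm (by rw [← he, Iso.symm_hom, Iso.inv_hom_id_assoc]) X y c⟩

section iff

variable {G : Over S} [GrpObj G] {𝒯 : Over S} {Tu : Over 𝒯.left} [GrpObj Tu] {iu : Tu ⟶ Red.bc 𝒯.hom G}

omit [GrpObj Tu] in
/-- The comparison of two subgroups in the definition of `SGA3x.RepresentsMaxTori`, in terms of points. -/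
theorem same_iff (hiu : Mono iu) {S' : Scheme.{u}} {f : S' ⟶ S} {T' : Over S'} (i' : T' ⟶ Red.bc f G)
    (hi' : Mono i') (v : S' ⟶ 𝒯.left) : (v ≫ 𝒯.hom = f ∧
      ∃ φ : T'.left ≅ (Red.bc v Tu).left,
        φ.hom ≫ (Red.bc v Tu).hom = T'.hom ∧
        φ.hom ≫ ((Over.pullback v).map iu).left ≫ pullback.fst (Red.bc 𝒯.hom G).hom v ≫
          pullback.fst G.hom 𝒯.hom = i'.left ≫ pullback.fst G.hom f) ↔
      (v ≫ 𝒯.hom = f ∧
        ∀ (X : Scheme.{u}) (y : X ⟶ S') (c : X ⟶ G.left), Pt i' y c ↔ Pt iu (y ≫ v) c) := by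
  refine and_congr_right fun hv => ?_
  subst hv
  have hfst : (bcSub v iu).left ≫ pullback.fst G.hom (v ≫ 𝒯.hom) =
      ((Over.pullback v).map iu).left ≫ pullback.fst (Red.bc 𝒯.hom G).hom v ≫
        pullback.fst G.hom 𝒯.hom := by
    rw [bcSub_fst]
    have h2 : ((Over.pullback v).map iu).left ≫ pullback.fst (pullback.snd G.hom 𝒯.hom) v =
      pullback.fst Tu.hom v ≫ iu.left := (Parab.EtHom.isPullback_map v iu).w.symm
    rw [← Category.assoc, ← h2, Category.assoc]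
    rfl
  constructor
  · rintro ⟨φ, h1, h2⟩ X y c
    rw [← pt_bcSub]
    constructor
    · rintro ⟨p, hp1, hp2⟩
      refine ⟨p ≫ φ.hom, ?_, ?_⟩
      · rw [Category.assoc, h1, hp1]
      · rw [hfst, Category.assoc, h2, hp2]
    · rintro ⟨p, hp1, hp2⟩
      refine ⟨p ≫ φ.inv, ?_, ?_⟩
      · rw [← h1, Category.assoc, Iso.inv_hom_id_assoc, hp1]
      · rw [← h2, ← hfst, Category.assoc, Iso.inv_hom_id_assoc, hp2]
  · intro h
    have hm : Mono (bcSub v iu) := by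
      rw [bcSub_eq]
      have h1 : Mono ((Over.pullback v).map iu) := inferInstance
      have h2 : IsIso (BcIso.bcCompIso v 𝒯.hom G).symm.hom.hom.hom :=
        inferInstanceAs (IsIso (RedIso.und (BcIso.bcCompIso v 𝒯.hom G).symm).hom)
      infer_instance
    obtain ⟨i, hi⟩ := exists_iso_of_pt i' (bcSub v iu) fun X y c => by rw [pt_bcSub, h]
    refine ⟨(Over.forget _).mapIso i, Over.w i.hom, ?_⟩
    rw [← hfst, ← hi]
    exact (Category.assoc _ _ _).symm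

/-- The universal property in terms of points. -/
theorem representsMaxTori_iff : SGA3x.RepresentsMaxTori G 𝒯 Tu iu ↔ Red.IsMaximalTorus iu ∧
    ∀ (S' : Scheme.{u}) (f : S' ⟶ S) (T' : Over S') [GrpObj T'] (i' : T' ⟶ Red.bc f G),
      Red.IsMaximalTorus i' → ∃! v : S' ⟶ 𝒯.left, v ≫ 𝒯.hom = f ∧
        ∀ (X : Scheme.{u}) (y : X ⟶ S') (c : X ⟶ G.left), Pt i' y c ↔ Pt iu (y ≫ v) c := by
  constructor
  · rintro ⟨h1, h2⟩
    refine ⟨h1, fun S' f T' _ i' hi' => ?_⟩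
    obtain ⟨v, hv, huniq⟩ := h2 S' f T' i' hi'
    exact ⟨v, (same_iff h1.2.1 i' hi'.2.1 v).1 hv, fun w hw => huniq w ((same_iff h1.2.1 i' hi'.2.1 w).2 hw)⟩
  · rintro ⟨h1, h2⟩
    refine ⟨h1, fun S' f T' _ i' hi' => ?_⟩
    obtain ⟨v, hv, huniq⟩ := h2 S' f T' i' hi'
    exact ⟨v, (same_iff h1.2.1 i' hi'.2.1 v).2 hv, fun w hw => huniq w ((same_iff h1.2.1 i' hi'.2.1 w).1 hw)⟩

/-- **Transfer of the scheme of maximal tori.** -/
theorem transfer {G' : Over S} [GrpObj G'] (hbc : TorBc G) (hbc' : TorBc G')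
    (h𝒯 : SGA3x.RepresentsMaxTori G 𝒯 Tu iu)
    (C : ∀ {S' : Scheme.{u}} (f : S' ⟶ S) {T T' : Over S'} (_ : T ⟶ Red.bc f G) (_ : T' ⟶ Red.bc f G'), Prop)
    (R1 : ∀ {S' : Scheme.{u}} (f : S' ⟶ S) {T : Over S'} [GrpObj T] (i : T ⟶ Red.bc f G),
      Red.IsMaximalTorus i → ∃ (T' : Over S') (_ : GrpObj T') (i' : T' ⟶ Red.bc f G'),
        Red.IsMaximalTorus i' ∧ C f i i')
    (R2 : ∀ {S' : Scheme.{u}} (f : S' ⟶ S) {T' : Over S'} [GrpObj T'] (i' : T' ⟶ Red.bc f G'),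
      Red.IsMaximalTorus i' → ∃ (T : Over S') (_ : GrpObj T) (i : T ⟶ Red.bc f G),
        Red.IsMaximalTorus i ∧ C f i i')
    (R3 : ∀ {S' : Scheme.{u}} (f : S' ⟶ S) {T₁ T₂ T₁' T₂' : Over S'} [GrpObj T₁] [GrpObj T₂] [GrpObj T₁']
      [GrpObj T₂'] (i₁ : T₁ ⟶ Red.bc f G) (i₂ : T₂ ⟶ Red.bc f G) (i₁' : T₁' ⟶ Red.bc f G')
      (i₂' : T₂' ⟶ Red.bc f G'), Red.IsMaximalTorus i₁ → Red.IsMaximalTorus i₂ → Red.IsMaximalTorus i₁' →
      Red.IsMaximalTorus i₂' → C f i₁ i₁' → C f i₂ i₂' → (SamePt i₁ i₂ ↔ SamePt i₁' i₂'))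
    (R4 : ∀ {S' S'' : Scheme.{u}} (q : S'' ⟶ S') (f : S' ⟶ S) {T T' : Over S'} (i : T ⟶ Red.bc f G)
      (i' : T' ⟶ Red.bc f G'), C f i i' → C (q ≫ f) (bcSub q i) (bcSub q i')) :
    ∃ (Tu' : Over 𝒯.left) (_ : GrpObj Tu') (iu' : Tu' ⟶ Red.bc 𝒯.hom G'),
      SGA3x.RepresentsMaxTori G' 𝒯 Tu' iu' := by
  obtain ⟨h1, h2⟩ := representsMaxTori_iff.1 h𝒯
  obtain ⟨Tu', _, iu', h1', hC⟩ := R1 𝒯.hom iu h1
  refine ⟨Tu', inferInstance, iu', representsMaxTori_iff.2 ⟨h1', fun S' f T' _ i' hi' => ?_⟩⟩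
  obtain ⟨T, _, i, hi, hCi⟩ := R2 f i' hi'
  have key : ∀ v : S' ⟶ 𝒯.left, v ≫ 𝒯.hom = f →
      ((∀ (X : Scheme.{u}) (y : X ⟶ S') (c : X ⟶ G.left), Pt i y c ↔ Pt iu (y ≫ v) c) ↔
        ∀ (X : Scheme.{u}) (y : X ⟶ S') (c : X ⟶ G'.left), Pt i' y c ↔ Pt iu' (y ≫ v) c) := by
    rintro v rfl
    have ha := isMaximalTorus_bcSub (f := 𝒯.hom) (H := Tu) (h := iu) hbc v h1
    have hb := isMaximalTorus_bcSub (f := 𝒯.hom) (H := Tu') (h := iu') hbc' v h1'
    have hc := R4 v 𝒯.hom iu iu' hC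
    have h3 := R3 (v ≫ 𝒯.hom) i (bcSub v iu) i' (bcSub v iu') hi ha hi' hb hCi hc
    have h4 : (∀ (X : Scheme.{u}) (y : X ⟶ S') (c : X ⟶ G.left), Pt i y c ↔ Pt iu (y ≫ v) c) ↔
        SamePt i (bcSub v iu) :=
      forall_congr' fun X => forall_congr' fun y => forall_congr' fun c => by rw [pt_bcSub]
    have h5 : (∀ (X : Scheme.{u}) (y : X ⟶ S') (c : X ⟶ G'.left), Pt i' y c ↔ Pt iu' (y ≫ v) c) ↔
        SamePt i' (bcSub v iu') :=
      forall_congr' fun X => forall_congr' fun y => forall_congr' fun c => by rw [pt_bcSub]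
    rw [h4, h5, h3]
  obtain ⟨v, ⟨hv1, hv2⟩, huniq⟩ := h2 S' f T i hi
  refine ⟨v, ⟨hv1, (key v hv1).1 hv2⟩, ?_⟩
  rintro w ⟨hw1, hw2⟩
  exact huniq w ⟨hw1, (key w hw1).2 hw2⟩

end iff

/-- Naturality of `bcSub`. -/
lemma bcSub_nat {S' S'' : Scheme.{u}} (q : S'' ⟶ S') (f : S' ⟶ S) {G G' : Over S} [GrpObj G] [GrpObj G']
    (u : G ⟶ G') {T T' : Over S'} (i : T ⟶ Red.bc f G) (i' : T' ⟶ Red.bc f G') (a : T ⟶ T')
    (h : a ≫ i' = i ≫ (Over.pullback f).map u) :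
    (Over.pullback q).map a ≫ bcSub q i' = bcSub q i ≫ (Over.pullback (q ≫ f)).map u := by
  have h1 : (BcIso.bcCompIso q f G).symm.hom.hom.hom ≫ (Over.pullback (q ≫ f)).map u =
      (Over.pullback q).map ((Over.pullback f).map u) ≫ (BcIso.bcCompIso q f G').symm.hom.hom.hom :=
    BcNat.comp_nat_inv q f u
  rw [bcSub_eq, bcSub_eq, Category.assoc, h1, ← Functor.map_comp_assoc, h, Functor.map_comp_assoc]

section quot

variable {k : Type u} [Field k] {G G' : Over (Spec (CommRingCat.of k))} [GrpObj G] [GrpObj G']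
  [Smooth G.hom] [QuasiCompact G.hom] [Smooth G'.hom] [QuasiCompact G'.hom]
  {𝒯 : Over (Spec (CommRingCat.of k))} {Tu : Over 𝒯.left} [GrpObj Tu] {iu : Tu ⟶ Red.bc 𝒯.hom G}

/-- **The scheme of maximal tori of a central quotient.** -/
theorem of_quotient (h𝒯 : SGA3x.RepresentsMaxTori G 𝒯 Tu iu) (u : G ⟶ G') [IsMonHom u] [Surjective u.left]
    (hker : ∀ (X : Over (Spec (CommRingCat.of k))) (z g : X ⟶ G), z ≫ u = 1 → z * g = g * z) :
    ∃ (Tu' : Over 𝒯.left) (_ : GrpObj Tu') (iu' : Tu' ⟶ Red.bc 𝒯.hom G'),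
      SGA3x.RepresentsMaxTori G' 𝒯 Tu' iu' := by
  have hsep : IsSeparated G.hom := Localalg.GrpSchComp2.isSeparated_hom G
  have hsep' : IsSeparated G'.hom := Localalg.GrpSchComp2.isSeparated_hom G'
  obtain ⟨T₀, _, i₀, hi₀⟩ := S4121.result k G
  have hmt : ∀ {S' : Scheme.{u}} (f : S' ⟶ Spec (CommRingCat.of k)), SGA3x.HasMaxTorusFpqcLocally (Red.bc f G) :=
    fun {S'} f => by
      have : LocallyOfFiniteType (Red.bc f G).hom := inferInstanceAs (LocallyOfFiniteType (pullback.snd G.hom f))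
      have h1 := Sga3.H799.Bc.isMaximalTorus_bc f hi₀
      refine ⟨S', 𝟙 S', inferInstance, inferInstance, fun V hV => ⟨V, hV.isCompact, ?_⟩,
        Red.bc (𝟙 S') (Red.bc f T₀), inferInstance, _, Sga3.H799.Bc.isMaximalTorus_bc (𝟙 S') h1⟩
      ext x
      simp
  have hsm : ∀ {S' : Scheme.{u}} (f : S' ⟶ Spec (CommRingCat.of k)), Smooth (Red.bc f G).hom ∧
      IsSeparated (Red.bc f G).hom ∧ QuasiCompact (Red.bc f G).hom ∧ Smooth (Red.bc f G').hom ∧
      IsSeparated (Red.bc f G').hom ∧ QuasiCompact (Red.bc f G').hom := fun f =>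
    ⟨inferInstanceAs (Smooth (pullback.snd G.hom f)), inferInstanceAs (IsSeparated (pullback.snd G.hom f)),
      inferInstanceAs (QuasiCompact (pullback.snd G.hom f)), inferInstanceAs (Smooth (pullback.snd G'.hom f)),
      inferInstanceAs (IsSeparated (pullback.snd G'.hom f)), inferInstanceAs (QuasiCompact (pullback.snd G'.hom f))⟩
  have hsurj : ∀ {S' : Scheme.{u}} (f : S' ⟶ Spec (CommRingCat.of k)), Surjective ((Over.pullback f).map u).left :=
    fun f => MorphismProperty.of_isPullback (P := @Surjective) (Sga3.H798.FpqcIso.isPullback_map_left f u) ‹_›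
  have hsurj' : ∀ {S' : Scheme.{u}} (f : S' ⟶ Spec (CommRingCat.of k)) (s : S'),
      Surjective ((Over.pullback (Red.geomPt s)).map ((Over.pullback f).map u)).left := fun f s => by
    have := hsurj f
    exact MorphismProperty.of_isPullback (P := @Surjective)
      (Sga3.H798.FpqcIso.isPullback_map_left (Red.geomPt s) ((Over.pullback f).map u)) this
  have hk : ∀ {S' : Scheme.{u}} (f : S' ⟶ Spec (CommRingCat.of k)) (X : Over S') (z : X ⟶ Red.bc f G),
      z ≫ (Over.pullback f).map u = 1 → ∀ (X' : Over S') (x : X' ⟶ X) (g : X' ⟶ Red.bc f G),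
        (x ≫ z) * g = g * (x ≫ z) := by
    intro S' f X z hz X' x g
    obtain ⟨z', hz'⟩ := (bcMulEquiv f X' G).surjective (x ≫ z)
    obtain ⟨g', rfl⟩ := (bcMulEquiv f X' G).surjective g
    rw [← hz', ← map_mul, ← map_mul]
    congr 1
    refine hker _ z' g' ?_
    apply (bcMulEquiv f X' G').injective
    rw [map_one]
    change bcEquiv f X' G z' = _ at hz'
    change bcEquiv f X' G' _ = _
    rw [bcEquiv_comp, hz', Category.assoc, hz, MonObj.comp_one]
  refine transfer (fun q => Sga3.H665.TorBcNA.torBc G q) (fun q => Sga3.H665.TorBcNA.torBc G' q) h𝒯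
    (fun {S'} f {T T'} i i' => ∃ v : T ⟶ T', v ≫ i' = i ≫ (Over.pullback f).map u ∧ Surjective v.left ∧
      Flat v.left ∧ QuasiCompact v.left) ?_ ?_ ?_ ?_
  · intro S' f T _ i hi
    obtain ⟨h1, h2, h3, h4, h5, h6⟩ := hsm f
    obtain ⟨T', _, i', v, hi', hv1, hv2, hv3, hv4⟩ := S4147.result S' (Red.bc f G) (Red.bc f G') (hmt f)
      ((Over.pullback f).map u) (hsurj' f) T i hi
    have h7 := Sga3B.TorusAlgClosed.isAffineHom_of_isTorus hi.2.2.1
    have h8 := hi'.2.1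
    exact ⟨T', inferInstance, i', hi', v, hv2, hv3, hv4, (K19.ImgCart.cov_of_mono v i').qc⟩
  · intro S' f T' _ i' hi'
    obtain ⟨h1, h2, h3, h4, h5, h6⟩ := hsm f
    obtain ⟨T, _, i, v, hi, hv1, hv2, hv3, hv4⟩ := (S8429.result S' (Red.bc f G) (Red.bc f G') (hmt f)
      ((Over.pullback f).map u) (hsurj' f) (hk f)).1 T' i' hi'
    have h7 := Sga3B.TorusAlgClosed.isAffineHom_of_isTorus hi.2.2.1
    have h8 := hi'.2.1
    exact ⟨T, inferInstance, i, hi, v, hv2, hv3, hv4, (K19.ImgCart.cov_of_mono v i').qc⟩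
  · intro S' f T₁ T₂ T₁' T₂' _ _ _ _ i₁ i₂ i₁' i₂' hi₁ hi₂ hi₁' hi₂' ⟨v₁, h11, h12, h13, h14⟩ ⟨v₂, h21, h22, h23, h24⟩
    obtain ⟨h1, h2, h3, h4, h5, h6⟩ := hsm f
    have m1 := hi₁.2.1
    have m2 := hi₂.2.1
    have m1' := hi₁'.2.1
    have m2' := hi₂'.2.1
    constructor
    · intro h
      obtain ⟨e, he⟩ := exists_iso_of_pt i₁ i₂ h
      have hs : Surjective (e.hom ≫ v₂).left := by rw [Over.comp_left]; infer_instance
      have hf : Flat (e.hom ≫ v₂).left := by rw [Over.comp_left]; infer_instance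
      have hq : QuasiCompact (e.hom ≫ v₂).left := by rw [Over.comp_left]; infer_instance
      obtain ⟨e', he', -⟩ := K19.ImgCart.exists_iso_of_images v₁ i₁' (e.hom ≫ v₂) i₂' ⟨h13, h12, h14⟩
        ⟨hf, hs, hq⟩ (by rw [h11, Category.assoc, h21, ← he, Category.assoc])
      exact samePt_of_iso e' he'
    · intro h
      obtain ⟨e', he'⟩ := exists_iso_of_pt i₁' i₂' h
      have hs : Surjective (v₁ ≫ e'.hom).left := by rw [Over.comp_left]; infer_instance
      obtain ⟨φ, hφ⟩ := (S8429.result S' (Red.bc f G) (Red.bc f G') (hmt f)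
        ((Over.pullback f).map u) (hsurj' f) (hk f)).2 T₁ T₂ T₂' i₁ i₂ i₂' (v₁ ≫ e'.hom) v₂ hi₁ hi₂ hi₂'
        (by rw [Category.assoc, he', h11]) h21 hs h22
      exact samePt_of_iso φ hφ
  · rintro S' S'' q f T T' i i' ⟨v, hv, h1, h2, h3⟩
    refine ⟨(Over.pullback q).map v, bcSub_nat q f u i i' v hv, ?_, ?_, ?_⟩
    · exact MorphismProperty.of_isPullback (P := @Surjective) (Sga3.H798.FpqcIso.isPullback_map_left q v) h1
    · exact MorphismProperty.of_isPullback (P := @Flat) (Sga3.H798.FpqcIso.isPullback_map_left q v) h2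
    · exact MorphismProperty.of_isPullback (P := @QuasiCompact) (Sga3.H798.FpqcIso.isPullback_map_left q v) h3

end quot

section opn

variable {S : Scheme.{u}} {G G0 : Over S} [GrpObj G] [GrpObj G0] [LocallyOfFiniteType G.hom]
  {𝒯 : Over S} {Tu : Over 𝒯.left} [GrpObj Tu] {iu : Tu ⟶ Red.bc 𝒯.hom G}

/-- **The scheme of maximal tori of the neutral component.** -/
theorem of_open (h𝒯 : SGA3x.RepresentsMaxTori G 𝒯 Tu iu) (u : G0 ⟶ G) [IsMonHom u] [IsOpenImmersion u.left]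
    (hu : Set.range u.left = SGA3x.neutralSet G) :
    ∃ (Tu' : Over 𝒯.left) (_ : GrpObj Tu') (iu' : Tu' ⟶ Red.bc 𝒯.hom G0),
      SGA3x.RepresentsMaxTori G0 𝒯 Tu' iu' := by
  have hlft : LocallyOfFiniteType G0.hom := by rw [← Over.w u]; infer_instance
  have hm : Mono u := Over.mono_of_mono_left u
  refine transfer (fun q => Sga3.H665.TorBcNA.torBc G q) (fun q => Sga3.H665.TorBcNA.torBc G0 q) h𝒯
    (fun {S'} f {T T'} i i' => ∃ e : T' ≅ T, e.hom ≫ i = i' ≫ (Over.pullback f).map u) ?_ ?_ ?_ ?_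
  · intro S' f T _ i hi
    obtain ⟨j, hj, hjm⟩ := Sga3.H813.NeutralTor.exists_isMaximalTorus u hu i hi
    exact ⟨T, inferInstance, j, hjm, Iso.refl T, by rw [Iso.refl_hom, Category.id_comp, hj]⟩
  · intro S' f T' _ i' hi'
    exact ⟨T', inferInstance, _, Sga3.H813.NeutralTor.isMaximalTorus_comp u hu i' hi', Iso.refl T', by
      rw [Iso.refl_hom, Category.id_comp]⟩
  · rintro S' f T₁ T₂ T₁' T₂' _ _ _ _ i₁ i₂ i₁' i₂' hi₁ hi₂ hi₁' hi₂' ⟨e₁, he₁⟩ ⟨e₂, he₂⟩
    have m1 := hi₁.2.1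
    have m2 := hi₂.2.1
    have m1' := hi₁'.2.1
    have m2' := hi₂'.2.1
    constructor
    · intro h
      obtain ⟨e, he⟩ := exists_iso_of_pt i₁ i₂ h
      refine samePt_of_iso (e₁ ≪≫ e ≪≫ e₂.symm) ?_
      rw [← cancel_mono ((Over.pullback f).map u)]
      simp only [Iso.trans_hom, Iso.symm_hom, Category.assoc]
      rw [← he₂, Iso.inv_hom_id_assoc, he, he₁]
    · intro h
      obtain ⟨e, he⟩ := exists_iso_of_pt i₁' i₂' h
      refine samePt_of_iso (e₁.symm ≪≫ e ≪≫ e₂) ?_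
      simp only [Iso.trans_hom, Iso.symm_hom, Category.assoc]
      rw [he₂, ← Category.assoc e.hom, he, ← he₁, Iso.inv_hom_id_assoc]
  · rintro S' S'' q f T T' i i' ⟨e, he⟩
    exact ⟨(Over.pullback q).mapIso e, bcSub_nat q f u i' i e.hom he⟩

end opn

end K20.AdjPt
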