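import Groth.Agent.SGA3x.K197.RatNodes2
import Groth.Agent.SGA3x.K20.AdjPt
import Groth.Agent.Sga3.H828.MTHyp

/-!
# The maximal torus over a field-valued point of the scheme of maximal tori
-/

set_option autoImplicit false
universe u
open CategoryTheory MonoidalCategory CartesianMonoidalCategory MonObj GrpObj AlgebraicGeometry Limits

namespace K20.RatN18

open Groth.Agent Groth.Agent.RedSub.H647.SubPt Groth.Agent.RedSub.H647.SubF Groth.Agent.Sga3B
  Groth.Agent.Sga3B.MT Groth.Agent.Sga3.H665.Act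

theorem aux {k F : Type u} [Field k] [Field F] (G : Over (Spec (CommRingCat.of k))) [GrpObj G]
    [Smooth G.hom] [IsAffine G.left]
    (𝒯 : Over (Spec (CommRingCat.of k))) (Tu : Over 𝒯.left) [GrpObj Tu]
    (iu : Tu ⟶ Red.bc 𝒯.hom G) (h𝒯 : SGA3x.RepresentsMaxTori G 𝒯 Tu iu)
    (x : Spec (CommRingCat.of F) ⟶ 𝒯.left) (f : Spec (CommRingCat.of F) ⟶ Spec (CommRingCat.of k))
    (hxk : x ≫ 𝒯.hom = f) :
    ∃ (j : Red.bc x Tu ⟶ Red.bc f G), Red.IsMaximalTorus j ∧ IsMonHom j ∧ Mono j ∧ IsAffine (Red.bc x Tu).left ∧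
      IsClosedImmersion j.left ∧ LocallyOfFiniteType (Red.bc x Tu).hom ∧
      j.left ≫ pullback.fst G.hom f = pullback.fst Tu.hom x ≫ iu.left ≫ pullback.fst G.hom 𝒯.hom := by
  subst hxk
  have hGa : IsAffineHom G.hom := inferInstance
  have h1 := isMaximalTorus_bcSub (f := 𝒯.hom) (H := Tu) (h := iu) (fun q => Sga3.H665.TorBcNA.torBc G q) x h𝒯.1
  have h2 : IsAffineHom (Red.bc x Tu).hom := Sga3B.TorusAlgClosed.isAffineHom_of_isTorus h1.2.2.1
  have h3 := (Sga3.H828.MTHyp.hyp_of_affine G).closed (x ≫ 𝒯.hom) _ (bcSub x iu) h1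
  refine ⟨bcSub x iu, h1, h1.1, h1.2.1, isAffine_of_isAffineHom (Red.bc x Tu).hom, h3, ?_, ?_⟩
  · rw [← Over.w (bcSub x iu)]
    have : LocallyOfFiniteType (Red.bc (x ≫ 𝒯.hom) G).hom :=
      inferInstanceAs (LocallyOfFiniteType (pullback.snd G.hom (x ≫ 𝒯.hom)))
    infer_instance
  · exact bcSub_fst _ _

theorem main : K197.Rat.N18_torus.{u} := by
  intro k F _ _ _ G _ _ _ 𝒯 Tu _ iu h𝒯 x hxk
  exact aux G 𝒯 Tu iu h𝒯 x _ hxk

end K20.RatN18
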