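import Groth.Agent.SGA3x.K20.CartDense
import Groth.Agent.SGA3x.K20.TorPt
import Groth.Agent.Sga3.H799.Bc
import Groth.Agent.Sga3.H826.S4146Of
import Groth.Agent.S4133

/-!
# Density of the Cartan subgroups over an infinite field

`exists_cartan`: if the rational points of the scheme of maximal tori are dense, then every nonempty open subset of
the smooth connected group `G` meets a Cartan subgroup of `G`.
-/

set_option autoImplicit false
universe u
open CategoryTheory MonoidalCategory CartesianMonoidalCategory MonObj GrpObj AlgebraicGeometry Limits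

namespace K20.CartDenseK

open Groth.Agent Groth.Agent.Sga3 Groth.Agent.Sga3B Groth.Agent.Sga3B.RedIso

section sec

variable {S X : Scheme.{u}}

lemma congr_fst {f g : X ⟶ S} (h : f = g) (G : Over S) [GrpObj G] :
    (und (BcIso.bcCongrIso h G)).hom.left ≫ pullback.fst G.hom g = pullback.fst G.hom f := by
  subst h
  exact Category.id_comp _

lemma id_fst (G : Over S) [GrpObj G] :
    (und (BcIso.bcIdIso G)).hom.left = pullback.fst G.hom (𝟙 S) := by
  rw [BcNat.und_bcIdIso]
  simp [Over.pullbackId]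

/-- The fibre of a base change at a section is the original group. -/
theorem exists_secIso (q : S ⟶ X) (g : X ⟶ S) (h : q ≫ g = 𝟙 S) (G : Over S) [GrpObj G] :
    ∃ ε : Red.bc q (Red.bc g G) ≅ G, IsMonHom ε.hom ∧
      ε.hom.left = pullback.fst (Red.bc g G).hom q ≫ pullback.fst G.hom g := by
  refine ⟨(und (BcIso.bcCompIso q g G)).symm ≪≫ und (BcIso.bcCongrIso h G) ≪≫ und (BcIso.bcIdIso G), ?_, ?_⟩
  · have : IsMonHom (und (BcIso.bcCompIso q g G)).inv := inferInstance
    have : IsMonHom (und (BcIso.bcCongrIso h G)).hom := inferInstance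
    have : IsMonHom (und (BcIso.bcIdIso G)).hom := inferInstance
    simp only [Iso.trans_hom, Iso.symm_hom]
    infer_instance
  · simp only [Iso.trans_hom, Iso.symm_hom, Over.comp_left]
    rw [id_fst, congr_fst, ← DsBc.pullbackComp_fst q g G, ← BcNat.und_bcCompIso, ← Over.comp_left_assoc,
      Iso.inv_hom_id]
    exact Category.id_comp _

end sec

variable {k : Type u} [Field k]

theorem exists_cartan (G : Over (Spec (CommRingCat.of k))) [GrpObj G] [Smooth G.hom] [QuasiCompact G.hom]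
    [ConnectedSpace G.left]
    (hpts : ∀ (𝒯 : Over (Spec (CommRingCat.of k))) (Tu : Over 𝒯.left) [GrpObj Tu] (iu : Tu ⟶ Red.bc 𝒯.hom G),
      SGA3x.RepresentsMaxTori G 𝒯 Tu iu → Smooth 𝒯.hom → ∀ W : Set 𝒯.left, IsOpen W → W.Nonempty →
        ∃ t : Spec (CommRingCat.of k) ⟶ 𝒯.left, t ≫ 𝒯.hom = 𝟙 _ ∧ t (IsLocalRing.closedPoint k) ∈ W)
    (U : Set G.left) (hUo : IsOpen U) (hU : U.Nonempty) :
    ∃ (C : Over (Spec (CommRingCat.of k))) (_ : GrpObj C) (c : C ⟶ G), SGA3x.IsCartan c ∧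
      (Set.range c.left ∩ U).Nonempty := by
  have hsep : IsSeparated G.hom := Groth.Agent.Localalg.GrpSchComp2.isSeparated_hom G
  obtain ⟨T, _, i, hi⟩ := S4121.result k G
  obtain ⟨-, 𝒯, Tu, _, iu, h𝒯, hsm, -⟩ := S4133.result _ G (K17.CartPre.hasMaxTorus i hi)
  have hs1 : Smooth (Red.bc 𝒯.hom G).hom := inferInstanceAs (Smooth (pullback.snd G.hom 𝒯.hom))
  have hs2 : IsSeparated (Red.bc 𝒯.hom G).hom := inferInstanceAs (IsSeparated (pullback.snd G.hom 𝒯.hom))
  have hs3 : QuasiCompact (Red.bc 𝒯.hom G).hom := inferInstanceAs (QuasiCompact (pullback.snd G.hom 𝒯.hom))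
  obtain ⟨Z, _, z, hz, hzcl, hzc, -⟩ := S4118.result 𝒯.left (Red.bc 𝒯.hom G) Tu iu h𝒯.1
  have hZs : Smooth Z.hom := hzc.2.2.1
  let ρ : Z.left ⟶ G.left := z.left ≫ pullback.fst G.hom 𝒯.hom
  have hρo : IsOpen (ρ ⁻¹' U) := hUo.preimage ρ.continuous
  have hρne : (ρ ⁻¹' U).Nonempty := by
    let K := AlgebraicClosure k
    let b : Spec (CommRingCat.of K) ⟶ Spec (CommRingCat.of k) :=
      Spec.map (CommRingCat.ofHom (algebraMap k K))
    let GK := Red.bc b G
    have hb : Surjective b := ⟨fun y => ⟨IsLocalRing.closedPoint K, Subsingleton.elim _ _⟩⟩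
    let p : GK.left ⟶ G.left := pullback.fst G.hom b
    have hp : Surjective p := inferInstanceAs (Surjective (pullback.fst G.hom b))
    have h1 : GrpObj (Over.mk G.hom) := inferInstanceAs (GrpObj G)
    have hG : GeometricallyIrreducible G.hom :=
      Sga3C.GrpIrr.geometricallyIrreducible_of_connectedSpace G.hom
    have hGK : IrreducibleSpace GK.left := inferInstanceAs (IrreducibleSpace ↥(pullback G.hom b))
    have hGKs : Smooth GK.hom := inferInstanceAs (Smooth (pullback.snd G.hom b))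
    have hGKq : QuasiCompact GK.hom := inferInstanceAs (QuasiCompact (pullback.snd G.hom b))
    obtain ⟨x, hx⟩ := hU
    obtain ⟨x', hx'⟩ := hp.surj x
    obtain ⟨C', _, c', ⟨-, -, T', _, i', hi', hc'⟩, _, ⟨y, rfl⟩, hy⟩ := CartDense.dense GK (p ⁻¹' U)
      (hUo.preimage p.continuous) ⟨x', by change p x' ∈ U; rw [hx']; exact hx⟩
    obtain ⟨v, hv, e, he⟩ := TorPt.exists_iso_centralizer h𝒯 hz b i' hi' c' hc'
    refine ⟨pullback.fst Z.hom v (e.hom.left y), ?_⟩
    have h2 : ρ (pullback.fst Z.hom v (e.hom.left y)) = p (c'.left y) := by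
      rw [← Scheme.Hom.comp_apply, ← Scheme.Hom.comp_apply, ← Scheme.Hom.comp_apply]
      exact congrArg (fun w => w y) (congrArg (fun (w : C'.left ⟶ G.left) => (w : C'.left → G.left)) he)
    change ρ _ ∈ U
    rw [h2]
    exact hy
  obtain ⟨t, ht, y, hyU, hy⟩ := hpts 𝒯 Tu iu h𝒯 hsm (Z.hom '' (ρ ⁻¹' U)) (Z.hom.isOpenMap _ hρo) (hρne.image _)
  obtain ⟨ε, hεm, hε⟩ := exists_secIso t 𝒯.hom ht G
  have h3 : SGA3x.IsCartan ((Over.pullback t).map z) := H799.Bc.isCartan_bc t hzc
  have h4 := H826.S4146Of.isCartan_comp_iso h3 ε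
  refine ⟨Red.bc t Z, inferInstance, (Over.pullback t).map z ≫ ε.hom, h4, ?_⟩
  obtain ⟨w, hw1, hw2⟩ := Scheme.Pullback.exists_preimage_pullback (f := Z.hom) (g := t) y
    (IsLocalRing.closedPoint k) hy
  refine ⟨ρ y, ⟨w, ?_⟩, hyU⟩
  have h6 : ((Over.pullback t).map z).left ≫ pullback.fst (Red.bc 𝒯.hom G).hom t =
      pullback.fst Z.hom t ≫ z.left := pullback.lift_fst _ _ _
  have h7 : ((Over.pullback t).map z ≫ ε.hom).left = pullback.fst Z.hom t ≫ ρ := by
    rw [Over.comp_left, hε, reassoc_of% h6]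
  rw [h7, Scheme.Hom.comp_apply, hw1]

end K20.CartDenseK
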