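import Groth.Agent.SGA3x.K5.ActTriv
import Groth.Agent.Sga3A.MTKey

/-!
# Fixed points of a diagonalizable group and of its torsion subgroups

`D(N)` acts on an affine scheme of finite type, `N` finitely generated: for a suitable `n > 0` the fixed points of
the torsion subgroup `D(N / n N)` are the fixed points of `D(N)`.
-/

set_option autoImplicit false
universe u
open CategoryTheory MonoidalCategory CartesianMonoidalCategory MonObj GrpObj AlgebraicGeometry Limits

namespace K20.TorsFix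

open Groth.Agent.Sga3B FreeBC DSPts AdGrad AdPts Groth.Agent.SGA3x.K5.ActTriv

section alg

variable (N : Type) [AddCommGroup N] (n : ℕ)

/-- `N / n N` -/
abbrev Qn : Type := N ⧸ (nsmulAddMonoidHom (α := N) n).range

/-- `N → N / n N` -/
def qn : N →+ Qn N n := QuotientAddGroup.mk' _

lemma qn_eq_zero_iff (m : N) : qn N n m = 0 ↔ ∃ y : N, n • y = m := by
  rw [qn, QuotientAddGroup.mk'_apply, QuotientAddGroup.eq_zero_iff]
  rfl

lemma qn_surjective : Function.Surjective (qn N n) := QuotientAddGroup.mk'_surjective _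

lemma finite_Qn [AddGroup.FG N] (hn : 0 < n) : Finite (Qn N n) := by
  have h1 : AddGroup.FG (Qn N n) := inferInstance
  have : Module.Finite ℤ (Qn N n) := Module.Finite.iff_addGroup_fg.mpr h1
  refine AddCommGroup.finite_of_fg_isAddTorsion _ ?_
  intro x
  rw [isOfFinAddOrder_iff_nsmul_eq_zero]
  refine ⟨n, hn, ?_⟩
  obtain ⟨y, rfl⟩ := qn_surjective N n x
  rw [← map_nsmul, qn_eq_zero_iff]
  exact ⟨y, rfl⟩

variable {N}

lemma exists_qn_ne_zero [AddGroup.FG N] (F : Finset N) (hF : ∀ m ∈ F, m ≠ 0) :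
    ∃ n : ℕ, 0 < n ∧ ∀ m ∈ F, qn N n m ≠ 0 := by
  classical
  have h : ∀ m : N, ∃ k : ℕ, 0 < k ∧ (m ≠ 0 → ∀ y : N, k • y ≠ m) := by
    intro m
    by_cases hm : m = 0
    · exact ⟨1, one_pos, fun h => absurd hm h⟩
    · obtain ⟨k, hk, hk'⟩ := Groth.Agent.Sga3A.MTKey.exists_not_mem_range_pow_aux N m hm
      exact ⟨k, hk, fun _ => hk'⟩
  choose k hk hk' using h
  refine ⟨∏ m ∈ F, k m, Finset.prod_pos fun m _ => hk m, fun m hm h0 => ?_⟩
  rw [qn_eq_zero_iff] at h0
  obtain ⟨y, hy⟩ := h0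
  refine hk' m (hF m hm) ((∏ x ∈ F.erase m, k x) • y) ?_
  rw [← mul_nsmul', Finset.mul_prod_erase F k hm, hy]

end alg

variable {R A : Type u} [CommRing R] [CommRing A] [Algebra R A] {N : Type} [AddCommGroup N]
variable {α : DE R A ⊗ Red.DS (Spec (CommRingCat.of R)) N ⟶ DE R A}

/-- A function of nonzero weight modulo `n` vanishes at the fixed points of the `n`-torsion. -/
lemma fn_eq_zero {n : ℕ} {m : N} (hm : qn N n m ≠ 0) {b : A}
    (hb : rho α b = MonoidAlgebra.single (Multiplicative.ofAdd m) b) {E : Type u} [CommRing E] [Algebra R E]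
    (x : DE R E ⟶ DE R A)
    (hx : ∀ (T' : Over (Spec (CommRingCat.of R))) (t : T' ⟶ DE R E)
      (h : T' ⟶ Red.DS (Spec (CommRingCat.of R)) (Qn N n)),
      lift (t ≫ x) (h ≫ Red.DSmap _ (qn N n)) ≫ α = t ≫ x) : fn x b = 0 := by
  have h1 := congrArg (fun z => fn z b) (hx _ (gU R E (Qn N n)) (tU R E (Qn N n)))
  simp only [fn_act, hb, lft_single] at h1
  obtain ⟨e, he⟩ := (fn_id_bijective (R := R) E).2 (fn x b)
  have h2 : fn (gU R E (Qn N n) ≫ x) b = fn (𝟙 (U R E (Qn N n))) (MonoidAlgebra.single 1 e) := by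
    rw [fn_comp, ← he, ← fn_eq, fn_gU]
  have h3 : dsChar (tU R E (Qn N n) ≫ Red.DSmap _ (qn N n)) (Multiplicative.ofAdd m) =
      fn (𝟙 (U R E (Qn N n))) (MonoidAlgebra.single (Multiplicative.ofAdd (qn N n m)) 1) := by
    rw [dsChar_DSmap, MonoidHom.comp_apply, dsChar_tU]
    rfl
  rw [h2, h3, ← _root_.map_mul, MonoidAlgebra.single_mul_single, _root_.one_mul, _root_.mul_one] at h1
  have h4 := (fn_id_bijective (R := R) _).1 h1
  have h5 := congrArg (fun y : MonoidAlgebra E (Multiplicative (Qn N n)) => y.coeff 1) h4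
  simp only [MonoidAlgebra.coeff_single] at h5
  rw [Finsupp.single_eq_same, Finsupp.single_eq_of_ne] at h5
  · rw [← he, ← h5, map_zero]
  · intro h6
    apply hm
    simpa using h6.symm

/-- **Fixed points of the torsion are fixed points.** -/
theorem exists_fix [Algebra.FiniteType R A] [AddGroup.FG N] (hα : IsAct α) :
    ∃ n : ℕ, 0 < n ∧ ∀ (T : Over (Spec (CommRingCat.of R))) (x : T ⟶ DE R A),
      (∀ (T' : Over (Spec (CommRingCat.of R))) (t : T' ⟶ T)
        (h : T' ⟶ Red.DS (Spec (CommRingCat.of R)) (Qn N n)),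
        lift (t ≫ x) (h ≫ Red.DSmap _ (qn N n)) ≫ α = t ≫ x) →
      ∀ h : T ⟶ Red.DS (Spec (CommRingCat.of R)) N, lift x h ≫ α = x := by
  classical
  obtain ⟨J, hJ, h1, h2⟩ := Groth.Agent.SGA3x.K5.GradTriv.exists_fg (coact hα)
  rw [h2] at hJ
  obtain ⟨s, hs, hs'⟩ := (Submodule.fg_span_iff_fg_span_finset_subset _).mp hJ
  have hw : ∀ b : A, ∃ m : N, m ≠ 0 ∧ (b ∈ s → (coact hα).IsHom m b) ∨ b ∉ s := by
    intro b
    by_cases hb : b ∈ s
    · obtain ⟨m, hm, hb'⟩ := hs hb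
      exact ⟨m, Or.inl ⟨hm, fun _ => hb'⟩⟩
    · exact ⟨0, Or.inr hb⟩
  choose w hw using hw
  have hw' : ∀ b ∈ s, w b ≠ 0 ∧ (coact hα).IsHom (w b) b := by
    intro b hb
    rcases hw b with h | h
    · exact ⟨h.1, h.2 hb⟩
    · exact absurd hb h
  obtain ⟨n, hn, hn'⟩ := exists_qn_ne_zero (s.image w) (by
    intro m hm
    obtain ⟨b, hb, rfl⟩ := Finset.mem_image.mp hm
    exact (hw' b hb).1)
  refine ⟨n, hn, fun T x hx h => ?_⟩
  refine OverAff898.hom_ext_of_covers _ _ fun t => ?_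
  obtain ⟨E, _, _, j, hj, ht⟩ := exists_affine_nhd T t
  refine ⟨DE R E, j, hj, ht, ?_⟩
  rw [← Category.assoc, comp_lift]
  -- all functions of nonzero weight vanish at `j ≫ x`
  have h3 : ∀ b ∈ s, fn (j ≫ x) b = 0 := by
    intro b hb
    refine fn_eq_zero (α := α) (hn' (w b) (Finset.mem_image_of_mem w hb)) (hw' b hb).2 (j ≫ x) ?_
    intro T' t h
    have := hx T' (t ≫ j) h
    rwa [Category.assoc] at this
  have h4 : ∀ b ∈ J, fn (j ≫ x) b = 0 := by
    intro b hb
    rw [h2] at hb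
    have hb' : b ∈ Ideal.span (s : Set A) := by
      have h7 : Ideal.span {b | ∃ n : N, n ≠ 0 ∧ (coact hα).IsHom n b} = Ideal.span (s : Set A) := hs'
      rw [← h7]
      exact hb
    have h5 : Ideal.span (s : Set A) ≤ RingHom.ker (fn (j ≫ x)) := Ideal.span_le.mpr h3
    exact h5 hb'
  apply fn_injective
  intro a
  rw [fn_act, lft_apply]
  have h5 := rho_counit hα a
  have h6 : ∀ k : Multiplicative N, k ≠ 1 → fn (j ≫ x) ((rho α a).coeff k) = 0 := by
    intro k hk
    refine h4 _ (h1 (Multiplicative.toAdd k) a ?_)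
    intro h0
    exact hk (Multiplicative.toAdd.injective h0)
  conv_rhs => rw [← h5]
  rw [Finsupp.sum, Finsupp.sum, map_sum]
  refine Finset.sum_congr rfl fun k _ => ?_
  by_cases hk : k = 1
  · rw [hk, (dsChar (j ≫ h)).map_one, _root_.mul_one]
  · rw [h6 k hk, zero_mul]

end K20.TorsFix
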