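import Groth.Agent.SGA3x.K20.NormLoc
import Groth.Agent.SGA3x.K20.TorsFix
import Groth.Prelude.Def_SGA1
import Mathlib.Algebra.Group.ULift
import Mathlib.Algebra.Group.End

/-!
# The action of the automorphisms of the character group on the scheme of homomorphisms
-/

set_option autoImplicit false
universe u
open CategoryTheory MonoidalCategory CartesianMonoidalCategory MonObj GrpObj AlgebraicGeometry Limits

namespace K20.AutAct

open K20.NormLoc K20.TorsFix

section alg

variable {N : Type} [AddCommGroup N] (n : ℕ)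

/-- An automorphism of `N` induces an automorphism of `N / n N`. -/
noncomputable def congrQn (φ : N ≃+ N) : Qn N n ≃+ Qn N n :=
  QuotientAddGroup.congr _ _ φ (by
    ext x
    constructor
    · rintro ⟨_, ⟨y, rfl⟩, rfl⟩
      exact ⟨φ y, by simp⟩
    · rintro ⟨y, rfl⟩
      exact ⟨n • φ.symm y, ⟨φ.symm y, by simp⟩, by simp⟩)

lemma congrQn_comp (φ : N ≃+ N) :
    ((congrQn n φ : Qn N n ≃+ Qn N n) : Qn N n →+ Qn N n).comp (qn N n) = (qn N n).comp (φ : N →+ N) := by
  ext x
  rfl

end alg

variable {S : Scheme.{u}} {G : Over S} [GrpObj G] {L : Type} [AddCommGroup L] {A : Over S}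
  {υ : Red.DS S L ⊗ A ⟶ G}

/-- The points of `A` are determined by their families. -/
lemma ext_hom {H : Over S} [GrpObj H] {υ : H ⊗ A ⟶ G} (hA : AutFam.RepresentsHom H G A υ) {T : Over S} (x y : T ⟶ A)
    (h : ∀ (T' : Over S) (t : T' ⟶ T) (h : T' ⟶ H), lift h (t ≫ x) ≫ υ = lift h (t ≫ y) ≫ υ) : x = y := by
  refine (hA.2 T ((H ◁ y) ≫ υ) ?_).unique ?_ rfl
  · intro X g₁ g₂ t
    simp only [lift_whiskerLeft_assoc]
    exact hA.1 X g₁ g₂ _
  · have e1 : ∀ x : T ⟶ A, (H ◁ x) ≫ υ = lift (fst H T) (snd H T ≫ x) ≫ υ := by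
      intro x
      congr 1
    rw [e1, e1]
    exact h _ _ _

lemma exists_act (hA : AutFam.RepresentsHom (Red.DS S L) G A υ) (α : L ≃+ L) :
    ∃ a : A ⟶ A, ∀ (T : Over S) (h : T ⟶ Red.DS S L) (x : T ⟶ A),
      lift h (x ≫ a) ≫ υ = lift (h ≫ Red.DSmap S (α : L →+ L)) x ≫ υ := by
  have hm : IsMonHom (Red.DSmap S (α : L →+ L)) := K12.HomDS.isMonHom_DSmap _
  obtain ⟨a, ha, -⟩ := hA.2 A ((Red.DSmap S (α : L →+ L) ▷ A) ≫ υ) (by
    intro X g₁ g₂ t
    simp only [lift_whiskerRight_assoc, MonObj.mul_comp]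
    exact hA.1 X _ _ _)
  refine ⟨a, fun T h x => ?_⟩
  rw [← lift_whiskerLeft_assoc, ha, lift_whiskerRight_assoc]

/-- the action -/
noncomputable def act (hA : AutFam.RepresentsHom (Red.DS S L) G A υ) (α : L ≃+ L) : A ⟶ A := (exists_act hA α).choose

lemma lift_act (hA : AutFam.RepresentsHom (Red.DS S L) G A υ) (α : L ≃+ L) {T : Over S} (h : T ⟶ Red.DS S L)
    (x : T ⟶ A) : lift h (x ≫ act hA α) ≫ υ = lift (h ≫ Red.DSmap S (α : L →+ L)) x ≫ υ :=
  (exists_act hA α).choose_spec T h x

lemma act_comp (hA : AutFam.RepresentsHom (Red.DS S L) G A υ) (α β : L ≃+ L) :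
    act hA β ≫ act hA α = act hA (β.trans α) := by
  refine ext_hom hA _ _ fun T t h => ?_
  rw [← Category.assoc, lift_act, lift_act, lift_act, Category.assoc, DSmap_comp_DSmap]
  rfl

lemma act_refl (hA : AutFam.RepresentsHom (Red.DS S L) G A υ) : act hA (AddEquiv.refl L) = 𝟙 A := by
  refine ext_hom hA _ _ fun T t h => ?_
  rw [lift_act, Category.comp_id]
  have : ((AddEquiv.refl L : L ≃+ L) : L →+ L) = AddMonoidHom.id L := rfl
  rw [this, DSmap_id, Category.comp_id]

/-- The group of automorphisms, in the right universe. -/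
abbrev GA (L : Type) [AddCommGroup L] : Type u := ULift.{u} (Multiplicative (AddAut L))

/-- The automorphism attached to an element. -/
def GA.eq {L : Type} [AddCommGroup L] (g : GA.{u} L) : L ≃+ L := Multiplicative.toAdd g.down

/-- The element attached to an automorphism. -/
def GA.mk {L : Type} [AddCommGroup L] (α : L ≃+ L) : GA.{u} L := ULift.up (Multiplicative.ofAdd (α : AddAut L))

lemma GA.eq_mk {L : Type} [AddCommGroup L] (α : L ≃+ L) : (GA.mk.{u} α).eq = α := rfl

/-- The action on the scheme of homomorphisms. -/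
noncomputable def rho (hA : AutFam.RepresentsHom (Red.DS S L) G A υ) : GA.{u} L →* Aut A.left where
  toFun g :=
    { hom := (act hA g.eq).left
      inv := (act hA g.eq.symm).left
      hom_inv_id := by
        rw [← Over.comp_left, act_comp, AddEquiv.self_trans_symm, act_refl]
        rfl
      inv_hom_id := by
        rw [← Over.comp_left, act_comp, AddEquiv.symm_trans_self, act_refl]
        rfl }
  map_one' := by
    ext1
    change (act hA (AddEquiv.refl L)).left = 𝟙 _
    rw [act_refl]
    rfl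
  map_mul' g g' := by
    ext1
    change (act hA (g'.eq.trans g.eq)).left = (act hA g'.eq).left ≫ (act hA g.eq).left
    rw [← Over.comp_left, act_comp]

lemma rho_hom (hA : AutFam.RepresentsHom (Red.DS S L) G A υ) (g : GA.{u} L) :
    (rho hA g).hom = (act hA g.eq).left := rfl

instance [Finite L] : Finite (GA.{u} L) := by
  have : Finite (L ≃+ L) := Finite.of_injective (fun e : L ≃+ L => (e : L → L)) DFunLike.coe_injective
  have : Finite (Multiplicative (AddAut L)) := this
  infer_instance

end K20.AutAct
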