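import Groth.Agent.SGA3x.K20.SL2El
import Mathlib.RingTheory.HopfAlgebra.Convolution
import Mathlib.RingTheory.TensorProduct.IncludeLeftSubRight
import Mathlib.RingTheory.RingHom.FaithfullyFlat

/-!
# Central extensions of `SL_2` by affine groups: commutators and the action of `SL_2`
-/

set_option autoImplicit false
universe u

namespace K20.CEx

open K20.SL2El TensorProduct

variable (k : Type u) [CommRing k] (A : Type u) [CommRing A] [HopfAlgebra k A]

/-- points -/
def Pt (R : Type u) [CommRing R] [Algebra k R] := WithConv (A →ₐ[k] R)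

variable {k A}

section pts

variable {R R' R'' : Type u} [CommRing R] [Algebra k R] [CommRing R'] [Algebra k R'] [CommRing R''] [Algebra k R'']

/-- the point given by a map -/
def mkPt (f : A →ₐ[k] R) : Pt k A R := WithConv.toConv f
/-- the map of a point -/
def Pt.fn (g : Pt k A R) : A →ₐ[k] R := WithConv.ofConv g

lemma fn_mkPt (f : A →ₐ[k] R) : (mkPt f).fn = f := rfl
lemma mkPt_fn (g : Pt k A R) : mkPt g.fn = g := rfl

lemma pt_ext' {g h : Pt k A R} (H : g.fn = h.fn) : g = h := WithConv.ext H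

noncomputable instance : Monoid (Pt k A R) := inferInstanceAs (Monoid (WithConv (A →ₐ[k] R)))

lemma mkPt_mul (f g : A →ₐ[k] R) : mkPt f * mkPt g = WithConv.toConv f * WithConv.toConv g := rfl
lemma mkPt_one : mkPt ((Algebra.ofId k R).comp (Bialgebra.counitAlgHom k A)) = 1 := rfl

lemma comp_mul (f : R →ₐ[k] R') (g h : Pt k A R) :
    f.comp (g * h).fn = (mkPt (f.comp g.fn) * mkPt (f.comp h.fn)).fn :=
  AlgHom.comp_convMul_distrib f g h

lemma comp_one (f : R →ₐ[k] R') : f.comp (1 : Pt k A R).fn = (1 : Pt k A R').fn := by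
  ext a
  change f (algebraMap k R _) = algebraMap k R' _
  exact f.commutes _

lemma antipode_mul_id : mkPt (HopfAlgebra.antipodeAlgHom k A) * mkPt (AlgHom.id k A) = (1 : Pt k A A) :=
  AlgHom.antipode_id_cancel

noncomputable instance : Group (Pt k A R) where
  inv g := mkPt (g.fn.comp (HopfAlgebra.antipodeAlgHom k A))
  inv_mul_cancel g := by
    have h1 := comp_mul g.fn (mkPt (HopfAlgebra.antipodeAlgHom k A)) (mkPt (AlgHom.id k A))
    rw [antipode_mul_id, comp_one] at h1
    exact (pt_ext' h1).symm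

/-- functoriality of points -/
noncomputable def pmap (f : R →ₐ[k] R') : Pt k A R →* Pt k A R' where
  toFun g := mkPt (f.comp g.fn)
  map_one' := pt_ext' (comp_one f)
  map_mul' g h := pt_ext' (comp_mul f g h)

lemma pmap_apply (f : R →ₐ[k] R') (g : Pt k A R) (a : A) : (pmap f g).fn a = f (g.fn a) := rfl

lemma pt_ext {g h : Pt k A R} (H : ∀ a, g.fn a = h.fn a) : g = h := pt_ext' (AlgHom.ext H)

lemma pmap_comp (f : R →ₐ[k] R') (f' : R' →ₐ[k] R'') (g : Pt k A R) : pmap (f'.comp f) g = pmap f' (pmap f g) := rfl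

lemma pmap_id (g : Pt k A R) : pmap (AlgHom.id k R) g = g := rfl

lemma pmap_injective (f : R →ₐ[k] R') (hf : Function.Injective f) : Function.Injective (pmap (A := A) f) := by
  intro g h hgh
  apply pt_ext
  intro a
  apply hf
  rw [← pmap_apply, hgh, pmap_apply]

/-- faithfully flat algebra maps -/
abbrev FF (f : R →ₐ[k] R') : Prop := (f : R →+* R').FaithfullyFlat

lemma FF.comp {f : R →ₐ[k] R'} {f' : R' →ₐ[k] R''} (h : FF f) (h' : FF f') : FF (f'.comp f) :=
  RingHom.FaithfullyFlat.stableUnderComposition (f : R →+* R') (f' : R' →+* R'') h h'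

lemma FF.injective {f : R →ₐ[k] R'} (h : FF f) : Function.Injective f := RingHom.FaithfullyFlat.injective h

lemma FF.id : FF (AlgHom.id k R) := RingHom.FaithfullyFlat.of_bijective Function.bijective_id

/-- **Descent of points along faithfully flat maps.** -/
theorem exists_descent (f : R →ₐ[k] R') (hf : FF f) (g : Pt k A R')
    (h : ∀ (R'' : Type u) [CommRing R''] [Algebra k R''] (p q : R' →ₐ[k] R''), p.comp f = q.comp f →
      pmap p g = pmap q g) : ∃ g₀ : Pt k A R, pmap f g₀ = g := by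
  let _ : Algebra R R' := (f : R →+* R').toAlgebra
  have : Module.FaithfullyFlat R R' := hf
  have : IsScalarTower k R R' := IsScalarTower.of_algebraMap_eq fun x => (f.commutes x).symm
  let p : R' →ₐ[k] R' ⊗[R] R' := Algebra.TensorProduct.includeLeft
  let q : R' →ₐ[k] R' ⊗[R] R' := (Algebra.TensorProduct.includeRight : R' →ₐ[R] R' ⊗[R] R').restrictScalars k
  have hpq : p.comp f = q.comp f := by
    ext x
    change (algebraMap R R' x) ⊗ₜ[R] (1 : R') = (1 : R') ⊗ₜ[R] (algebraMap R R' x)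
    rw [Algebra.algebraMap_eq_smul_one, TensorProduct.smul_tmul]
  have h1 := h _ p q hpq
  have hr : ∀ a, ∃ x : R, f x = g.fn a := by
    intro a
    have h2 : p (g.fn a) = q (g.fn a) := by
      rw [← pmap_apply, h1, pmap_apply]
    have h3 := Algebra.IsEffective.eqLocus_includeLeft_includeRight
      (Algebra.IsEffective.of_faithfullyFlat R R')
    have h4 : g.fn a ∈ (Algebra.TensorProduct.includeLeftRingHom.eqLocus
        Algebra.TensorProduct.includeRight.toRingHom (S := R' ⊗[R] R') : Set R') := h2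
    rw [h3] at h4
    exact h4
  let φ : A →ₐ[k] R := ((AlgEquiv.ofInjective f hf.injective).symm : f.range →ₐ[k] R).comp
    (AlgHom.codRestrict g.fn f.range fun a => by
      obtain ⟨x, hx⟩ := hr a
      exact ⟨x, hx⟩)
  refine ⟨mkPt φ, pt_ext fun a => ?_⟩
  rw [pmap_apply]
  change f ((AlgEquiv.ofInjective f hf.injective).symm _) = _
  have h5 := AlgEquiv.apply_symm_apply (AlgEquiv.ofInjective f hf.injective)
    (AlgHom.codRestrict g.fn f.range (fun a => by
      obtain ⟨x, hx⟩ := hr a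
      exact ⟨x, hx⟩) a)
  exact congrArg Subtype.val h5

/-- pushouts -/
theorem exists_pushout (f : R →ₐ[k] R') (hf : FF f) (f₁ : R →ₐ[k] R'') :
    ∃ (P : Type u) (_ : CommRing P) (_ : Algebra k P) (p : R'' →ₐ[k] P) (q : R' →ₐ[k] P), FF p ∧
      p.comp f₁ = q.comp f := by
  let _ : Algebra R R' := (f : R →+* R').toAlgebra
  let _ : Algebra R R'' := (f₁ : R →+* R'').toAlgebra
  have : Module.FaithfullyFlat R R' := hf
  have : IsScalarTower k R R' := IsScalarTower.of_algebraMap_eq fun x => (f.commutes x).symm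
  have : IsScalarTower k R R'' := IsScalarTower.of_algebraMap_eq fun x => (f₁.commutes x).symm
  let p : R'' →ₐ[k] R'' ⊗[R] R' := Algebra.TensorProduct.includeLeft
  let q : R' →ₐ[k] R'' ⊗[R] R' := (Algebra.TensorProduct.includeRight : R' →ₐ[R] R'' ⊗[R] R').restrictScalars k
  refine ⟨R'' ⊗[R] R', inferInstance, inferInstance, p, q, ?_, ?_⟩
  · have : Module.FaithfullyFlat R'' (R'' ⊗[R] R') := inferInstance
    exact (RingHom.faithfullyFlat_algebraMap_iff (R := R'') (S := R'' ⊗[R] R')).2 this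
  · ext x
    change (algebraMap R R'' x) ⊗ₜ[R] (1 : R') = (1 : R'') ⊗ₜ[R] (algebraMap R R' x)
    rw [Algebra.algebraMap_eq_smul_one, TensorProduct.smul_tmul, ← Algebra.algebraMap_eq_smul_one]

end pts

variable (k A)

/-- A central extension of `SL_2` by an affine group. -/
structure CExt where
  /-- the projection -/
  π : ∀ {R : Type u} [CommRing R] [Algebra k R], Pt k A R →* SL R
  nat : ∀ {R R' : Type u} [CommRing R] [Algebra k R] [CommRing R'] [Algebra k R'] (f : R →ₐ[k] R') (g : Pt k A R),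
    π (pmap f g) = smap (f : R →+* R') (π g)
  central : ∀ {R : Type u} [CommRing R] [Algebra k R] (g z : Pt k A R), π z = 1 → g * z = z * g
  lift : ∀ {R : Type u} [CommRing R] [Algebra k R] (m : SL R), ∃ (R' : Type u) (_ : CommRing R') (_ : Algebra k R')
    (f : R →ₐ[k] R'), FF f ∧ ∃ g : Pt k A R', π g = smap (f : R →+* R') m

variable {k A}

namespace CExt

variable (E : CExt k A) {R R' R'' : Type u} [CommRing R] [Algebra k R] [CommRing R'] [Algebra k R'] [CommRing R'']
  [Algebra k R'']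

/-- functoriality of matrices -/
abbrev sm (f : R →ₐ[k] R') : SL R →* SL R' := smap (f : R →+* R')

lemma sm_comp (f : R →ₐ[k] R') (f' : R' →ₐ[k] R'') (m : SL R) : sm (f'.comp f) m = sm f' (sm f m) :=
  smap_comp (f : R →+* R') (f' : R' →+* R'') m

lemma lift₂ (m m' : SL R) : ∃ (R' : Type u) (_ : CommRing R') (_ : Algebra k R')
    (f : R →ₐ[k] R'), FF f ∧ ∃ g h : Pt k A R', E.π g = sm f m ∧ E.π h = sm f m' := by
  obtain ⟨R₁, _, _, f₁, hf₁, g₁, hg₁⟩ := E.lift m
  obtain ⟨R₂, _, _, f₂, hf₂, g₂, hg₂⟩ := E.lift (sm f₁ m')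
  refine ⟨R₂, inferInstance, inferInstance, f₂.comp f₁, hf₁.comp hf₂, pmap f₂ g₁, g₂, ?_, ?_⟩
  · rw [E.nat, hg₁, sm_comp]
  · rw [hg₂, sm_comp]

/-- equality of points may be checked after lifting a matrix -/
lemma ext_lift (m : SL R) {x y : Pt k A R} (H : ∀ (R' : Type u) [CommRing R'] [Algebra k R'] (f : R →ₐ[k] R')
    (g : Pt k A R'), E.π g = sm f m → pmap f x = pmap f y) : x = y := by
  obtain ⟨R', _, _, f, hf, g, hg⟩ := E.lift m
  exact pmap_injective f hf.injective (H R' f g hg)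

lemma ext_lift₂ (m m' : SL R) {x y : Pt k A R} (H : ∀ (R' : Type u) [CommRing R'] [Algebra k R'] (f : R →ₐ[k] R')
    (g h : Pt k A R'), E.π g = sm f m → E.π h = sm f m' → pmap f x = pmap f y) : x = y := by
  obtain ⟨R', _, _, f, hf, g, h, hg, hh⟩ := E.lift₂ m m'
  exact pmap_injective f hf.injective (H R' f g h hg hh)

/-- two lifts differ by a central element -/
lemma exists_central {g g' : Pt k A R} (h : E.π g = E.π g') : ∃ z : Pt k A R, E.π z = 1 ∧ g' = g * z := by
  refine ⟨g⁻¹ * g', ?_, by group⟩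
  rw [map_mul, map_inv, h, inv_mul_cancel]

lemma conj_eq {g g' : Pt k A R} (h : E.π g = E.π g') (x : Pt k A R) : g * x * g⁻¹ = g' * x * g'⁻¹ := by
  obtain ⟨z, hz, rfl⟩ := E.exists_central h
  have h1 := E.central x z hz
  rw [mul_inv_rev, mul_assoc g z x, ← h1]
  group

lemma comm_eq {g g' h h' : Pt k A R} (hg : E.π g = E.π g') (hh : E.π h = E.π h') :
    g * h * g⁻¹ * h⁻¹ = g' * h' * g'⁻¹ * h'⁻¹ := by
  rw [E.conj_eq hg h]
  have h1 := E.conj_eq hh g'⁻¹
  calc g' * h * g'⁻¹ * h⁻¹ = g' * (h * g'⁻¹ * h⁻¹) := by group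
    _ = g' * (h' * g'⁻¹ * h'⁻¹) := by rw [h1]
    _ = _ := by group

/-- existence of the commutator -/
theorem exists_comm (m m' : SL R) : ∃ x : Pt k A R, ∀ (R' : Type u) [CommRing R'] [Algebra k R'] (f : R →ₐ[k] R')
    (g h : Pt k A R'), E.π g = sm f m → E.π h = sm f m' → pmap f x = g * h * g⁻¹ * h⁻¹ := by
  obtain ⟨R', _, _, f, hf, g, h, hg, hh⟩ := E.lift₂ m m'
  obtain ⟨x, hx⟩ := exists_descent f hf (g * h * g⁻¹ * h⁻¹) fun R'' _ _ p q hpq => by
    have h1 : E.π (pmap p g) = E.π (pmap q g) := by rw [E.nat, E.nat, hg, ← sm_comp, ← sm_comp, hpq]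
    have h2 : E.π (pmap p h) = E.π (pmap q h) := by rw [E.nat, E.nat, hh, ← sm_comp, ← sm_comp, hpq]
    simp only [map_mul, map_inv]
    exact E.comm_eq h1 h2
  refine ⟨x, fun R₁ _ _ f₁ g₁ h₁ hg₁ hh₁ => ?_⟩
  obtain ⟨P, _, _, p, q, hp, hpq⟩ := exists_pushout f hf f₁
  apply pmap_injective p hp.injective
  rw [← pmap_comp, hpq, pmap_comp, hx]
  simp only [map_mul, map_inv]
  apply E.comm_eq
  · rw [E.nat, E.nat, hg, hg₁, ← sm_comp, ← sm_comp, hpq]
  · rw [E.nat, E.nat, hh, hh₁, ← sm_comp, ← sm_comp, hpq]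

/-- the commutator of two matrices, as a point of the extension -/
noncomputable def comm (m m' : SL R) : Pt k A R := (E.exists_comm m m').choose

lemma comm_spec (m m' : SL R) (f : R →ₐ[k] R') (g h : Pt k A R') (hg : E.π g = sm f m) (hh : E.π h = sm f m') :
    pmap f (E.comm m m') = g * h * g⁻¹ * h⁻¹ := (E.exists_comm m m').choose_spec R' f g h hg hh

lemma comm_of_lift {m m' : SL R} {g h : Pt k A R} (hg : E.π g = m) (hh : E.π h = m') :
    E.comm m m' = g * h * g⁻¹ * h⁻¹ := by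
  have h1 : ∀ m : SL R, sm (AlgHom.id k R) m = m := fun m => smap_id m
  exact E.comm_spec m m' (AlgHom.id k R) g h (by rw [h1, hg]) (by rw [h1, hh])

lemma comm_map (f : R →ₐ[k] R') (m m' : SL R) : pmap f (E.comm m m') = E.comm (sm f m) (sm f m') := by
  refine E.ext_lift₂ (sm f m) (sm f m') fun R'' _ _ f' g h hg hh => ?_
  rw [E.comm_spec _ _ f' g h hg hh, ← pmap_comp, E.comm_spec m m' (f'.comp f) g h (by rw [sm_comp, hg])
    (by rw [sm_comp, hh])]

lemma π_comm (m m' : SL R) : E.π (E.comm m m') = m * m' * m⁻¹ * m'⁻¹ := by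
  obtain ⟨R', _, _, f, hf, g, h, hg, hh⟩ := E.lift₂ m m'
  have h1 : Function.Injective (sm f) := by
    intro a b hab
    have h2 : ∀ i j, f (a i j) = f (b i j) := fun i j => congrArg (fun z : SL R' => z i j) hab
    exact sl_ext (hf.injective (h2 _ _)) (hf.injective (h2 _ _)) (hf.injective (h2 _ _)) (hf.injective (h2 _ _))
  apply h1
  rw [← E.nat, E.comm_spec m m' f g h hg hh]
  simp only [map_mul, map_inv, hg, hh]

/-- existence of the action -/
theorem exists_ad (m : SL R) (x : Pt k A R) : ∃ y : Pt k A R, ∀ (R' : Type u) [CommRing R'] [Algebra k R']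
    (f : R →ₐ[k] R') (g : Pt k A R'), E.π g = sm f m → pmap f y = g * pmap f x * g⁻¹ := by
  obtain ⟨R', _, _, f, hf, g, hg⟩ := E.lift m
  obtain ⟨y, hy⟩ := exists_descent f hf (g * pmap f x * g⁻¹) fun R'' _ _ p q hpq => by
    have h1 : E.π (pmap p g) = E.π (pmap q g) := by rw [E.nat, E.nat, hg, ← sm_comp, ← sm_comp, hpq]
    simp only [map_mul, map_inv]
    rw [← pmap_comp, ← pmap_comp, hpq]
    exact E.conj_eq h1 _
  refine ⟨y, fun R₁ _ _ f₁ g₁ hg₁ => ?_⟩
  obtain ⟨P, _, _, p, q, hp, hpq⟩ := exists_pushout f hf f₁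
  apply pmap_injective p hp.injective
  rw [← pmap_comp, hpq, pmap_comp, hy]
  simp only [map_mul, map_inv]
  rw [← pmap_comp, ← pmap_comp, hpq]
  apply E.conj_eq
  rw [E.nat, E.nat, hg, hg₁, ← sm_comp, ← sm_comp, hpq]

/-- the action of `SL_2` on the extension, as a function -/
noncomputable def adFun (m : SL R) (x : Pt k A R) : Pt k A R := (E.exists_ad m x).choose

lemma adFun_spec (m : SL R) (x : Pt k A R) (f : R →ₐ[k] R') (g : Pt k A R') (hg : E.π g = sm f m) :
    pmap f (E.adFun m x) = g * pmap f x * g⁻¹ := (E.exists_ad m x).choose_spec R' f g hg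

/-- the action of `SL_2` on the extension -/
noncomputable def ad (m : SL R) : Pt k A R →* Pt k A R where
  toFun := E.adFun m
  map_one' := E.ext_lift m fun R' _ _ f g hg => by rw [E.adFun_spec m _ f g hg]; simp
  map_mul' x y := E.ext_lift m fun R' _ _ f g hg => by
    rw [map_mul, E.adFun_spec m _ f g hg, E.adFun_spec m _ f g hg, E.adFun_spec m _ f g hg, map_mul]
    group

lemma ad_spec (m : SL R) (x : Pt k A R) (f : R →ₐ[k] R') (g : Pt k A R') (hg : E.π g = sm f m) :
    pmap f (E.ad m x) = g * pmap f x * g⁻¹ := E.adFun_spec m x f g hg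

lemma ad_of_lift {m : SL R} {g : Pt k A R} (hg : E.π g = m) (x : Pt k A R) : E.ad m x = g * x * g⁻¹ := by
  have h1 : ∀ m : SL R, sm (AlgHom.id k R) m = m := fun m => smap_id m
  exact E.ad_spec m x (AlgHom.id k R) g (by rw [h1, hg])

lemma ad_map (f : R →ₐ[k] R') (m : SL R) (x : Pt k A R) : pmap f (E.ad m x) = E.ad (sm f m) (pmap f x) := by
  refine E.ext_lift (sm f m) fun R'' _ _ f' g hg => ?_
  rw [E.ad_spec _ _ f' g hg, ← pmap_comp, E.ad_spec m x (f'.comp f) g (by rw [sm_comp, hg])]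
  rfl

lemma sm_injective {f : R →ₐ[k] R'} (hf : Function.Injective f) : Function.Injective (sm f) := by
  intro a b hab
  have h2 : ∀ i j, f (a i j) = f (b i j) := fun i j => congrArg (fun z : SL R' => z i j) hab
  exact sl_ext (hf (h2 _ _)) (hf (h2 _ _)) (hf (h2 _ _)) (hf (h2 _ _))

lemma π_ad (m : SL R) (x : Pt k A R) : E.π (E.ad m x) = m * E.π x * m⁻¹ := by
  obtain ⟨R', _, _, f, hf, g, hg⟩ := E.lift m
  apply sm_injective hf.injective
  rw [← E.nat, E.ad_spec m x f g hg]
  simp only [map_mul, map_inv, hg, E.nat]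

lemma ad_mul (m m' : SL R) (x : Pt k A R) : E.ad (m * m') x = E.ad m (E.ad m' x) := by
  refine E.ext_lift₂ m m' fun R' _ _ f g h hg hh => ?_
  rw [E.ad_spec _ _ f g hg, E.ad_spec _ _ f h hh, E.ad_spec (m * m') x f (g * h) (by rw [map_mul, map_mul, hg, hh])]
  group

lemma ad_one (x : Pt k A R) : E.ad 1 x = x := by
  rw [E.ad_of_lift (map_one E.π)]
  simp

lemma ad_inv_apply (m : SL R) (x : Pt k A R) : E.ad m⁻¹ (E.ad m x) = x := by
  rw [← ad_mul, inv_mul_cancel, ad_one]

lemma ad_apply_inv (m : SL R) (x : Pt k A R) : E.ad m (E.ad m⁻¹ x) = x := by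
  rw [← ad_mul, mul_inv_cancel, ad_one]

lemma ad_π (g x : Pt k A R) : E.ad (E.π g) x = g * x * g⁻¹ := E.ad_of_lift rfl x

/-- central elements are fixed by the action -/
lemma ad_central (m : SL R) {z : Pt k A R} (hz : E.π z = 1) : E.ad m z = z := by
  refine E.ext_lift m fun R' _ _ f g hg => ?_
  rw [E.ad_spec m z f g hg, E.central g (pmap f z) (by rw [E.nat, hz, map_one])]
  group

lemma ad_comm (m a b : SL R) : E.ad m (E.comm a b) = E.comm (m * a * m⁻¹) (m * b * m⁻¹) := by
  refine E.ext_lift m fun R' _ _ f g hg => ?_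
  refine E.ext_lift₂ (sm f a) (sm f b) fun R'' _ _ f' x y hx hy => ?_
  have h1 : pmap f' (pmap f (E.ad m (E.comm a b))) = pmap f' g * (x * y * x⁻¹ * y⁻¹) * (pmap f' g)⁻¹ := by
    rw [E.ad_spec m _ f g hg]
    simp only [map_mul, map_inv]
    rw [← pmap_comp, E.comm_spec a b (f'.comp f) x y (by rw [sm_comp, hx]) (by rw [sm_comp, hy])]
  have h2 : E.π (pmap f' g) = sm (f'.comp f) m := by rw [E.nat, hg, sm_comp]
  rw [h1, ← pmap_comp, E.comm_spec _ _ (f'.comp f) (pmap f' g * x * (pmap f' g)⁻¹) (pmap f' g * y * (pmap f' g)⁻¹)]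
  · group
  · simp only [map_mul, map_inv, h2, hx, sm_comp]
  · simp only [map_mul, map_inv, h2, hy, sm_comp]

lemma comm_one_left (m : SL R) : E.comm 1 m = 1 := by
  refine E.ext_lift m fun R' _ _ f g hg => ?_
  rw [E.comm_spec 1 m f 1 g (by rw [map_one, map_one]) hg]
  simp

lemma comm_one_right (m : SL R) : E.comm m 1 = 1 := by
  refine E.ext_lift m fun R' _ _ f g hg => ?_
  rw [E.comm_spec m 1 f g 1 hg (by rw [map_one, map_one])]
  simp

/-- bimultiplicativity for commuting matrices -/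
lemma comm_mul_left {m m' n : SL R} (h' : m' * n = n * m') : E.comm (m * m') n = E.comm m n * E.comm m' n := by
  refine E.ext_lift n fun R' _ _ f c hc => ?_
  refine E.ext_lift₂ (sm f m) (sm f m') fun R'' _ _ f' x y hx hy => ?_
  have hc' : E.π (pmap f' c) = sm (f'.comp f) n := by rw [E.nat, hc, sm_comp]
  have hx' : E.π x = sm (f'.comp f) m := by rw [hx, sm_comp]
  have hy' : E.π y = sm (f'.comp f) m' := by rw [hy, sm_comp]
  rw [← pmap_comp, ← pmap_comp, map_mul, E.comm_spec m n (f'.comp f) x _ hx' hc', E.comm_spec m' n (f'.comp f) y _ hy' hc',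
    E.comm_spec (m * m') n (f'.comp f) (x * y) _ (by rw [map_mul, map_mul, hx', hy']) hc']
  set c' := pmap f' c
  have h1 : E.π (y * c' * y⁻¹ * c'⁻¹) = 1 := by
    simp only [map_mul, map_inv, hy', hc']
    rw [← map_mul, h', map_mul]
    group
  have h2 := E.central x _ h1
  have h3 := E.central (x * c' * x⁻¹ * c'⁻¹) _ h1
  calc x * y * c' * (x * y)⁻¹ * c'⁻¹ = (x * (y * c' * y⁻¹ * c'⁻¹)) * (c' * x⁻¹ * c'⁻¹) := by group
    _ = (y * c' * y⁻¹ * c'⁻¹) * (x * c' * x⁻¹ * c'⁻¹) := by rw [h2]; group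
    _ = _ := h3.symm

lemma comm_mul_right {m n n' : SL R} (h : m * n' = n' * m) : E.comm m (n * n') = E.comm m n * E.comm m n' := by
  refine E.ext_lift m fun R' _ _ f c hc => ?_
  refine E.ext_lift₂ (sm f n) (sm f n') fun R'' _ _ f' x y hx hy => ?_
  have hc' : E.π (pmap f' c) = sm (f'.comp f) m := by rw [E.nat, hc, sm_comp]
  have hx' : E.π x = sm (f'.comp f) n := by rw [hx, sm_comp]
  have hy' : E.π y = sm (f'.comp f) n' := by rw [hy, sm_comp]
  rw [← pmap_comp, ← pmap_comp, map_mul, E.comm_spec m n (f'.comp f) _ x hc' hx', E.comm_spec m n' (f'.comp f) _ y hc' hy',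
    E.comm_spec m (n * n') (f'.comp f) _ (x * y) hc' (by rw [map_mul, map_mul, hx', hy'])]
  set c' := pmap f' c
  have h1 : E.π (c' * y * c'⁻¹ * y⁻¹) = 1 := by
    simp only [map_mul, map_inv, hy', hc']
    rw [← map_mul, h, map_mul]
    group
  have h2 := E.central x _ h1
  calc c' * (x * y) * c'⁻¹ * (x * y)⁻¹ = (c' * x * c'⁻¹ * x⁻¹) * (x * (c' * y * c'⁻¹ * y⁻¹)) * x⁻¹ := by group
    _ = (c' * x * c'⁻¹ * x⁻¹) * (c' * y * c'⁻¹ * y⁻¹) := by rw [h2]; group

lemma comm_pow_left {m n : SL R} (h : m * n = n * m) (i : ℕ) : E.comm (m ^ i) n = E.comm m n ^ i := by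
  induction i with
  | zero => rw [pow_zero, pow_zero, comm_one_left]
  | succ i ih => rw [pow_succ, E.comm_mul_left h, ih, pow_succ]

lemma comm_pow_right {m n : SL R} (h : m * n = n * m) (i : ℕ) : E.comm m (n ^ i) = E.comm m n ^ i := by
  induction i with
  | zero => rw [pow_zero, pow_zero, comm_one_right]
  | succ i ih => rw [pow_succ, E.comm_mul_right h, ih, pow_succ]

end CExt

end K20.CEx
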