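import Groth.Agent.SGA3x.K20.CExtX

/-!
# Central extensions of `SL_2`: the torus and the Weyl elements
-/

set_option autoImplicit false
universe u

namespace K20.CEx

open K20.SL2El TensorProduct Polynomial

variable {k : Type u} [CommRing k] {A : Type u} [CommRing A] [HopfAlgebra k A]

section laurent

variable {R : Type u} [CommRing R] [Algebra k R]

/-- the generic unit -/
noncomputable def TU (R : Type u) [CommRing R] : (LaurentPolynomial R)ˣ :=
  ⟨LaurentPolynomial.T 1, LaurentPolynomial.T (-1), by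
    rw [← LaurentPolynomial.T_add]; simp, by rw [← LaurentPolynomial.T_add]; simp⟩

/-- constants -/
noncomputable def lC (k R : Type u) [CommRing k] [CommRing R] [Algebra k R] : R →ₐ[k] LaurentPolynomial R :=
  (Algebra.ofId R (LaurentPolynomial R)).restrictScalars k

/-- specialisation -/
noncomputable def lev (k : Type u) {R : Type u} [CommRing k] [CommRing R] [Algebra k R] (t : Rˣ) :
    LaurentPolynomial R →ₐ[k] R where
  toRingHom := LaurentPolynomial.eval₂ (RingHom.id R) t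
  commutes' x := by
    change LaurentPolynomial.eval₂ (RingHom.id R) t (LaurentPolynomial.C (algebraMap k R x)) = _
    rw [LaurentPolynomial.eval₂_C]
    rfl

lemma lev_lC (t : Rˣ) : (lev k t).comp (lC k R) = AlgHom.id k R := by
  ext x
  change LaurentPolynomial.eval₂ (RingHom.id R) t (LaurentPolynomial.C x) = _
  rw [LaurentPolynomial.eval₂_C]
  rfl

lemma lev_TU (t : Rˣ) : Units.map (lev k t : LaurentPolynomial R →* R) (TU R) = t := by
  ext
  change LaurentPolynomial.eval₂ (RingHom.id R) t (LaurentPolynomial.T 1) = _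
  rw [LaurentPolynomial.eval₂_T]
  simp

/-- reduction of the exponents -/
noncomputable def lq (k R : Type u) [CommRing k] [CommRing R] [Algebra k R] (n : ℕ) :
    LaurentPolynomial R →ₐ[k] AddMonoidAlgebra R (ZMod n) :=
  AddMonoidAlgebra.mapDomainAlgHom k R (Int.castAddHom (ZMod n))

lemma lq_TU_pow (n : ℕ) : (Units.map (lq k R n : LaurentPolynomial R →* AddMonoidAlgebra R (ZMod n)) (TU R)) ^ n = 1 := by
  rw [← map_pow]
  ext1
  change AddMonoidAlgebra.mapDomainAlgHom k R (Int.castAddHom (ZMod n)) ((TU R ^ n : (LaurentPolynomial R)ˣ) : LaurentPolynomial R) = 1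
  rw [Units.val_pow_eq_pow_val]
  change AddMonoidAlgebra.mapDomainAlgHom k R (Int.castAddHom (ZMod n)) ((LaurentPolynomial.T 1 : LaurentPolynomial R) ^ n) = 1
  rw [LaurentPolynomial.T_pow]
  change AddMonoidAlgebra.mapDomain _ (AddMonoidAlgebra.single _ _) = _
  rw [AddMonoidAlgebra.mapDomain_single]
  have h1 : (Int.castAddHom (ZMod n)) ((n : ℤ) * 1) = 0 := by simp
  rw [h1]
  rfl

lemma eq_zero_of_lq (x : LaurentPolynomial R) (h : ∀ n : ℕ, 0 < n → lq k R n x = 0) : x = 0 := by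
  let N : ℕ := x.coeff.support.sup Int.natAbs
  let n : ℕ := 2 * N + 1
  have h1 : Finsupp.mapDomain (Int.castAddHom (ZMod n)) x.coeff = 0 := by
    have := h n (by omega)
    exact congrArg AddMonoidAlgebra.coeff this
  have hinj : Set.InjOn (Int.castAddHom (ZMod n)) (x.coeff.support : Set ℤ) := by
    intro i hi j hj hij
    have hi' : i.natAbs ≤ N := Finset.le_sup (f := Int.natAbs) hi
    have hj' : j.natAbs ≤ N := Finset.le_sup (f := Int.natAbs) hj
    have h2 : (n : ℤ) ∣ j - i := (ZMod.intCast_eq_intCast_iff_dvd_sub i j n).1 hij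
    have h3 : (j - i).natAbs < (n : ℤ).natAbs := by omega
    have h4 : j - i = 0 := Int.eq_zero_of_dvd_of_natAbs_lt_natAbs h2 h3
    omega
  ext i
  by_cases hi : i ∈ x.coeff.support
  · have h2 := Finsupp.mapDomain_apply' (x.coeff.support : Set ℤ) x.coeff subset_rfl hinj hi
    rw [h1] at h2
    exact h2.symm
  · exact Finsupp.notMem_support_iff.1 hi

end laurent

namespace CExt

variable (E : CExt k A) {R R' R'' : Type u} [CommRing R] [Algebra k R] [CommRing R'] [Algebra k R'] [CommRing R'']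
  [Algebra k R'']

lemma comm_hh_of_pow {n : ℕ} (hn : n ≠ 0) (s t : Rˣ) (ht : t ^ n = 1) : E.comm (hh s) (hh t) = 1 := by
  obtain ⟨R', _, _, f, hf, v, hv⟩ := exists_nthRoot (k := k) n hn s
  apply pmap_injective f hf.injective
  have h1 : hh v * hh (Units.map (f : R →* R') t) = hh (Units.map (f : R →* R') t) * hh v := by
    rw [← hh_mul, mul_comm, hh_mul]
  rw [comm_map, sm_hh, sm_hh, ← hv, hh_pow, E.comm_pow_left h1, ← E.comm_pow_right h1, ← hh_pow, ← map_pow, ht,
    map_one, hh_one, comm_one_right, map_one]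

/-- **The lifts of the diagonal torus commute.** -/
theorem comm_hh_hh (s t : Rˣ) : E.comm (hh s) (hh t) = 1 := by
  let L := LaurentPolynomial R
  have h1 : E.comm (hh (Units.map (lC k R : R →* L) s)) (hh (TU R)) = 1 := by
    apply pt_ext
    intro a
    rw [← sub_eq_zero]
    apply eq_zero_of_lq (k := k)
    intro n hn
    have h2 : pmap (lq k R n) (E.comm (hh (Units.map (lC k R : R →* L) s)) (hh (TU R))) = 1 := by
      rw [comm_map, sm_hh, sm_hh]
      exact E.comm_hh_of_pow hn.ne' _ _ (lq_TU_pow n)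
    have h3 : pmap (lq k R n) (1 : Pt k A L) = 1 := map_one _
    rw [map_sub, ← pmap_apply, ← pmap_apply, h2, h3, sub_self]
  have h2 := congrArg (pmap (lev k t)) h1
  rw [comm_map, sm_hh, sm_hh, lev_TU, map_one] at h2
  have h3 : Units.map (lev k t : L →* R) (Units.map (lC k R : R →* L) s) = s := by
    ext
    exact congr($(lev_lC (k := k) t) (s : R))
  rw [h3] at h2
  exact h2

/-- the lift of the Weyl elements -/
noncomputable def W (s : Rˣ) : Pt k A R := E.XP (s : R) * E.XM (-((s⁻¹ : Rˣ) : R)) * E.XP (s : R)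

lemma π_W (s : Rˣ) : E.π (E.W s) = hh s * w := by
  rw [W, map_mul, map_mul, π_XP, π_XM, hh_mul_w]

lemma W_map (f : R →ₐ[k] R') (s : Rˣ) : pmap f (E.W s) = E.W (Units.map (f : R →* R') s) := by
  rw [W, W, map_mul, map_mul, XP_map, XM_map, map_neg]
  rfl

lemma W_conj_XP (s : Rˣ) (a : R) : E.W s * E.XP a * (E.W s)⁻¹ = E.XM (-(((s⁻¹ : Rˣ) : R) ^ 2 * a)) := by
  rw [← ad_π, π_W, ad_mul, ad_w_XP, ad_XM, mul_neg]

lemma W_conj_XM (s : Rˣ) (a : R) : E.W s * E.XM a * (E.W s)⁻¹ = E.XP (-((s : R) ^ 2 * a)) := by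
  rw [← ad_π, π_W, ad_mul, ad_w_XM, ad_XP, mul_neg]

/-- the other expression of the Weyl element -/
lemma W_eq (s : Rˣ) : E.W s = E.XM (-((s⁻¹ : Rˣ) : R)) * E.XP (s : R) * E.XM (-((s⁻¹ : Rˣ) : R)) := by
  have h1 : E.W s = E.W s * (E.XP (s : R) * E.XM (-((s⁻¹ : Rˣ) : R)) * E.XP (s : R)) * (E.W s)⁻¹ := by
    change E.W s = E.W s * E.W s * (E.W s)⁻¹
    group
  have h2 : E.W s * (E.XP (s : R) * E.XM (-((s⁻¹ : Rˣ) : R)) * E.XP (s : R)) * (E.W s)⁻¹ =
      (E.W s * E.XP (s : R) * (E.W s)⁻¹) * (E.W s * E.XM (-((s⁻¹ : Rˣ) : R)) * (E.W s)⁻¹) *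
        (E.W s * E.XP (s : R) * (E.W s)⁻¹) := by group
  have h3 : (s : R) * ((s⁻¹ : Rˣ) : R) = 1 := Units.mul_inv s
  have e1 : -(((s⁻¹ : Rˣ) : R) ^ 2 * (s : R)) = -((s⁻¹ : Rˣ) : R) := by linear_combination (-((s⁻¹ : Rˣ) : R)) * h3
  have e2 : -((s : R) ^ 2 * -((s⁻¹ : Rˣ) : R)) = (s : R) := by linear_combination (s : R) * h3
  rw [h1, h2, W_conj_XP, W_conj_XM, e1, e2]

lemma W_inv (s : Rˣ) : (E.W s)⁻¹ = E.W (-s) := by
  rw [W, W, mul_inv_rev, mul_inv_rev, ← XP_neg, ← XM_neg, neg_neg]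
  simp only [Units.val_neg, inv_neg, neg_neg]
  group

/-- the lift of the diagonal torus -/
noncomputable def H (s : Rˣ) : Pt k A R := E.W s * (E.W 1)⁻¹

lemma H_map (f : R →ₐ[k] R') (s : Rˣ) : pmap f (E.H s) = E.H (Units.map (f : R →* R') s) := by
  rw [H, H, map_mul, map_inv, W_map, W_map, map_one]

lemma π_H (s : Rˣ) : E.π (E.H s) = hh s := by
  rw [H, map_mul, map_inv, π_W, π_W, hh_one, one_mul, mul_inv_cancel_right]

lemma H_one : E.H (1 : Rˣ) = 1 := by rw [H, mul_inv_cancel]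

lemma ad_W (s t : Rˣ) : E.ad (hh s) (E.W t) = E.W (s ^ 2 * t) := by
  rw [W, W, map_mul, map_mul, ad_XP, ad_XM]
  simp only [Units.val_mul, Units.val_pow_eq_pow_val, mul_inv, ← inv_pow]
  congr 3
  ring

lemma H_comm (s t : Rˣ) : E.H s * E.H t = E.H t * E.H s := by
  have h1 := E.comm_of_lift (E.π_H s) (E.π_H t)
  rw [comm_hh_hh] at h1
  calc E.H s * E.H t = (E.H s * E.H t * (E.H s)⁻¹ * (E.H t)⁻¹) * (E.H t * E.H s) := by group
    _ = _ := by rw [← h1, one_mul]

lemma H_sq_mul (s t : Rˣ) : E.H (s ^ 2 * t) = E.H (s ^ 2) * E.H t := by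
  have h1 : E.ad (hh s) (E.H t) = E.H t := by
    rw [← E.π_H, ad_π, H_comm, mul_inv_cancel_right]
  have h2 : E.ad (hh s) (E.H t) = E.H (s ^ 2 * t) * (E.H (s ^ 2))⁻¹ := by
    rw [H, map_mul, map_inv, ad_W, ad_W, mul_one, H, H]
    group
  rw [h1, eq_mul_inv_iff_mul_eq] at h2
  rw [← h2, H_comm]

/-- **Multiplicativity of the lift of the torus.** -/
theorem H_mul (s t : Rˣ) : E.H (s * t) = E.H s * E.H t := by
  obtain ⟨R', _, _, f, hf, v, hv⟩ := exists_nthRoot (k := k) 2 (by norm_num) s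
  apply pmap_injective f hf.injective
  rw [map_mul, H_map, H_map, H_map, map_mul, ← hv, H_sq_mul]

lemma H_inv (s : Rˣ) : E.H s⁻¹ = (E.H s)⁻¹ := by
  rw [eq_inv_iff_mul_eq_one, ← H_mul, inv_mul_cancel, H_one]

lemma H_conj_XP (s : Rˣ) (a : R) : E.H s * E.XP a * (E.H s)⁻¹ = E.XP ((s : R) ^ 2 * a) := by
  rw [← E.ad_π, π_H, ad_XP]

lemma H_conj_XM (s : Rˣ) (a : R) : E.H s * E.XM a * (E.H s)⁻¹ = E.XM (((s⁻¹ : Rˣ) : R) ^ 2 * a) := by
  rw [← E.ad_π, π_H, ad_XM]

lemma W_eq_H (s : Rˣ) : E.W s = E.H s * E.W 1 := by rw [H, inv_mul_cancel_right]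

/-- the quotient of two Weyl elements -/
lemma W_mul_W_inv (s t : Rˣ) : E.W s * (E.W t)⁻¹ = E.H (s * t⁻¹) := by
  rw [W_eq_H, W_eq_H E t, H_mul, H_inv]
  group

end CExt

end K20.CEx
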