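import Groth.Agent.SGA3x.K20.CExtSec

/-!
# Central extensions of `SL_2` split uniquely
-/

set_option autoImplicit false
universe u

namespace K20.CEx

open K20.SL2El TensorProduct Polynomial

variable {k : Type u} [CommRing k] {A : Type u} [CommRing A] [HopfAlgebra k A]

namespace CExt

variable (E : CExt k A) {R R' R'' : Type u} [CommRing R] [Algebra k R] [CommRing R'] [Algebra k R'] [CommRing R'']
  [Algebra k R'']

/-- after a faithfully flat extension the first column can be moved -/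
lemma exists_col (m : SL R) : ∃ (R' : Type u) (_ : CommRing R') (_ : Algebra k R') (f : R →ₐ[k] R'), FF f ∧
    ∃ (u : R') (a : R'ˣ), (a : R') = f (m 0 0) + u * f (m 1 0) := by
  let g : R[X] := C (m 0 0) + X * C (m 1 0)
  refine ⟨Localization.Away g, inferInstance, inferInstance, (aMap k g).comp (CAlgHom : R →ₐ[k] R[X]),
    ff_lin (det_eq m), aMap k g X, (isUnit_aMap (k := k) g).unit, ?_⟩
  change aMap k g g = aMap k g (C (m 0 0)) + aMap k g X * aMap k g (C (m 1 0))
  rw [← map_mul, ← map_add]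

lemma ext_col (m : SL R) {x y : Pt k A R} (H : ∀ (R' : Type u) [CommRing R'] [Algebra k R'] (f : R →ₐ[k] R')
    (u : R') (a : R'ˣ), (a : R') = f (m 0 0) + u * f (m 1 0) → pmap f x = pmap f y) : x = y := by
  obtain ⟨R', _, _, f, hf, u, a, ha⟩ := exists_col (k := k) m
  exact pmap_injective f hf.injective (H R' f u a ha)

/-- the value of the section in a chart -/
noncomputable def SU (m : SL R) (u : R) (a : Rˣ) : Pt k A R := E.XP (-u) * E.SA (xp u * m) a

lemma SU_map (f : R →ₐ[k] R') (m : SL R) (u : R) (a : Rˣ) :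
    pmap f (E.SU m u a) = E.SU (sm f m) (f u) (Units.map (f : R →* R') a) := by
  rw [SU, SU, map_mul, XP_map, SA_map, map_neg, map_mul, sm_xp]

lemma SU_eq (m : SL R) (u u' : R) (a a' : Rˣ) (ha : (a : R) = m 0 0 + u * m 1 0) (ha' : (a' : R) = m 0 0 + u' * m 1 0) :
    E.SU m u a = E.SU m u' a' := by
  have h1 := E.SA_XP (xp u * m) a a' (by rw [mul00, ha]; simp) (u' - u) (by
    rw [mul10, ha', ha]
    simp only [xp10, xp11]
    ring)
  have h2 : xp (u' - u) * (xp u * m) = xp u' * m := by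
    rw [← mul_assoc, ← xp_add, sub_add_cancel]
  rw [h2] at h1
  rw [SU, SU, ← h1, ← mul_assoc, ← XP_add]
  congr 2
  ring

/-- existence of the section -/
theorem exists_sig (m : SL R) : ∃ x : Pt k A R, ∀ (R' : Type u) [CommRing R'] [Algebra k R'] (f : R →ₐ[k] R')
    (u : R') (a : R'ˣ), (a : R') = f (m 0 0) + u * f (m 1 0) → pmap f x = E.SU (sm f m) u a := by
  obtain ⟨R', _, _, f, hf, u, a, ha⟩ := exists_col (k := k) m
  have key : ∀ {R₁ R₂ : Type u} [CommRing R₁] [Algebra k R₁] [CommRing R₂] [Algebra k R₂] (f₁ : R →ₐ[k] R₁)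
      (p : R₁ →ₐ[k] R₂) (u : R₁) (a : R₁ˣ), (a : R₁) = f₁ (m 0 0) + u * f₁ (m 1 0) →
        ((Units.map (p : R₁ →* R₂) a : R₂ˣ) : R₂) = (sm (p.comp f₁) m) 0 0 + p u * (sm (p.comp f₁) m) 1 0 := by
    intro R₁ R₂ _ _ _ _ f₁ p u a ha
    change p (a : R₁) = p (f₁ (m 0 0)) + p u * p (f₁ (m 1 0))
    rw [ha, map_add, map_mul]
  obtain ⟨x, hx⟩ := exists_descent f hf (E.SU (sm f m) u a) fun R'' _ _ p q hpq => by
    rw [SU_map, SU_map, ← sm_comp, ← sm_comp, hpq]
    have h1 := key f p u a ha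
    have h2 := key f q u a ha
    rw [hpq] at h1
    exact E.SU_eq _ _ _ _ _ h1 h2
  refine ⟨x, fun R₁ _ _ f₁ u₁ a₁ ha₁ => ?_⟩
  obtain ⟨P, _, _, p, q, hp, hpq⟩ := exists_pushout f hf f₁
  apply pmap_injective p hp.injective
  rw [← pmap_comp, hpq, pmap_comp, hx, SU_map, SU_map, ← sm_comp, ← sm_comp, hpq]
  have h1 := key f q u a ha
  have h2 := key f₁ p u₁ a₁ ha₁
  rw [hpq] at h2
  exact E.SU_eq _ _ _ _ _ h1 h2

/-- the canonical section, as a function -/
noncomputable def sig (m : SL R) : Pt k A R := (E.exists_sig m).choose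

lemma sig_spec (m : SL R) (f : R →ₐ[k] R') {u : R'} {a : R'ˣ} (ha : (a : R') = f (m 0 0) + u * f (m 1 0)) :
    pmap f (E.sig m) = E.SU (sm f m) u a := (E.exists_sig m).choose_spec R' f u a ha

lemma sig_map (f : R →ₐ[k] R') (m : SL R) : pmap f (E.sig m) = E.sig (sm f m) := by
  refine ext_col (sm f m) fun R'' _ _ f' u a ha => ?_
  rw [← pmap_comp, E.sig_spec m (f'.comp f) ha, E.sig_spec _ f' ha, sm_comp]

lemma sig_of_unit (m : SL R) (a : Rˣ) (ha : (a : R) = m 0 0) : E.sig m = E.SA m a := by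
  have h1 := E.sig_spec m (AlgHom.id k R) (u := 0) (a := a) (by rw [zero_mul, add_zero]; exact ha)
  have h2 : sm (AlgHom.id k R) m = m := smap_id m
  rw [h2, SU, neg_zero, XP_zero, xp_zero, one_mul, one_mul] at h1
  exact h1

lemma π_sig (m : SL R) : E.π (E.sig m) = m := by
  obtain ⟨R', _, _, f, hf, u, a, ha⟩ := exists_col (k := k) m
  apply sm_injective hf.injective
  rw [← E.nat, E.sig_spec m f ha, SU, map_mul, π_XP, E.π_SA _ a, ← mul_assoc, ← xp_add, neg_add_cancel, xp_zero,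
    one_mul]
  rw [mul00, xp00, xp01, ha, one_mul]
  rfl

lemma sig_xp_mul (s : R) (m : SL R) : E.sig (xp s * m) = E.XP s * E.sig m := by
  refine ext_col m fun R' _ _ f u a ha => ?_
  rw [map_mul, XP_map, E.sig_spec m f ha, E.sig_spec (xp s * m) f (u := u - f s) (a := a), SU, SU, map_mul, sm_xp,
    ← mul_assoc, ← mul_assoc, ← xp_add, ← XP_add, sub_add_cancel]
  · congr 2
    ring
  · rw [mul00, mul10, ha]
    simp only [xp00, xp01, xp10, xp11, map_add, map_mul, map_zero, map_one]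
    ring

lemma sig_xm_mul_of_unit (s : R) (m : SL R) (a : Rˣ) (ha : (a : R) = m 0 0) :
    E.sig (xm s * m) = E.XM s * E.sig m := by
  rw [E.sig_of_unit m a ha, E.SA_XM m a ha, E.sig_of_unit (xm s * m) a]
  rw [mul00, ha]
  simp

lemma sig_xm_mul (s : R) (m : SL R) : E.sig (xm s * m) = E.XM s * E.sig m := by
  let c := cMap k R
  let m' : SL R[X] := xp X * sm c m
  have h00 : m' 0 0 = C (m 0 0) + X * C (m 1 0) := by
    change (xp X * sm c m : SL R[X]) 0 0 = _
    rw [mul00, xp00, xp01, one_mul]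
    rfl
  have h1 : E.sig (xm (C s) * m') = E.XM (C s) * E.sig m' := by
    refine ext_away (k := k) (lin_mem_nonZeroDivisors (det_eq m)) fun Q _ _ f hf => ?_
    rw [map_mul, XM_map, sig_map, sig_map, map_mul, sm_xm]
    refine E.sig_xm_mul_of_unit _ _ hf.unit ?_
    rw [IsUnit.unit_spec, ← h00]
    rfl
  have h2 := congrArg (pmap (evMap k (0 : R))) h1
  have h3 : sm (evMap k (0 : R)) m' = m := by
    change sm (evMap k (0 : R)) (xp X * sm c m) = m
    rw [map_mul, sm_xp, ← sm_comp, evMap_comp_cMap]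
    have h4 : evMap k (0 : R) X = 0 := by simp [evMap]
    rw [h4, xp_zero, one_mul]
    exact smap_id m
  have h4 : evMap k (0 : R) (C s) = s := by simp [evMap]
  rw [map_mul, XM_map, sig_map, sig_map, map_mul, sm_xm, h3, h4] at h2
  exact h2

lemma sig_one : E.sig (1 : SL R) = 1 := by
  rw [E.sig_of_unit 1 1 (by simp), SA]
  simp only [one10, one01, zero_mul, mul_zero, XM_zero, XP_zero, H_one, mul_one]

lemma sig_xp (s : R) : E.sig (xp s) = E.XP s := by
  have := E.sig_xp_mul s 1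
  rwa [mul_one, sig_one, mul_one] at this

lemma sig_xm (s : R) : E.sig (xm s) = E.XM s := by
  have := E.sig_xm_mul s 1
  rwa [mul_one, sig_one, mul_one] at this

/-- the elementary subgroup -/
def El (R : Type u) [CommRing R] : Subgroup (SL R) := Subgroup.closure (Set.range xp ∪ Set.range xm)

lemma xp_mem (a : R) : xp a ∈ El R := Subgroup.subset_closure (Or.inl ⟨a, rfl⟩)
lemma xm_mem (a : R) : xm a ∈ El R := Subgroup.subset_closure (Or.inr ⟨a, rfl⟩)
lemma w_mem : (w : SL R) ∈ El R := by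
  rw [w_eq]
  exact mul_mem (mul_mem (xp_mem _) (xm_mem _)) (xp_mem _)
lemma hh_mem (a : Rˣ) : hh a ∈ El R := by
  have h1 : hh a = (hh a * w) * w⁻¹ := by group
  rw [h1, hh_mul_w]
  exact mul_mem (mul_mem (mul_mem (xp_mem _) (xm_mem _)) (xp_mem _)) (inv_mem w_mem)

lemma mem_of_unit (m : SL R) (a : Rˣ) (ha : (a : R) = m 0 0) : m ∈ El R := by
  rw [big_cell m a ha]
  exact mul_mem (mul_mem (xm_mem _) (hh_mem _)) (xp_mem _)

/-- matrices are elementary after a faithfully flat extension -/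
lemma mem_of_col (m : SL R) (f : R →ₐ[k] R') (u : R') (a : R'ˣ) (ha : (a : R') = f (m 0 0) + u * f (m 1 0)) :
    sm f m ∈ El R' := by
  have h1 : sm f m = xp (-u) * (xp u * sm f m) := by
    rw [← mul_assoc, ← xp_add, neg_add_cancel, xp_zero, one_mul]
  rw [h1]
  refine mul_mem (xp_mem _) (mem_of_unit _ a ?_)
  rw [mul00, xp00, xp01, one_mul, ha]
  rfl

lemma sig_mul_of_mem {g : SL R} (hg : g ∈ El R) : ∀ m : SL R, E.sig (g * m) = E.sig g * E.sig m := by
  induction hg using Subgroup.closure_induction with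
  | mem x hx =>
    intro m
    rcases hx with ⟨a, rfl⟩ | ⟨a, rfl⟩
    · rw [sig_xp_mul, sig_xp]
    · rw [sig_xm_mul, sig_xm]
  | one => intro m; rw [one_mul, sig_one, one_mul]
  | mul x y _ _ hx hy =>
    intro m
    rw [mul_assoc, hx, hy, hx, mul_assoc]
  | inv x _ hx =>
    intro m
    have h1 := hx (x⁻¹ * m)
    have h2 := hx x⁻¹
    rw [mul_inv_cancel_left] at h1
    rw [mul_inv_cancel, sig_one] at h2
    have h3 : E.sig x⁻¹ = (E.sig x)⁻¹ := (inv_eq_of_mul_eq_one_right h2.symm).symm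
    calc E.sig (x⁻¹ * m) = (E.sig x)⁻¹ * (E.sig x * E.sig (x⁻¹ * m)) := by group
      _ = (E.sig x)⁻¹ * E.sig m := by rw [← h1]
      _ = _ := by rw [h3]

/-- the canonical section is multiplicative -/
theorem sig_mul (g m : SL R) : E.sig (g * m) = E.sig g * E.sig m := by
  refine ext_col g fun R' _ _ f u a ha => ?_
  rw [map_mul, sig_map, sig_map, sig_map, map_mul]
  exact E.sig_mul_of_mem (mem_of_col g f u a ha) _

/-- **Uniqueness of the section.** -/
theorem eq_sig (τ : ∀ {R : Type u} [CommRing R] [Algebra k R], SL R →* Pt k A R)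
    (hτ : ∀ {R R' : Type u} [CommRing R] [Algebra k R] [CommRing R'] [Algebra k R'] (f : R →ₐ[k] R') (m : SL R),
      pmap f (τ m) = τ (sm f m))
    (hπ : ∀ {R : Type u} [CommRing R] [Algebra k R] (m : SL R), E.π (τ m) = m) (m : SL R) : τ m = E.sig m := by
  have h1 : ∀ {R : Type u} [CommRing R] [Algebra k R] (a : R), τ (xp a) = E.XP a := by
    intro R _ _ a
    refine ext_gold fun R' _ _ f t ht => ?_
    rw [hτ, sm_xp, XP_map]
    have h2 : xp (f a) = hh t * xp (((t⁻¹ : R'ˣ) : R') * f a) * (hh t)⁻¹ * (xp (((t⁻¹ : R'ˣ) : R') * f a))⁻¹ := by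
      rw [hh_xp_comm ht, ← mul_assoc, Units.mul_inv, one_mul]
    have h3 := E.XP_of_lift ht (a := f a) (x := τ (xp (((t⁻¹ : R'ˣ) : R') * f a))) (hπ _)
    rw [h3, E.ad_of_lift (hπ (hh t)), h2]
    simp only [map_mul, map_inv]
  have h2 : ∀ {R : Type u} [CommRing R] [Algebra k R] (a : R), τ (xm a) = E.XM a := by
    intro R _ _ a
    have h3 : xm a = (w : SL R)⁻¹ * xp (-a) * w := by
      rw [← w_conj_xm]
      group
    have h4 : E.π (τ (w : SL R))⁻¹ = w⁻¹ := by rw [map_inv, hπ]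
    rw [XM, E.ad_of_lift h4, h3]
    simp only [map_mul, map_inv, h1, inv_inv]
  have h3 : ∀ {R : Type u} [CommRing R] [Algebra k R] {g : SL R}, g ∈ El R → τ g = E.sig g := by
    intro R _ _ g hg
    let σ : SL R →* Pt k A R := { toFun := E.sig, map_one' := E.sig_one, map_mul' := E.sig_mul }
    change τ g = σ g
    induction hg using Subgroup.closure_induction with
    | mem x hx =>
      rcases hx with ⟨a, rfl⟩ | ⟨a, rfl⟩
      · rw [h1]; exact (E.sig_xp a).symm
      · rw [h2]; exact (E.sig_xm a).symm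
    | one => rw [map_one, map_one]
    | mul x y _ _ hx hy => rw [map_mul, map_mul, hx, hy]
    | inv x _ hx => rw [map_inv, map_inv, hx]
  refine ext_col m fun R' _ _ f u a ha => ?_
  rw [hτ, sig_map]
  exact h3 (mem_of_col m f u a ha)

end CExt

end K20.CEx
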