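import Groth.Agent.SGA3x.K20.CExtH
import Mathlib.RingTheory.Polynomial.Basic
import Mathlib.RingTheory.Spectrum.Prime.Topology
import Mathlib.Algebra.Polynomial.RingDivision

/-!
# Central extensions of `SL_2`: the canonical section
-/

set_option autoImplicit false
universe u

namespace K20.CEx

open K20.SL2El TensorProduct Polynomial

variable {k : Type u} [CommRing k] {A : Type u} [CommRing A] [HopfAlgebra k A]

section loc

variable {Q : Type u} [CommRing Q] [Algebra k Q]

/-- localisation map -/
noncomputable def aMap (k : Type u) {Q : Type u} [CommRing k] [CommRing Q] [Algebra k Q] (x : Q) :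
    Q →ₐ[k] Localization.Away x := (Algebra.ofId Q (Localization.Away x)).restrictScalars k

lemma aMap_apply (x y : Q) : aMap k x y = algebraMap Q (Localization.Away x) y := rfl

lemma isUnit_aMap (x : Q) : IsUnit (aMap k x x) := IsLocalization.Away.algebraMap_isUnit x

lemma aMap_injective {x : Q} (hx : x ∈ nonZeroDivisors Q) : Function.Injective (aMap k x) := by
  refine IsLocalization.injective (M := Submonoid.powers x) (Localization.Away x) ?_
  rintro _ ⟨n, rfl⟩
  exact pow_mem hx n

/-- equality of points may be checked after inverting a non-zero-divisor -/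
lemma ext_away {x : Q} (hx : x ∈ nonZeroDivisors Q) {p q : Pt k A Q}
    (H : ∀ (Q' : Type u) [CommRing Q'] [Algebra k Q'] (f : Q →ₐ[k] Q'), IsUnit (f x) → pmap f p = pmap f q) :
    p = q :=
  pmap_injective (aMap k x) (aMap_injective hx) (H _ (aMap k x) (isUnit_aMap x))

/-- a unimodular linear polynomial is a non-zero-divisor -/
lemma lin_mem_nonZeroDivisors {a b c d : Q} (h : a * d - b * c = 1) : (C a + X * C c : Q[X]) ∈ nonZeroDivisors Q[X] := by
  by_contra hn
  rw [Polynomial.notMem_nonZeroDivisors_iff] at hn
  obtain ⟨r, hr, h0⟩ := hn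
  have h1 : r * a = 0 := by
    have := congrArg (fun p => coeff p 0) h0
    simpa using this
  have h2 : r * c = 0 := by
    have := congrArg (fun p => coeff p 1) h0
    simpa using this
  apply hr
  linear_combination (-r) * h + d * h1 - b * h2

/-- inverting a unimodular linear polynomial is faithfully flat -/
lemma ff_lin {a b c d : Q} (h : a * d - b * c = 1) : FF ((aMap k (C a + X * C c : Q[X])).comp (CAlgHom : Q →ₐ[k] Q[X])) := by
  let g : Q[X] := C a + X * C c
  let S := Localization.Away g
  change (((aMap k g).comp (CAlgHom : Q →ₐ[k] Q[X]) : Q →ₐ[k] S) : Q →+* S).FaithfullyFlat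
  have h0 : ((((aMap k g).comp (CAlgHom : Q →ₐ[k] Q[X]) : Q →ₐ[k] S)) : Q →+* S) = (algebraMap Q[X] S).comp C := rfl
  rw [h0, RingHom.FaithfullyFlat.iff_flat_and_comap_surjective]
  constructor
  · refine RingHom.Flat.comp ?_ ?_
    · have : Module.Flat Q Q[X] := inferInstance
      exact RingHom.flat_algebraMap_iff.2 this
    · have : Module.Flat Q[X] S := IsLocalization.flat S (Submonoid.powers g)
      exact RingHom.flat_algebraMap_iff.2 this
  · intro p
    let P : PrimeSpectrum Q[X] := ⟨Ideal.map C p.asIdeal, Ideal.isPrime_map_C_of_isPrime⟩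
    have hg : g ∉ P.asIdeal := by
      intro hg
      have h1 := Ideal.mem_map_C_iff.1 hg
      have h2 : a ∈ p.asIdeal := by
        have := h1 0
        simpa [g] using this
      have h3 : c ∈ p.asIdeal := by
        have := h1 1
        simpa [g] using this
      apply p.2.ne_top
      rw [Ideal.eq_top_iff_one, ← h]
      exact sub_mem (Ideal.mul_mem_right _ _ h2) (Ideal.mul_mem_left _ _ h3)
    have h1 : P ∈ Set.range (PrimeSpectrum.comap (algebraMap Q[X] S)) := by
      rw [PrimeSpectrum.localization_away_comap_range S g]
      exact hg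
    obtain ⟨q, hq⟩ := h1
    refine ⟨q, ?_⟩
    rw [PrimeSpectrum.comap_comp_apply, hq]
    ext x
    change C x ∈ Ideal.map C p.asIdeal ↔ x ∈ p.asIdeal
    constructor
    · intro hx
      have := Ideal.mem_map_C_iff.1 hx 0
      simpa using this
    · exact fun hx => Ideal.mem_map_of_mem C hx

end loc

end K20.CEx
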