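import Groth.Agent.SGA3x.K20.CExtS

/-!
# Central extensions of `SL_2`: the canonical section
-/

set_option autoImplicit false
universe u

namespace K20.CEx

open K20.SL2El TensorProduct Polynomial

variable {k : Type u} [CommRing k] {A : Type u} [CommRing A] [HopfAlgebra k A]

namespace CExt

variable (E : CExt k A) {R R' R'' : Type u} [CommRing R] [Algebra k R] [CommRing R'] [Algebra k R'] [CommRing R'']
  [Algebra k R'']

/-- the opposite unipotents, invertible case -/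
lemma rel_unit (b : R) (c u : Rˣ) (hu : (u : R) = 1 + b * c) :
    E.XP b * E.XM (c : R) = E.XM ((c : R) * ((u⁻¹ : Rˣ) : R)) * E.H u * E.XP (((u⁻¹ : Rˣ) : R) * b) := by
  have hcc : (c : R) * ((c⁻¹ : Rˣ) : R) = 1 := Units.mul_inv c
  have huu : (u : R) * ((u⁻¹ : Rˣ) : R) = 1 := Units.mul_inv u
  -- `XM c`
  have h1 : E.XM (c : R) = E.XP ((c⁻¹ : Rˣ) : R) * (E.W c⁻¹)⁻¹ * E.XP ((c⁻¹ : Rˣ) : R) := by
    rw [W, mul_inv_rev, mul_inv_rev, ← XM_neg, neg_neg, inv_inv]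
    group
  let s : Rˣ := u * c⁻¹
  have hs : b + ((c⁻¹ : Rˣ) : R) = (s : R) := by
    change _ = (u : R) * ((c⁻¹ : Rˣ) : R)
    rw [hu]
    linear_combination (-b) * hcc
  have hs' : ((s⁻¹ : Rˣ) : R) = (c : R) * ((u⁻¹ : Rˣ) : R) := by
    simp [s]
  have h2 : E.XP (s : R) = E.XM ((s⁻¹ : Rˣ) : R) * E.W s * E.XM ((s⁻¹ : Rˣ) : R) := by
    rw [W_eq, XM_neg]
    group
  have h3 := E.W_conj_XM c⁻¹ ((s⁻¹ : Rˣ) : R)
  have h4 : E.XM ((s⁻¹ : Rˣ) : R) * (E.W c⁻¹)⁻¹ =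
      (E.W c⁻¹)⁻¹ * E.XP (-(((c⁻¹ : Rˣ) : R) ^ 2 * ((s⁻¹ : Rˣ) : R))) := by
    rw [← h3]
    group
  have h5 : E.W s * (E.W c⁻¹)⁻¹ = E.H u := by
    rw [W_mul_W_inv]
    congr 1
    simp [s]
  calc E.XP b * E.XM (c : R) = (E.XP b * E.XP ((c⁻¹ : Rˣ) : R)) * (E.W c⁻¹)⁻¹ * E.XP ((c⁻¹ : Rˣ) : R) := by
        rw [h1]; group
    _ = E.XM ((s⁻¹ : Rˣ) : R) * E.W s * (E.XM ((s⁻¹ : Rˣ) : R) * (E.W c⁻¹)⁻¹) * E.XP ((c⁻¹ : Rˣ) : R) := by
        rw [← XP_add, hs, h2]; group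
    _ = E.XM ((s⁻¹ : Rˣ) : R) * (E.W s * (E.W c⁻¹)⁻¹) *
          (E.XP (-(((c⁻¹ : Rˣ) : R) ^ 2 * ((s⁻¹ : Rˣ) : R))) * E.XP ((c⁻¹ : Rˣ) : R)) := by
        rw [h4]; group
    _ = _ := by
        rw [h5, ← XP_add, hs']
        congr 2
        linear_combination (-((u⁻¹ : Rˣ) : R)* ((c⁻¹ : Rˣ) : R)) * hcc + (-((c⁻¹ : Rˣ) : R)) * huu +
          ((c⁻¹ : Rˣ) : R) * ((u⁻¹ : Rˣ) : R) * hu + b * ((u⁻¹ : Rˣ) : R) * hcc

/-- **The opposite unipotents.** -/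
theorem rel (b c : R) (u : Rˣ) (hu : (u : R) = 1 + b * c) :
    E.XP b * E.XM c = E.XM (c * ((u⁻¹ : Rˣ) : R)) * E.H u * E.XP (((u⁻¹ : Rˣ) : R) * b) := by
  let g : R[X] := C (u : R) + X * C b
  let Q := Localization.Away g
  let ι : R →ₐ[k] Q := (aMap k g).comp (CAlgHom : R →ₐ[k] R[X])
  let τ : Q := aMap k g X
  let U : Qˣ := (isUnit_aMap (k := k) g).unit
  have hU : (U : Q) = ι (u : R) + τ * ι b := by
    change aMap k g g = _
    simp only [g, map_add, map_mul]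
    rfl
  have hnzd : ι c + τ ∈ nonZeroDivisors Q := by
    have h1 : (X + C c : R[X]) ∈ nonZeroDivisors R[X] := (monic_X_add_C c).mem_nonZeroDivisors
    have h2 := IsLocalization.nonZeroDivisors_le_comap (Submonoid.powers g) (S := Q) h1
    have h3 : algebraMap R[X] Q (X + C c) = ι c + τ := by
      rw [map_add, add_comm]
      rfl
    rw [← h3]
    exact h2
  have key : E.XP (ι b) * E.XM (ι c + τ) = E.XM ((ι c + τ) * ((U⁻¹ : Qˣ) : Q)) * E.H U * E.XP (((U⁻¹ : Qˣ) : Q) * ι b) := by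
    refine ext_away hnzd fun Q' _ _ f hf => ?_
    have h1 : (Units.map (f : Q →* Q') U : Q') = 1 + f (ι b) * (hf.unit : Q') := by
      change f (U : Q) = 1 + f (ι b) * f (ι c + τ)
      rw [hU, hu, ← map_mul, ← map_one f, ← map_add]
      congr 1
      rw [map_add, map_one, map_mul]
      ring
    have h2 := E.rel_unit (f (ι b)) hf.unit (Units.map (f : Q →* Q') U) h1
    simp only [map_mul, XP_map, XM_map, H_map]
    exact h2
  -- specialise at `0`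
  let ev : R[X] →ₐ[k] R := evMap k (0 : R)
  have hev : IsUnit ((ev : R[X] →+* R) g) := by
    have : (ev : R[X] →+* R) g = (u : R) := by
      change evMap k (0 : R) g = _
      simp [g, evMap]
    rw [this]
    exact u.isUnit
  let e : Q →ₐ[k] R := 
    { toRingHom := IsLocalization.Away.lift g hev
      commutes' := fun x => by
        change IsLocalization.Away.lift g hev (algebraMap k Q x) = _
        rw [IsScalarTower.algebraMap_apply k R[X] Q, IsLocalization.Away.lift_eq]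
        exact ev.commutes x }
  have he : ∀ p : R[X], e (aMap k g p) = ev p := fun p => IsLocalization.Away.lift_eq g hev p
  have he1 : ∀ x : R, e (ι x) = x := by
    intro x
    change e (aMap k g (C x)) = x
    rw [he]
    simp [ev, evMap]
  have he2 : e τ = 0 := by
    change e (aMap k g X) = 0
    rw [he]
    simp [ev, evMap]
  have he3 : Units.map (e : Q →* R) U = u := by
    ext
    change e (U : Q) = u
    rw [hU, map_add, map_mul, he1, he2, zero_mul, add_zero]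
  have he4 : e ((U⁻¹ : Qˣ) : Q) = ((u⁻¹ : Rˣ) : R) := by
    rw [← he3]
    rfl
  have h1 := congrArg (pmap e) key
  simp only [map_mul, XP_map, XM_map, H_map] at h1
  rw [map_add e, he1, he1, he2, he3, he4, add_zero] at h1
  exact h1

/-- the section on the big cell -/
noncomputable def SA (m : SL R) (a : Rˣ) : Pt k A R :=
  E.XM (m 1 0 * ((a⁻¹ : Rˣ) : R)) * E.H a * E.XP (((a⁻¹ : Rˣ) : R) * m 0 1)

lemma SA_map (f : R →ₐ[k] R') (m : SL R) (a : Rˣ) : pmap f (E.SA m a) = E.SA (sm f m) (Units.map (f : R →* R') a) := by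
  rw [SA, SA, map_mul, map_mul, XM_map, H_map, XP_map, map_mul, map_mul]
  rfl

lemma π_SA (m : SL R) (a : Rˣ) (ha : (a : R) = m 0 0) : E.π (E.SA m a) = m := by
  rw [SA, map_mul, map_mul, π_XM, π_H, π_XP]
  exact (big_cell m a ha).symm

lemma SA_XM (m : SL R) (a : Rˣ) (ha : (a : R) = m 0 0) (s : R) : E.XM s * E.SA m a = E.SA (xm s * m) a := by
  have haa : (a : R) * ((a⁻¹ : Rˣ) : R) = 1 := Units.mul_inv a
  have h1 : E.XM s * E.SA m a = (E.XM s * E.XM (m 1 0 * ((a⁻¹ : Rˣ) : R))) * E.H a * E.XP (((a⁻¹ : Rˣ) : R) * m 0 1) := by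
    rw [SA]; group
  rw [h1, ← XM_add, SA, mul10, mul01]
  simp only [xm00, xm01, xm10, xm11]
  congr 2
  · congr 2
    rw [← ha]
    linear_combination (-s) * haa
  · congr 1
    ring

lemma SA_XP (m : SL R) (a a' : Rˣ) (ha : (a : R) = m 0 0) (v : R) (ha' : (a' : R) = (a : R) + v * m 1 0) :
    E.XP v * E.SA m a = E.SA (xp v * m) a' := by
  have haa : (a : R) * ((a⁻¹ : Rˣ) : R) = 1 := Units.mul_inv a
  have haa' : (a' : R) * ((a'⁻¹ : Rˣ) : R) = 1 := Units.mul_inv a'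
  have hdet := det_eq m
  rw [← ha] at hdet
  let u : Rˣ := a' * a⁻¹
  have hu' : ((u⁻¹ : Rˣ) : R) = (a : R) * ((a'⁻¹ : Rˣ) : R) := by simp [u]
  have hu : (u : R) = 1 + v * (m 1 0 * ((a⁻¹ : Rˣ) : R)) := by
    change (a' : R) * ((a⁻¹ : Rˣ) : R) = _
    rw [ha']
    linear_combination haa
  have h1 : E.XP v * E.SA m a = (E.XP v * E.XM (m 1 0 * ((a⁻¹ : Rˣ) : R))) * E.H a * E.XP (((a⁻¹ : Rˣ) : R) * m 0 1) := by
    rw [SA]; group
  have h2 := E.H_conj_XP a⁻¹ (((u⁻¹ : Rˣ) : R) * v)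
  have h3 : E.XP (((u⁻¹ : Rˣ) : R) * v) * E.H a = E.H a * E.XP ((((a⁻¹ : Rˣ) : R)) ^ 2 * (((u⁻¹ : Rˣ) : R) * v)) := by
    rw [← h2, H_inv]
    group
  rw [h1, E.rel v _ u hu]
  calc E.XM (m 1 0 * ((a⁻¹ : Rˣ) : R) * ((u⁻¹ : Rˣ) : R)) * E.H u * E.XP (((u⁻¹ : Rˣ) : R) * v) * E.H a *
        E.XP (((a⁻¹ : Rˣ) : R) * m 0 1)
      = E.XM (m 1 0 * ((a⁻¹ : Rˣ) : R) * ((u⁻¹ : Rˣ) : R)) * (E.H u * (E.XP (((u⁻¹ : Rˣ) : R) * v) * E.H a)) *
        E.XP (((a⁻¹ : Rˣ) : R) * m 0 1) := by group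
    _ = E.XM (m 1 0 * ((a⁻¹ : Rˣ) : R) * ((u⁻¹ : Rˣ) : R)) * (E.H u * E.H a) *
        (E.XP ((((a⁻¹ : Rˣ) : R)) ^ 2 * (((u⁻¹ : Rˣ) : R) * v)) * E.XP (((a⁻¹ : Rˣ) : R) * m 0 1)) := by
        rw [h3]; group
    _ = _ := by
        rw [← H_mul, ← XP_add, SA, mul10, mul01]
        simp only [xp00, xp01, xp10, xp11]
        have e1 : u * a = a' := by simp [u]
        rw [e1, hu']
        have e3 : m 1 0 * ((a⁻¹ : Rˣ) : R) * ((a : R) * ((a'⁻¹ : Rˣ) : R)) =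
            (0 * m 0 0 + 1 * m 1 0) * ((a'⁻¹ : Rˣ) : R) := by
          linear_combination (m 1 0 * ((a'⁻¹ : Rˣ) : R)) * haa
        rw [e3]
        · congr 2
          have e2 : (a : R) * (((a⁻¹ : Rˣ) : R) ^ 2 * ((a : R) * ((a'⁻¹ : Rˣ) : R) * v) + ((a⁻¹ : Rˣ) : R) * m 0 1) =
              (a : R) * (((a'⁻¹ : Rˣ) : R) * (1 * m 0 1 + v * m 1 1)) := by
            rw [ha'] at haa'
            linear_combination (((a'⁻¹ : Rˣ) : R) * v * ((a : R) * ((a⁻¹ : Rˣ) : R) + 1) + m 0 1) * haa -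
              (((a'⁻¹ : Rˣ) : R) * v) * hdet - m 0 1 * haa'
          exact a.isUnit.mul_left_cancel e2

end CExt

end K20.CEx
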