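import Groth.Agent.SGA3x.K20.CExt
import Mathlib.RingTheory.AdjoinRoot
import Mathlib.RingTheory.Flat.FaithfullyFlat.Basic
import Mathlib.Algebra.Polynomial.Laurent
import Mathlib.Tactic.ComputeDegree

/-!
# Central extensions of `SL_2`: canonical lifts of the unipotent elements
-/

set_option autoImplicit false
universe u

namespace K20.CEx

open K20.SL2El TensorProduct Polynomial

variable {k : Type u} [CommRing k] {A : Type u} [CommRing A] [HopfAlgebra k A]

section rings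

variable {R : Type u} [CommRing R] [Algebra k R]

variable (k) in
/-- the structure map to `AdjoinRoot` -/
noncomputable def arMap (p : R[X]) : R →ₐ[k] AdjoinRoot p := (Algebra.ofId R (AdjoinRoot p)).restrictScalars k

lemma arMap_apply (p : R[X]) (x : R) : arMap k p x = AdjoinRoot.of p x := rfl

lemma ff_arMap (p : R[X]) (hp : p.Monic) (hd : Nontrivial R → 0 < p.natDegree) : FF (arMap k p) := by
  have h0 : ((arMap k p : R →ₐ[k] AdjoinRoot p) : R →+* AdjoinRoot p) = algebraMap R (AdjoinRoot p) := rfl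
  rcases subsingleton_or_nontrivial R with h | h
  · have h1 : Subsingleton (AdjoinRoot p) := Module.subsingleton R _
    exact RingHom.FaithfullyFlat.of_bijective ⟨fun _ _ _ => Subsingleton.elim _ _, fun _ => ⟨0, Subsingleton.elim _ _⟩⟩
  · have h1 := hp.free_adjoinRoot
    have h2 : Nontrivial (AdjoinRoot p) := by
      let b := (AdjoinRoot.powerBasis' hp).basis
      have h3 : 0 < (AdjoinRoot.powerBasis' hp).dim := hd h
      exact ⟨⟨_, _, b.ne_zero ⟨0, h3⟩⟩⟩
    change (algebraMap R (AdjoinRoot p)).FaithfullyFlat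
    rw [RingHom.faithfullyFlat_algebraMap_iff]
    infer_instance

/-- faithfully flat adjunction of an `n`-th root -/
lemma exists_nthRoot (n : ℕ) (hn : n ≠ 0) (s : Rˣ) : ∃ (R' : Type u) (_ : CommRing R') (_ : Algebra k R')
    (f : R →ₐ[k] R'), FF f ∧ ∃ v : R'ˣ, v ^ n = Units.map (f : R →* R') s := by
  let p : R[X] := X ^ n - C (s : R)
  have hp : p.Monic := monic_X_pow_sub_C (s : R) hn
  refine ⟨AdjoinRoot p, inferInstance, inferInstance, arMap k p, ff_arMap p hp fun h => ?_, ?_⟩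
  · rw [natDegree_X_pow_sub_C]
    exact Nat.pos_of_ne_zero hn
  · have h1 : (AdjoinRoot.root p) ^ n = AdjoinRoot.of p (s : R) := by
      have h2 := AdjoinRoot.eval₂_root p
      simp only [p, eval₂_sub, eval₂_pow, eval₂_X, eval₂_C] at h2
      exact sub_eq_zero.1 h2
    have h2 : IsUnit (AdjoinRoot.root p) := by
      rw [← isUnit_pow_iff hn, h1]
      exact s.isUnit.map _
    refine ⟨h2.unit, Units.ext ?_⟩
    rw [Units.val_pow_eq_pow_val, IsUnit.unit_spec, h1]
    rfl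

/-- faithfully flat adjunction of a root of `t² = t + 1` -/
lemma exists_golden (R : Type u) [CommRing R] [Algebra k R] : ∃ (R' : Type u) (_ : CommRing R') (_ : Algebra k R')
    (f : R →ₐ[k] R'), FF f ∧ ∃ t : R'ˣ, (t : R') ^ 2 = (t : R') + 1 := by
  let p : R[X] := X ^ 2 - X - 1
  have hp : p.Monic := by
    rcases subsingleton_or_nontrivial R with h | h
    · exact Polynomial.monic_of_subsingleton p
    · simp only [p]
      monicity!
  refine ⟨AdjoinRoot p, inferInstance, inferInstance, arMap k p, ff_arMap p hp fun h => ?_, ?_⟩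
  · have : p.natDegree = 2 := by
      simp only [p]
      compute_degree!
    omega
  · have h1 : (AdjoinRoot.root p) ^ 2 - AdjoinRoot.root p - 1 = 0 := by
      have h2 := AdjoinRoot.eval₂_root p
      simpa only [p, eval₂_sub, eval₂_pow, eval₂_X, eval₂_one] using h2
    have h2 : AdjoinRoot.root p * (AdjoinRoot.root p - 1) = 1 := by linear_combination h1
    refine ⟨⟨AdjoinRoot.root p, AdjoinRoot.root p - 1, h2, by rw [mul_comm]; exact h2⟩, ?_⟩
    change (AdjoinRoot.root p) ^ 2 = AdjoinRoot.root p + 1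
    linear_combination h1

end rings

namespace CExt

variable (E : CExt k A) {R R' R'' : Type u} [CommRing R] [Algebra k R] [CommRing R'] [Algebra k R'] [CommRing R'']
  [Algebra k R'']

lemma sm_xp (f : R →ₐ[k] R') (a : R) : sm f (xp a) = xp (f a) := smap_xp _ a
lemma sm_xm (f : R →ₐ[k] R') (a : R) : sm f (xm a) = xm (f a) := smap_xm _ a
lemma sm_w (f : R →ₐ[k] R') : sm f w = w := smap_w _
lemma sm_hh (f : R →ₐ[k] R') (t : Rˣ) : sm f (hh t) = hh (Units.map (f : R →* R') t) := smap_hh _ t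

/-- the inclusion of constants in the polynomial ring -/
noncomputable abbrev cMap (k R : Type u) [CommRing k] [CommRing R] [Algebra k R] : R →ₐ[k] R[X] := CAlgHom
/-- evaluation at a point -/
noncomputable abbrev evMap (k : Type u) {R : Type u} [CommRing k] [CommRing R] [Algebra k R] (r : R) : R[X] →ₐ[k] R :=
  (aeval r : R[X] →ₐ[R] R).restrictScalars k

lemma evMap_comp_cMap (r : R) : (evMap k r).comp (cMap k R) = AlgHom.id k R := by
  ext x
  simp [evMap, cMap]

/-- The lifts of the upper unipotents commute. -/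
theorem comm_xp_xp (a b : R) : E.comm (xp a) (xp b) = 1 := by
  let j : R[X] →ₐ[k] LaurentPolynomial R := (toLaurentAlg : R[X] →ₐ[R] LaurentPolynomial R).restrictScalars k
  have hj : Function.Injective j := toLaurent_injective
  let T : (LaurentPolynomial R)ˣ := ⟨LaurentPolynomial.T 1, LaurentPolynomial.T (-1), by
    rw [← LaurentPolynomial.T_add]; simp, by rw [← LaurentPolynomial.T_add]; simp⟩
  have hT : j X = (T : LaurentPolynomial R) := toLaurent_X
  have hcen : ∀ {R : Type u} [CommRing R] [Algebra k R] (a b : R), E.π (E.comm (xp a) (xp b)) = 1 := by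
    intro R _ _ a b
    rw [π_comm, ← xp_add, add_comm, xp_add]
    group
  have h1 : pmap (cMap k R) (E.comm (xp a) (xp b)) = E.comm (xp (X ^ 2 * C a)) (xp (X ^ 2 * C b)) := by
    apply pmap_injective j hj
    rw [comm_map, comm_map, comm_map, sm_xp, sm_xp, sm_xp, sm_xp, sm_xp, sm_xp]
    have h2 : ∀ c : R, j (X ^ 2 * C c) = (T : LaurentPolynomial R) ^ 2 * j (C c) := by
      intro c
      rw [map_mul, map_pow, hT]
    rw [h2, h2, ← hh_conj_xp, ← hh_conj_xp, ← ad_comm, E.ad_central _ (hcen _ _)]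
    rfl
  have h3 : pmap (evMap k 0) (pmap (cMap k R) (E.comm (xp a) (xp b))) = E.comm (xp a) (xp b) := by
    rw [← pmap_comp, evMap_comp_cMap]
    rfl
  rw [← h3, h1, comm_map, sm_xp, sm_xp]
  have h4 : ∀ c : R, evMap k (0 : R) (X ^ 2 * C c) = 0 := by
    intro c
    simp [evMap]
  rw [h4, h4, xp_zero, comm_one_left]

lemma comm_of_xp {a b : R} {x y : Pt k A R} (hx : E.π x = xp a) (hy : E.π y = xp b) : x * y = y * x := by
  have h1 := E.comm_of_lift hx hy
  rw [comm_xp_xp] at h1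
  calc x * y = (x * y * x⁻¹ * y⁻¹) * (y * x) := by group
    _ = y * x := by rw [← h1, one_mul]

/-- golden units -/
abbrev IsGold (t : Rˣ) : Prop := (t : R) ^ 2 = (t : R) + 1

/-- the commutator used for the canonical lift -/
noncomputable def ex (t : Rˣ) (a : R) : Pt k A R := E.comm (hh t) (xp (((t⁻¹ : Rˣ) : R) * a))

lemma hh_xp_comm {t : Rˣ} (ht : IsGold t) (a : R) : hh t * xp a * (hh t)⁻¹ * (xp a)⁻¹ = xp ((t : R) * a) := by
  rw [hh_conj_xp, ← xp_neg, ← xp_add]
  congr 1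
  linear_combination a * ht

lemma π_ex {t : Rˣ} (ht : IsGold t) (a : R) : E.π (E.ex t a) = xp a := by
  rw [ex, π_comm, hh_xp_comm ht]
  congr 1
  rw [← mul_assoc, Units.mul_inv, one_mul]

lemma ex_map (f : R →ₐ[k] R') (t : Rˣ) (a : R) : pmap f (E.ex t a) = E.ex (Units.map (f : R →* R') t) (f a) := by
  rw [ex, ex, comm_map, sm_hh, sm_xp, map_mul]
  rfl

/-- independence of the golden unit -/
theorem ex_eq {t t' : Rˣ} (ht : IsGold t) (ht' : IsGold t') (a : R) : E.ex t a = E.ex t' a := by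
  let b : R := ((t⁻¹ : Rˣ) : R) * ((t'⁻¹ : Rˣ) : R) * a
  refine E.ext_lift₂ (hh t) (hh t') fun R' _ _ f g g' hg hg' => ?_
  refine E.ext_lift (xp (f b)) fun R'' _ _ f' x hx => ?_
  have hx' : E.π x = sm (f'.comp f) (xp b) := by rw [hx, sm_comp, sm_xp f b]
  set F := f'.comp f with hF
  have hG : E.π (pmap f' g) = sm F (hh t) := by rw [E.nat, hg, hF, sm_comp]
  have hG' : E.π (pmap f' g') = sm F (hh t') := by rw [E.nat, hg', hF, sm_comp]
  set G := pmap f' g
  set G' := pmap f' g'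
  have hb : hh t * xp b * (hh t)⁻¹ * (xp b)⁻¹ = xp (((t'⁻¹ : Rˣ) : R) * a) := by
    rw [hh_xp_comm ht]
    congr 1
    simp only [b]
    rw [← mul_assoc, ← mul_assoc, Units.mul_inv, one_mul]
  have hb' : hh t' * xp b * (hh t')⁻¹ * (xp b)⁻¹ = xp (((t⁻¹ : Rˣ) : R) * a) := by
    rw [hh_xp_comm ht']
    congr 1
    simp only [b]
    rw [mul_comm ((t⁻¹ : Rˣ) : R), ← mul_assoc, ← mul_assoc, Units.mul_inv, one_mul]
  have h1 : pmap F (E.ex t a) = G * (G' * x * G'⁻¹ * x⁻¹) * G⁻¹ * (G' * x * G'⁻¹ * x⁻¹)⁻¹ := by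
    rw [ex]
    refine E.comm_spec _ _ F _ _ hG ?_
    rw [← hb']
    simp only [map_mul, map_inv, hG', hx']
  have h2 : pmap F (E.ex t' a) = G' * (G * x * G⁻¹ * x⁻¹) * G'⁻¹ * (G * x * G⁻¹ * x⁻¹)⁻¹ := by
    rw [ex]
    refine E.comm_spec _ _ F _ _ hG' ?_
    rw [← hb]
    simp only [map_mul, map_inv, hG, hx']
  rw [← pmap_comp, ← pmap_comp, h1, h2]
  -- the two lifts `G G'` and `G' G` act in the same way
  have h3 : E.π (G * G') = E.π (G' * G) := by
    rw [map_mul, map_mul, hG, hG', ← map_mul, ← map_mul, ← hh_mul, mul_comm, hh_mul]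
  have h4 := E.conj_eq h3 x
  have hxx : E.π x = xp (F b) := by rw [hx', sm_xp]
  have hGx : ∃ c, E.π (G * x * G⁻¹) = xp c := by
    refine ⟨((Units.map (F : R →* R'') t : R''ˣ) : R'') ^ 2 * F b, ?_⟩
    rw [map_mul, map_mul, map_inv, hG, hxx, sm_hh, hh_conj_xp]
  have hGx' : ∃ c, E.π (G' * x * G'⁻¹) = xp c := by
    refine ⟨((Units.map (F : R →* R'') t' : R''ˣ) : R'') ^ 2 * F b, ?_⟩
    rw [map_mul, map_mul, map_inv, hG', hxx, sm_hh, hh_conj_xp]
  obtain ⟨c, hc⟩ := hGx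
  obtain ⟨c', hc'⟩ := hGx'
  have c1 : (G * x * G⁻¹) * x = x * (G * x * G⁻¹) := E.comm_of_xp hc hxx
  have c2 : (G' * x * G'⁻¹) * x = x * (G' * x * G'⁻¹) := E.comm_of_xp hc' hxx
  have c3 : (G * x * G⁻¹) * (G' * x * G'⁻¹) = (G' * x * G'⁻¹) * (G * x * G⁻¹) := E.comm_of_xp hc hc'
  set y := G * x * G⁻¹ with hy
  set y' := G' * x * G'⁻¹ with hy'
  calc G * (y' * x⁻¹) * G⁻¹ * (y' * x⁻¹)⁻¹ = (G * G' * x * (G * G')⁻¹) * y⁻¹ * (x * y'⁻¹) := by
        rw [hy', hy]; group
    _ = (G' * G * x * (G' * G)⁻¹) * (y⁻¹ * x * y'⁻¹) := by rw [h4]; group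
    _ = (G' * G * x * (G' * G)⁻¹) * (y'⁻¹ * x * y⁻¹) := by
        congr 1
        have d1 : y⁻¹ * x = x * y⁻¹ := by
          rw [inv_mul_eq_iff_eq_mul, ← mul_assoc, c1]; group
        have d2 : y'⁻¹ * x = x * y'⁻¹ := by
          rw [inv_mul_eq_iff_eq_mul, ← mul_assoc, c2]; group
        have d3 : y⁻¹ * y'⁻¹ = y'⁻¹ * y⁻¹ := by
          rw [← mul_inv_rev, ← mul_inv_rev, c3]
        rw [d1, d2, mul_assoc, mul_assoc, d3]
    _ = _ := by rw [hy', hy]; group

/-- existence of the canonical lift -/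
theorem exists_XP (a : R) : ∃ x : Pt k A R, ∀ (R' : Type u) [CommRing R'] [Algebra k R'] (f : R →ₐ[k] R') (t : R'ˣ),
    IsGold t → pmap f x = E.ex t (f a) := by
  obtain ⟨R', _, _, f, hf, t, ht⟩ := exists_golden (k := k) R
  have hgold : ∀ {R₁ R₂ : Type u} [CommRing R₁] [Algebra k R₁] [CommRing R₂] [Algebra k R₂] (p : R₁ →ₐ[k] R₂) (t : R₁ˣ),
      IsGold t → IsGold (Units.map (p : R₁ →* R₂) t) := by
    intro R₁ R₂ _ _ _ _ p t ht
    change (p (t : R₁)) ^ 2 = p (t : R₁) + 1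
    rw [← map_pow, ht, map_add, map_one]
  obtain ⟨x, hx⟩ := exists_descent f hf (E.ex t (f a)) fun R'' _ _ p q hpq => by
    rw [ex_map, ex_map]
    have h1 : p (f a) = q (f a) := congr($hpq a)
    rw [h1]
    exact E.ex_eq (hgold p t ht) (hgold q t ht) _
  refine ⟨x, fun R₁ _ _ f₁ t₁ ht₁ => ?_⟩
  obtain ⟨P, _, _, p, q, hp, hpq⟩ := exists_pushout f hf f₁
  apply pmap_injective p hp.injective
  rw [← pmap_comp, hpq, pmap_comp, hx, ex_map, ex_map]
  have h1 : p (f₁ a) = q (f a) := congr($hpq a)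
  rw [h1]
  exact E.ex_eq (hgold q t ht) (hgold p t₁ ht₁) _

/-- the canonical lift of the upper unipotents -/
noncomputable def XP (a : R) : Pt k A R := (E.exists_XP a).choose

lemma XP_spec (a : R) (f : R →ₐ[k] R') {t : R'ˣ} (ht : IsGold t) : pmap f (E.XP a) = E.ex t (f a) :=
  (E.exists_XP a).choose_spec R' f t ht

/-- equality of points may be checked after adjoining a golden unit -/
lemma ext_gold {x y : Pt k A R} (H : ∀ (R' : Type u) [CommRing R'] [Algebra k R'] (f : R →ₐ[k] R')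
    (t : R'ˣ), IsGold t → pmap f x = pmap f y) : x = y := by
  obtain ⟨R', _, _, f, hf, t, ht⟩ := exists_golden (k := k) R
  exact pmap_injective f hf.injective (H R' f t ht)

lemma XP_map (f : R →ₐ[k] R') (a : R) : pmap f (E.XP a) = E.XP (f a) := by
  refine ext_gold fun R'' _ _ f' t ht => ?_
  rw [← pmap_comp, E.XP_spec a _ ht, E.XP_spec _ f' ht]
  rfl

lemma π_XP (a : R) : E.π (E.XP a) = xp a := by
  obtain ⟨R', _, _, f, hf, t, ht⟩ := exists_golden (k := k) R
  apply sm_injective hf.injective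
  rw [← E.nat, E.XP_spec a f ht, E.π_ex ht, sm_xp]

lemma ad_XP (s : Rˣ) (a : R) : E.ad (hh s) (E.XP a) = E.XP ((s : R) ^ 2 * a) := by
  refine ext_gold fun R' _ _ f t ht => ?_
  rw [ad_map, E.XP_spec _ f ht, E.XP_spec _ f ht, ex, ex, ad_comm, sm_hh, hh_conj_xp, ← hh_mul, mul_comm, hh_mul,
    mul_inv_cancel_right, map_mul, map_pow]
  congr 2
  change f (s : R) ^ 2 * _ = _
  ring

/-- a lift of an upper unipotent computes the canonical lift -/
lemma XP_of_lift {t : Rˣ} (ht : IsGold t) {a : R} {x : Pt k A R} (hx : E.π x = xp (((t⁻¹ : Rˣ) : R) * a)) :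
    E.XP a = E.ad (hh t) x * x⁻¹ := by
  have h0 : E.XP a = E.ex t a := by
    have := E.XP_spec a (AlgHom.id k R) ht
    exact this
  rw [h0, ex]
  refine E.ext_lift (hh t) fun R' _ _ f g hg => ?_
  rw [E.comm_spec _ _ f g (pmap f x) hg (by rw [E.nat, hx]), map_mul, map_inv, E.ad_spec _ _ f g hg]

lemma XP_add (a b : R) : E.XP (a + b) = E.XP a * E.XP b := by
  refine ext_gold fun R' _ _ f t ht => ?_
  rw [map_mul, XP_map, XP_map, XP_map, map_add]
  refine E.ext_lift₂ (xp (((t⁻¹ : R'ˣ) : R') * f a)) (xp (((t⁻¹ : R'ˣ) : R') * f b)) fun R'' _ _ f' x y hx hy => ?_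
  have ht' : IsGold (Units.map (f' : R' →* R'') t) := by
    change (f' (t : R')) ^ 2 = f' (t : R') + 1
    rw [← map_pow, ht, map_add, map_one]
  set t' := Units.map (f' : R' →* R'') t with ht'_def
  have ht'' : f' ((t⁻¹ : R'ˣ) : R') = ((t'⁻¹ : R''ˣ) : R'') := rfl
  rw [sm_xp, map_mul, ht''] at hx hy
  rw [map_mul, XP_map, XP_map, XP_map, map_add, E.XP_of_lift ht' hx, E.XP_of_lift ht' hy,
    E.XP_of_lift ht' (x := x * y) (by rw [map_mul, hx, hy, ← xp_add, mul_add]), map_mul]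
  have hz : E.π (E.ad (hh t') y * y⁻¹) = xp (f' (f b)) := by
    rw [← E.XP_of_lift ht' hy, π_XP]
  have h1 := E.comm_of_xp hx hz
  calc E.ad (hh t') x * E.ad (hh t') y * (x * y)⁻¹ = E.ad (hh t') x * ((E.ad (hh t') y * y⁻¹) * x⁻¹) := by group
    _ = E.ad (hh t') x * (x⁻¹ * (x * (E.ad (hh t') y * y⁻¹)) * x⁻¹) := by group
    _ = E.ad (hh t') x * (x⁻¹ * ((E.ad (hh t') y * y⁻¹) * x) * x⁻¹) := by rw [h1]
    _ = _ := by group

lemma XP_zero : E.XP (0 : R) = 1 := by
  have := E.XP_add (0 : R) 0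
  rw [add_zero] at this
  exact left_eq_mul.1 this

lemma XP_neg (a : R) : E.XP (-a) = (E.XP a)⁻¹ := by
  rw [eq_inv_iff_mul_eq_one, ← XP_add, neg_add_cancel, XP_zero]

/-- the canonical lift of the lower unipotents -/
noncomputable def XM (a : R) : Pt k A R := E.ad w⁻¹ (E.XP (-a))

lemma XM_map (f : R →ₐ[k] R') (a : R) : pmap f (E.XM a) = E.XM (f a) := by
  rw [XM, XM, ad_map, XP_map, map_neg, map_inv, sm_w]

lemma ad_w_XM (a : R) : E.ad w (E.XM a) = E.XP (-a) := by rw [XM, ad_apply_inv]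

lemma π_XM (a : R) : E.π (E.XM a) = xm a := by
  rw [XM, π_ad, π_XP, ← w_conj_xm]
  group

lemma XM_add (a b : R) : E.XM (a + b) = E.XM a * E.XM b := by
  rw [XM, XM, XM, neg_add, XP_add, map_mul]

lemma XM_zero : E.XM (0 : R) = 1 := by rw [XM, neg_zero, XP_zero, map_one]

lemma XM_neg (a : R) : E.XM (-a) = (E.XM a)⁻¹ := by
  rw [eq_inv_iff_mul_eq_one, ← XM_add, neg_add_cancel, XM_zero]

lemma ad_XM (s : Rˣ) (a : R) : E.ad (hh s) (E.XM a) = E.XM (((s⁻¹ : Rˣ) : R) ^ 2 * a) := by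
  have h1 : hh s * w⁻¹ = (w : SL R)⁻¹ * hh s⁻¹ := by
    rw [← w_conj_hh]
    group
  rw [XM, ← ad_mul, h1, ad_mul, ad_XP, XM]
  congr 2
  ring

lemma ad_w_XP (a : R) : E.ad w (E.XP a) = E.XM (-a) := by
  have h1 : E.XP a = E.ad w (E.XM (-a)) := by rw [ad_w_XM, neg_neg]
  rw [h1, ← ad_mul, w_mul_w, ad_XM]
  congr 1
  simp

end CExt

end K20.CEx
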