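import Groth.Agent.SGA3x.K17.CartPre
import Groth.Agent.SGA3x.K18.BorelFld
import Groth.Agent.Sga3.H784.Conj
import Groth.Agent.Sga3.H831.CartBc
import Groth.Agent.AlgGrp.K405.ConnOrbit
import Groth.Agent.Sga3C.GrpIrr
import Groth.Agent.S3027
import Groth.Agent.S3938
import Groth.Agent.S3919
import Groth.Agent.S4118
import Groth.Agent.S4121

/-!
# Density of the Cartan subgroups over an algebraically closed field

Every nonempty open subset of a smooth connected algebraic group (not necessarily affine) over an algebraically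
closed field meets a Cartan subgroup.
-/

set_option autoImplicit false
universe u
open CategoryTheory MonoidalCategory CartesianMonoidalCategory MonObj GrpObj AlgebraicGeometry Limits

namespace K20.CartDense

open Groth.Agent Groth.Agent.Sga3.H784.Conj

variable {K : Type u} [Field K]

/-- A conjugate of a Cartan subgroup is a Cartan subgroup. -/
theorem isCartanOver_conj [IsAlgClosed K] {C G : Over (Spec (CommRingCat.of K))} [GrpObj C] [GrpObj G] (c : C ⟶ G)
    (h : SGA3x.IsCartanOver K c) (g : 𝟙_ (Over (Spec (CommRingCat.of K))) ⟶ G) :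
    SGA3x.IsCartanOver K (c ≫ (conjIso g).hom) := by
  have hi : IsMonHom (Iso.refl C).hom := inferInstanceAs (IsMonHom (𝟙 C))
  exact Sga3.H831.CartBc.isCartanOver_of_iso (Iso.refl C) (conjIso g) (Category.id_comp _) h

lemma irreducibleSpace (G : Over (Spec (CommRingCat.of K))) [GrpObj G] [LocallyOfFiniteType G.hom]
    [ConnectedSpace G.left] : IrreducibleSpace G.left := by
  have h1 : GrpObj (Over.mk G.hom) := inferInstanceAs (GrpObj G)
  have hG : GeometricallyIrreducible G.hom :=
    Sga3C.GrpIrr.geometricallyIrreducible_of_connectedSpace G.hom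
  exact GeometricallyIrreducible.irreducibleSpace_of_subsingleton G.hom

variable [IsAlgClosed K]

/-- In a smooth connected affine group the Cartan subgroups are dense. -/
theorem dense_affine (G : Over (Spec (CommRingCat.of K))) [GrpObj G] [IsAffine G.left] [Smooth G.hom]
    [ConnectedSpace G.left] (U : Set G.left) (hUo : IsOpen U) (hU : U.Nonempty) :
    ∃ (C : Over (Spec (CommRingCat.of K))) (_ : GrpObj C) (c : C ⟶ G), SGA3x.IsCartanOver K c ∧
      (Set.range c.left ∩ U).Nonempty := by
  have hqc : QuasiCompact G.hom := inferInstance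
  have hsep : IsSeparated G.hom := Groth.Agent.Localalg.GrpSchComp2.isSeparated_hom G
  have hirr := irreducibleSpace G
  obtain ⟨T, _, i, hi⟩ := S4121.result K G
  obtain ⟨C, _, c, hc, -, -⟩ := S4118.result _ G T i hi
  have him := hi.1
  have himo := hi.2.1
  have hi' := (S3919.result K G T i hi.2.2.1).2 hi
  obtain ⟨V, hV, hVc⟩ := S3938.result K G T i hi' C c hc
  have hVo : IsOpen (V : Set G.left) := V.isOpen
  have hne : ((V : Set G.left) ∩ U).Nonempty := nonempty_preirreducible_inter hVo hUo hV hU
  obtain ⟨x, ⟨hxV, hxU⟩, -⟩ := K405.ConnOrbit.exists_point G _ hne (hVo.inter hUo).isLocallyClosed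
  obtain ⟨g, y, hg⟩ := hVc x hxV
  refine ⟨C, inferInstance, c ≫ (conjIso g).hom, isCartanOver_conj c ⟨hc.1, hc.2.1, T, inferInstance, i, hi, hc⟩ g,
    x.left (IsLocalRing.closedPoint K), ⟨y.left (IsLocalRing.closedPoint K), ?_⟩, hxU⟩
  have h1 : y ≫ c ≫ (conjIso g).hom = x := by
    rw [← Category.assoc, comp_conjIso_hom, ← hg]
    congr 1
  rw [← h1]
  rfl

/-- **In a smooth connected algebraic group over an algebraically closed field the Cartan subgroups are dense.** -/
theorem dense (G : Over (Spec (CommRingCat.of K))) [GrpObj G] [Smooth G.hom] [QuasiCompact G.hom]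
    [ConnectedSpace G.left] (U : Set G.left) (hUo : IsOpen U) (hU : U.Nonempty) :
    ∃ (C : Over (Spec (CommRingCat.of K))) (_ : GrpObj C) (c : C ⟶ G), SGA3x.IsCartanOver K c ∧
      (Set.range c.left ∩ U).Nonempty := by
  obtain ⟨Z, _, i, hi, hcl, hcen, Q, _, q, hq, haff, hlft, hfl, hsurj, hker⟩ := S3027.result K G
  have hQs : Smooth Q.hom := K18.BorelFld.smooth_of_flat_surjective q
  have hQc : ConnectedSpace Q.left := hsurj.surj.connectedSpace q.left.continuous
  have hQq : QuasiCompact Q.hom := inferInstance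
  have hcentral : ∀ (X : Over (Spec (CommRingCat.of K))) (z g : X ⟶ G), z ≫ q = 1 → z * g = g * z := by
    intro X z g hz
    have h1 : z ≫ q = toUnit X ≫ η[Q] := hz.trans rfl
    have h2 := (hcen X z).1 ⟨IsPullback.lift hker z (toUnit X) h1, IsPullback.lift_fst _ _ _ _⟩
    have h3 := h2 X (𝟙 X) g
    rwa [Category.id_comp] at h3
  have hlfp := Sga3.H799.FibCrit.lfp_left q
  have hopen : IsOpen (q.left '' U) := q.left.isOpenMap U hUo
  obtain ⟨C', _, c', hc', _, ⟨y', rfl⟩, y, hyU, hy⟩ := dense_affine Q (q.left '' U) hopen (hU.image _)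
  obtain ⟨grp, hC, -, -⟩ := K17.CartPre.exists_cartan q hcentral c' hc'
  refine ⟨pullback c' q, grp, pullback.snd c' q, hC, y, ?_, hyU⟩
  obtain ⟨z, hz1, hz2⟩ := Scheme.Pullback.exists_preimage_pullback (f := c'.left) (g := q.left) y' y hy.symm
  have sq : IsPullback (pullback.fst c' q).left (pullback.snd c' q).left c'.left q.left :=
    (IsPullback.of_hasPullback c' q).map (Over.forget _)
  refine ⟨(sq.isoPullback).inv z, ?_⟩
  rw [← hz2, ← Scheme.Hom.comp_apply, IsPullback.isoPullback_inv_snd]

end K20.CartDense
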