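import Groth.Agent.SGA3x.K19.LocSplit

/-!
# Comparison of diagonalisable charts

`Rel c c' U α` : over `U` the characters of the chart `c'` are those of `c` composed with `α`.
-/

set_option autoImplicit false
universe u
open CategoryTheory MonoidalCategory CartesianMonoidalCategory MonObj GrpObj AlgebraicGeometry Limits

namespace K20.ChartRel

open Groth.Agent Groth.Agent.Sga3 Groth.Agent.Sga3B Groth.Agent.Sga3B.DSPts
open Groth.Agent.Sga3.H828.DiagChart Groth.Agent.Sga3.H828.DiagChart.Chart Groth.Agent.Sga3.H827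
open K19.Ad K19.LocSplit

variable {S : Scheme.{u}} {T : Over S} [GrpObj T] {M : Type} [AddCommGroup M] {B B' B'' : Over S}

/-- over `U` the characters of `c'` are those of `c` composed with `α` -/
def Rel (c : Chart T B M) (c' : Chart T B' M) (U : S.Opens) (α : M →+ M) : Prop :=
  ∀ (X : Over S) (_ : Set.range X.hom ⊆ (U : Set S)) (t : X ⟶ B) (t' : X ⟶ B') (x : X ⟶ T),
    c'.chr t' x = (c.chr t x).comp (AddMonoidHom.toMultiplicative α)

lemma exists_hom_of_range {X : Over S} {V : Scheme.{u}} (v : V ⟶ S) [IsOpenImmersion v]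
    (h : Set.range X.hom ⊆ Set.range v) : Nonempty (X ⟶ Over.mk v) := by
  obtain ⟨t, ht⟩ := exists_lift_of_range v X.hom h
  exact ⟨Over.homMk t ht⟩

lemma hom_ext_open {X : Over S} {V : Scheme.{u}} (v : V ⟶ S) [Mono v] (a b : X ⟶ Over.mk v) : a = b := by
  ext1
  rw [← cancel_mono v]
  exact (Over.w a).trans (Over.w b).symm

/-- Local constancy of the comparison of two charts over the same open. -/
theorem exists_rel_same [Module.Finite ℤ M] {V : Scheme.{u}} (v : V ⟶ S) [IsOpenImmersion v]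
    (c c' : Chart T (Over.mk v) M) (p : V) :
    ∃ U : S.Opens, v p ∈ U ∧ (U : Set S) ⊆ Set.range v ∧ ∃ α : M →+ M, Rel c c' U α := by
  let g : Red.DS V M ⟶ Red.DS V M := dsEquiv _ M (c'.chr (taut v (Red.DS V M))
    ((c.chr (taut v (Red.DS V M))).symm (KerChart.ch v (𝟙 (Red.DS V M)))) : Multiplicative M →* Γ((Red.DS V M).left, ⊤))
  have hg : ∀ {Y : Over V} (y : Y ⟶ Red.DS V M), y ≫ g = dsEquiv Y M (c'.chr (taut v Y)
      ((c.chr (taut v Y)).symm (KerChart.ch v y)) : Multiplicative M →* Γ(Y.left, ⊤)) := by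
    intro Y y
    have h1 : taut v Y = (Over.map v).map y ≫ taut v (Red.DS V M) := by
      ext1
      exact (Over.w y).symm
    have h2 := dsChar_comp y (𝟙 (Red.DS V M))
    rw [Category.comp_id] at h2
    apply (dsEquiv Y M).symm.injective
    rw [MulEquiv.symm_apply_apply]
    change dsChar _ = _
    rw [dsChar_comp, dsChar_dsEquiv]
    have h3 : (c.chr (taut v Y)).symm (KerChart.ch v y) =
        (Over.map v).map y ≫ (c.chr (taut v (Red.DS V M))).symm (KerChart.ch v (𝟙 (Red.DS V M))) := by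
      rw [chr_symm_comp, ← h1]
      congr 1
    rw [h3, h1]
    exact (c'.chr_comp ((Over.map v).map y) _ _).symm
  have hm : IsMonHom g := Pts.isMonHom_of_points _ fun Y y y' => by
    have h1 : KerChart.ch v (y * y') = KerChart.ch v y * KerChart.ch v y' := dsChar_mul y y'
    rw [hg, hg, hg, h1, map_mul, map_mul]
    exact map_mul (dsEquiv Y M) _ _
  obtain ⟨U', hp, α, hα⟩ := BorLoc613.exists_near g p
  refine ⟨v ''ᵁ U', ⟨p, hp, rfl⟩, ?_, α, fun X hX t t' x => ?_⟩
  · rintro _ ⟨y, -, rfl⟩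
    exact ⟨y, rfl⟩
  · obtain rfl := hom_ext_open v t t'
    let Y : Over V := Over.mk t.left
    have hw : t.left ≫ v = X.hom := Over.w t
    let i : (Over.map v).obj Y ≅ X := Over.isoMk (Iso.refl _) (by
      change 𝟙 _ ≫ X.hom = t.left ≫ v
      rw [Category.id_comp, hw])
    have hi : i.hom.left = 𝟙 _ := rfl
    have hY : Set.range Y.hom ⊆ (U' : Set V) := by
      rintro _ ⟨y, rfl⟩
      have h1 : X.hom y ∈ v ''ᵁ U' := hX ⟨y, rfl⟩
      obtain ⟨z, hz, hzy⟩ := h1
      have h2 : v (t.left y) = X.hom y := by rw [← hw, Scheme.Hom.comp_apply]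
      have h3 : t.left y = z := v.isOpenEmbedding.injective (h2.trans hzy.symm)
      change t.left y ∈ U'
      rw [h3]; exact hz
    let x' : (Over.map v).obj Y ⟶ T := i.hom ≫ x
    have key : c'.chr (taut v Y) x' = (c.chr (taut v Y) x').comp (AddMonoidHom.toMultiplicative α) := by
      let y : Y ⟶ Red.DS V M := dsEquiv Y M (c.chr (taut v Y) x' : Multiplicative M →* Γ(Y.left, ⊤))
      have h1 : KerChart.ch v y = c.chr (taut v Y) x' := dsChar_dsEquiv _
      have h2 := hα Y y hY
      rw [hg, h1, MulEquiv.symm_apply_apply, dsEquiv_DSmap] at h2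
      exact (dsEquiv Y M).injective h2
    have h3 : taut v Y = i.hom ≫ t := by
      ext1
      rw [Over.comp_left, hi, Category.id_comp]
      rfl
    have h4 : c'.chr (i.hom ≫ t) (i.hom ≫ x) = (c.chr (i.hom ≫ t) (i.hom ≫ x)).comp (AddMonoidHom.toMultiplicative α) := by
      rw [← h3]
      exact key
    rw [c'.chr_comp, c.chr_comp] at h4
    have h5 : i.hom.left.appTop = 𝟙 _ := by
      rw [hi]
      exact Scheme.Hom.id_appTop
    rw [h5] at h4
    exact h4

/-- Local constancy of the comparison of two charts. -/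
theorem exists_rel [Module.Finite ℤ M] {V V' : Scheme.{u}} (v : V ⟶ S) [IsOpenImmersion v] (v' : V' ⟶ S)
    [IsOpenImmersion v'] (c : Chart T (Over.mk v) M) (c' : Chart T (Over.mk v') M) {s : S}
    (hs : s ∈ Set.range v) (hs' : s ∈ Set.range v') :
    ∃ U : S.Opens, s ∈ U ∧ (U : Set S) ⊆ Set.range v ∩ Set.range v' ∧ ∃ α : M →+ M, Rel c c' U α := by
  let W : S.Opens := v.opensRange ⊓ v'.opensRange
  have hW : (W : Set S) = Set.range v ∩ Set.range v' := rfl
  obtain ⟨b⟩ := exists_hom_of_range (X := Over.mk W.ι) v (by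
    change Set.range W.ι ⊆ _
    rw [Scheme.Opens.range_ι, hW]; exact Set.inter_subset_left)
  obtain ⟨b'⟩ := exists_hom_of_range (X := Over.mk W.ι) v' (by
    change Set.range W.ι ⊆ _
    rw [Scheme.Opens.range_ι, hW]; exact Set.inter_subset_right)
  obtain ⟨U, h1, h2, α, hα⟩ := exists_rel_same W.ι (c.restrict b) (c'.restrict b') ⟨s, hs, hs'⟩
  rw [Scheme.Opens.range_ι] at h2
  refine ⟨U, h1, h2, α, fun X hX t t' x => ?_⟩
  obtain ⟨k⟩ := exists_hom_of_range (X := X) W.ι (by rw [Scheme.Opens.range_ι]; exact hX.trans h2)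
  have h3 := hα X hX k k x
  rw [hom_ext_open v t (k ≫ b), hom_ext_open v' t' (k ≫ b')]
  exact h3

/-- The comparison is determined by its value at a point. -/
theorem Rel.unique {V V' : Scheme.{u}} {v : V ⟶ S} [IsOpenImmersion v] {v' : V' ⟶ S}
    [IsOpenImmersion v'] {c : Chart T (Over.mk v) M} {c' : Chart T (Over.mk v') M} {U U' : S.Opens} {α α' : M →+ M}
    (h : Rel c c' U α) (h' : Rel c c' U' α') {s : S}
    (hs : s ∈ Set.range v) (hs' : s ∈ Set.range v') (hU : s ∈ U) (hU' : s ∈ U') : α = α' := by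
  obtain ⟨X, χ, hχ, hX, -⟩ := exists_test s M
  obtain ⟨t⟩ := exists_hom_of_range (X := X) v (hX.trans (Set.singleton_subset_iff.2 hs))
  obtain ⟨t'⟩ := exists_hom_of_range (X := X) v' (hX.trans (Set.singleton_subset_iff.2 hs'))
  have h1 := h X (hX.trans (Set.singleton_subset_iff.2 hU)) t t' ((c.chr t).symm χ)
  rw [h' X (hX.trans (Set.singleton_subset_iff.2 hU')) t t' ((c.chr t).symm χ), MulEquiv.apply_symm_apply] at h1
  ext m
  have h2 := congr($h1 (Multiplicative.ofAdd m))
  exact (Multiplicative.ofAdd.injective (hχ h2)).symm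

lemma Rel.mono {c : Chart T B M} {c' : Chart T B' M} {U U' : S.Opens} {α : M →+ M} (h : Rel c c' U α)
    (hU : U' ≤ U) : Rel c c' U' α := fun X hX t t' x => h X (hX.trans hU) t t' x

lemma rel_refl {V : Scheme.{u}} (v : V ⟶ S) [Mono v] (c : Chart T (Over.mk v) M) (U : S.Opens) :
    Rel c c U (AddMonoidHom.id M) := by
  intro X _ t t' x
  obtain rfl := hom_ext_open v t t'
  rfl

/-- composition of comparisons -/
lemma Rel.trans {V' : Scheme.{u}} {v' : V' ⟶ S} [IsOpenImmersion v'] {c : Chart T B M} {c' : Chart T (Over.mk v') M}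
    {c'' : Chart T B'' M} {U : S.Opens} {α β : M →+ M} (h : Rel c c' U α) (h' : Rel c' c'' U β)
    (hU : (U : Set S) ⊆ Set.range v') : Rel c c'' U (α.comp β) := by
  intro X hX t t' x
  obtain ⟨k⟩ := exists_hom_of_range (X := X) v' (hX.trans hU)
  rw [h' X hX k t' x, h X hX t k x]
  rfl

/-- the structure map of the restriction of `X` to an open of the base -/
abbrev res (X : Over S) (U : S.Opens) : Over S := Over.mk ((X.hom ⁻¹ᵁ U).ι ≫ X.hom)

/-- the inclusion -/
abbrev inc (X : Over S) (U : S.Opens) : res X U ⟶ X := Over.homMk (X.hom ⁻¹ᵁ U).ι rfl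

lemma range_res (X : Over S) (U : S.Opens) : Set.range (res X U).hom ⊆ (U : Set S) := by
  rintro _ ⟨y, rfl⟩
  change ((X.hom ⁻¹ᵁ U).ι ≫ X.hom) y ∈ U
  rw [Scheme.Hom.comp_apply]
  exact y.2

/-- Equality of morphisms is Zariski local on the source (through opens of the base). -/
lemma ext_of_cover' {X Y : Over S} (a b : X ⟶ Y) (h : ∀ x : X.left, ∃ U : S.Opens, X.hom x ∈ U ∧
    inc X U ≫ a = inc X U ≫ b) : a = b := by
  ext1
  choose U hU hab using h
  let 𝒰 : X.left.OpenCover := X.left.openCoverOfIsOpenCover (fun x : X.left => X.hom ⁻¹ᵁ (U x)) (by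
    rw [TopologicalSpace.IsOpenCover, eq_top_iff]
    intro x _
    simp only [TopologicalSpace.Opens.mem_iSup]
    exact ⟨x, hU _⟩)
  refine 𝒰.hom_ext _ _ fun s => ?_
  exact congr(($(hab s)).left)

/-- Comparisons are local on the base. -/
theorem rel_top {V V' : Scheme.{u}} {v : V ⟶ S} {v' : V' ⟶ S}
    {c : Chart T (Over.mk v) M} {c' : Chart T (Over.mk v') M} {α : M →+ M}
    (h : ∀ s : S, s ∈ Set.range v → s ∈ Set.range v' → ∃ U : S.Opens, s ∈ U ∧ Rel c c' U α) : Rel c c' ⊤ α := by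
  intro X _ t t' x
  apply (dsEquiv X M).injective
  refine ext_of_cover' _ _ fun z => ?_
  have hs : X.hom z ∈ Set.range v := by
    rw [← Over.w t]
    exact ⟨t.left z, (Scheme.Hom.comp_apply _ _ _).symm⟩
  have hs' : X.hom z ∈ Set.range v' := by
    rw [← Over.w t']
    exact ⟨t'.left z, (Scheme.Hom.comp_apply _ _ _).symm⟩
  obtain ⟨U, hU, hr⟩ := h _ hs hs'
  refine ⟨U, hU, ?_⟩
  rw [dsEquiv_naturality, dsEquiv_naturality]
  congr 1
  have h1 := hr (res X U) (range_res X U) (inc X U ≫ t) (inc X U ≫ t') (inc X U ≫ x)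
  rw [c'.chr_comp, c.chr_comp] at h1
  exact h1

/-- twist of a chart by an automorphism of the character group -/
noncomputable def twist (c : Chart T B M) (α β : M →+ M) (h : α.comp β = AddMonoidHom.id M)
    (h' : β.comp α = AddMonoidHom.id M) : Chart T B M where
  chr {X} t := (c.chr t).trans
    { toFun := fun χ => χ.comp (AddMonoidHom.toMultiplicative α)
      invFun := fun χ => χ.comp (AddMonoidHom.toMultiplicative β)
      left_inv := fun χ => by
        refine MonoidHom.ext fun m => ?_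
        exact congrArg (fun z => χ (Multiplicative.ofAdd z)) (DFunLike.congr_fun h m.toAdd)
      right_inv := fun χ => by
        refine MonoidHom.ext fun m => ?_
        exact congrArg (fun z => χ (Multiplicative.ofAdd z)) (DFunLike.congr_fun h' m.toAdd)
      map_mul' := fun χ χ' => rfl }
  chr_comp {X Y} g t x := by
    change (c.chr (g ≫ t) (g ≫ x)).comp _ = _
    rw [c.chr_comp]
    rfl

lemma twist_chr (c : Chart T B M) (α β : M →+ M) (h : α.comp β = AddMonoidHom.id M)
    (h' : β.comp α = AddMonoidHom.id M) {X : Over S} (t : X ⟶ B) (x : X ⟶ T) :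
    (twist c α β h h').chr t x = (c.chr t x).comp (AddMonoidHom.toMultiplicative α) := rfl

section irr

variable [PreirreducibleSpace S] [Module.Finite ℤ M]

/-- Over an irreducible base, two charts differ by a constant. -/
theorem exists_rel_top {V V' : Scheme.{u}} (v : V ⟶ S) [IsOpenImmersion v] (v' : V' ⟶ S)
    [IsOpenImmersion v'] (c : Chart T (Over.mk v) M) (c' : Chart T (Over.mk v') M) [Nonempty V] [Nonempty V'] :
    ∃ α : M →+ M, Rel c c' ⊤ α := by
  have hVV : (v.opensRange ⊓ v'.opensRange : S.Opens).carrier.Nonempty := by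
    refine nonempty_preirreducible_inter v.opensRange.2 v'.opensRange.2 ?_ ?_
    · exact ⟨v (Classical.arbitrary V), _, rfl⟩
    · exact ⟨v' (Classical.arbitrary V'), _, rfl⟩
  obtain ⟨p, hp, hp'⟩ := hVV
  obtain ⟨U, hU, hUs, α, hα⟩ := exists_rel v v' c c' hp hp'
  refine ⟨α, rel_top fun s hs hs' => ?_⟩
  obtain ⟨U₁, hU₁, hUs₁, α₁, hα₁⟩ := exists_rel v v' c c' hs hs'
  obtain ⟨z, hz, hz'⟩ := nonempty_preirreducible_inter U.2 U₁.2 ⟨p, hU⟩ ⟨s, hU₁⟩
  obtain rfl := hα.unique hα₁ (hUs hz).1 (hUs hz).2 hz hz'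
  exact ⟨U₁, hU₁, hα₁⟩

/-- Over an irreducible base, every chart may be adapted to a given one. -/
theorem exists_adapt {V V' : Scheme.{u}} (v : V ⟶ S) [IsOpenImmersion v] (v' : V' ⟶ S)
    [IsOpenImmersion v'] (c : Chart T (Over.mk v) M) (c' : Chart T (Over.mk v') M) [Nonempty V] [Nonempty V'] :
    ∃ c'' : Chart T (Over.mk v') M, Rel c c'' ⊤ (AddMonoidHom.id M) := by
  obtain ⟨α, hα⟩ := exists_rel_top v v' c c'
  obtain ⟨β, hβ⟩ := exists_rel_top v' v c' c
  obtain ⟨p, hp, hp'⟩ : (v.opensRange ⊓ v'.opensRange : S.Opens).carrier.Nonempty := by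
    refine nonempty_preirreducible_inter v.opensRange.2 v'.opensRange.2 ?_ ?_
    · exact ⟨v (Classical.arbitrary V), _, rfl⟩
    · exact ⟨v' (Classical.arbitrary V'), _, rfl⟩
  have h1 : α.comp β = AddMonoidHom.id M := by
    have h2 := (hα.mono (U' := v.opensRange ⊓ v'.opensRange) le_top).trans (hβ.mono le_top)
      (fun z hz => hz.2)
    exact h2.unique (rel_refl v c ⊤) hp hp ⟨hp, hp'⟩ trivial
  have h2 : β.comp α = AddMonoidHom.id M := by
    have h2 := (hβ.mono (U' := v.opensRange ⊓ v'.opensRange) le_top).trans (hα.mono le_top)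
      (fun z hz => hz.1)
    exact h2.unique (rel_refl v' c' ⊤) hp' hp' ⟨hp, hp'⟩ trivial
  refine ⟨twist c' β α h2 h1, fun X hX t t' x => ?_⟩
  rw [twist_chr, hα X hX t t' x]
  refine MonoidHom.ext fun m => ?_
  exact congrArg (fun z => c.chr t x (Multiplicative.ofAdd z)) (DFunLike.congr_fun h1 m.toAdd)

/-- Two charts adapted to a third one agree. -/
theorem rel_of_adapt {V V' V₀ : Scheme.{u}} {v : V ⟶ S} [IsOpenImmersion v] {v' : V' ⟶ S}
    [IsOpenImmersion v'] {v₀ : V₀ ⟶ S} [IsOpenImmersion v₀] {c : Chart T (Over.mk v) M} {c' : Chart T (Over.mk v') M}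
    {c₀ : Chart T (Over.mk v₀) M} [Nonempty V] [Nonempty V'] [Nonempty V₀] (h : Rel c₀ c ⊤ (AddMonoidHom.id M))
    (h' : Rel c₀ c' ⊤ (AddMonoidHom.id M)) : Rel c c' ⊤ (AddMonoidHom.id M) := by
  obtain ⟨α, hα⟩ := exists_rel_top v v' c c'
  obtain ⟨p, hp, hp'⟩ : (v.opensRange ⊓ v'.opensRange : S.Opens).carrier.Nonempty := by
    refine nonempty_preirreducible_inter v.opensRange.2 v'.opensRange.2 ?_ ?_
    · exact ⟨v (Classical.arbitrary V), _, rfl⟩
    · exact ⟨v' (Classical.arbitrary V'), _, rfl⟩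
  obtain ⟨q, hq, hq'⟩ : ((v.opensRange ⊓ v'.opensRange) ⊓ v₀.opensRange : S.Opens).carrier.Nonempty := by
    refine nonempty_preirreducible_inter (v.opensRange ⊓ v'.opensRange).2 v₀.opensRange.2 ⟨p, hp, hp'⟩ ?_
    exact ⟨v₀ (Classical.arbitrary V₀), _, rfl⟩
  have h1 : Rel c c' ((v.opensRange ⊓ v'.opensRange) ⊓ v₀.opensRange) (AddMonoidHom.id M) := by
    intro X hX t t' x
    obtain ⟨k⟩ := exists_hom_of_range (X := X) v₀ (hX.trans fun z hz => hz.2)
    rw [h' X (fun _ _ => trivial) k t' x, h X (fun _ _ => trivial) k t x]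
    rfl
  obtain rfl := hα.unique h1 hq.1 hq.2 trivial ⟨hq, hq'⟩
  exact hα

end irr

end K20.ChartRel
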