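import Groth.Agent.SGA3x.K20.HomSch

/-!
# The scheme of morphisms `Hom_S(X, Y)`: the finite type clause

As `K20.HomSch.exists_homScheme`, with `LocallyOfFiniteType Y.hom → LocallyOfFiniteType M.hom` in addition.
-/

set_option autoImplicit false
set_option backward.isDefEq.respectTransparency false
set_option backward.defeqAttrib.useBackward true
universe u
open CategoryTheory MonoidalCategory CartesianMonoidalCategory Limits AlgebraicGeometry TensorProduct

namespace K20.HomFT

open Groth.Agent.Pi1C Groth.Agent.Pi1C.HomGlue Groth.Agent.Pi1C.WeilAlg Groth.Agent.Pi1C.HomLocal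
  Groth.Agent.Pi1C.HomScheme K20.WeilFP

theorem exists_isRep_ft (R B C : Type u) [CommRing R] [CommRing B] [CommRing C] [Algebra R B]
    [Algebra R C] [Module.Finite R B] [Module.Projective R B] [hC : Algebra.FiniteType R C] :
    ∃ (W : Type u) (_ : CommRing W) (_ : Algebra R W) (ev : C →ₐ[R] W ⊗[R] B),
      IsRep ev ∧ Algebra.FiniteType R W := by
  classical
  obtain ⟨n, b, bs, hb⟩ := exists_dualBasis R B
  obtain ⟨ι, _, f, hf⟩ := Algebra.FiniteType.iff_quotient_mvPolynomial'.1 hC
  obtain ⟨ev', hev'⟩ := isRep_quot b bs (evP (R := R) ι b bs) (RingHom.ker f : Set (MvPolynomial ι R)) hb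
    (isRep_evP ι b bs hb)
  have hF' : Ideal.span (RingHom.ker f : Set (MvPolynomial ι R)) = RingHom.ker f := Ideal.span_eq _
  let e : C ≃ₐ[R] (MvPolynomial ι R ⧸ Ideal.span (RingHom.ker f : Set (MvPolynomial ι R))) :=
    ((Ideal.quotientEquivAlgOfEq R hF').trans (Ideal.quotientKerAlgEquivOfSurjective hf)).symm
  refine ⟨_, inferInstance, inferInstance, ev'.comp (e : C →ₐ[R] _), ?_, ?_⟩
  · intro T _ _
    have h1 := hev' T
    constructor
    · intro h h' hh
      apply h1.1
      apply AlgHom.ext
      intro x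
      obtain ⟨c, rfl⟩ := e.surjective x
      exact DFunLike.congr_fun hh c
    · intro g
      obtain ⟨h, hh⟩ := h1.2 (g.comp (e.symm : _ →ₐ[R] C))
      refine ⟨h, ?_⟩
      apply AlgHom.ext
      intro c
      have := DFunLike.congr_fun hh (e c)
      refine this.trans ?_
      simp
  · have h1 : Algebra.FinitePresentation R (PAlg (R := R) ι b bs) :=
      Algebra.FinitePresentation.quotient (Submodule.fg_span (Set.finite_range _))
    have h2 : Algebra.FiniteType R (PAlg (R := R) ι b bs) := inferInstance
    infer_instance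

variable {X : Scheme.{u}}

theorem projective_of_isPullback (U : Over X) [IsFinite U.hom] [Flat U.hom] [LocallyOfFinitePresentation U.hom]
    (i : X.affineOpens) {B : Type u} [CommRing B] [Algebra Γ(X, i.1) B] {bU : Spec (CommRingCat.of B) ⟶ U.left}
    (hU : IsPullback bU (spm Γ(X, i.1) B) U.hom (sp i)) : Module.Projective Γ(X, i.1) B := by
  have := finite_of_isPullback (sp i) U.hom hU
  have h1 : Flat (spm Γ(X, i.1) B) := MorphismProperty.of_isPullback (P := @Flat) hU inferInstance
  have h2 : LocallyOfFinitePresentation (spm Γ(X, i.1) B) :=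
    MorphismProperty.of_isPullback (P := @LocallyOfFinitePresentation) hU inferInstance
  rw [HasRingHomProperty.Spec_iff (P := @Flat)] at h1
  rw [HasRingHomProperty.Spec_iff (P := @LocallyOfFinitePresentation)] at h2
  have h3 : Module.Flat Γ(X, i.1) B := RingHom.flat_algebraMap_iff.1 h1
  have h4 : Algebra.FinitePresentation Γ(X, i.1) B := RingHom.finitePresentation_algebraMap.1 h2
  have h5 : Module.FinitePresentation Γ(X, i.1) B :=
    Module.FinitePresentation.of_finite_of_finitePresentation _ _
  exact Module.Flat.projective_of_finitePresentation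

theorem exists_localRep (U V : Over X) [IsFinite U.hom] [Flat U.hom] [LocallyOfFinitePresentation U.hom]
    [IsAffineHom V.hom] (i : X.affineOpens) :
    ∃ D : LocalRep U V i, (LocallyOfFinitePresentation V.hom → LocallyOfFinitePresentation D.w.left) ∧
      (LocallyOfFiniteType V.hom → LocallyOfFiniteType D.w.left) := by
  by_cases hVf : LocallyOfFinitePresentation V.hom
  · obtain ⟨D, hD⟩ := HomSch.exists_localRep U V i
    have := hD hVf
    exact ⟨D, hD, fun _ => inferInstance⟩
  by_cases hVt : LocallyOfFiniteType V.hom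
  · obtain ⟨B, _, _, bU, hU⟩ := exists_alg_of_isAffineHom (sp i) U.hom
    obtain ⟨C, _, _, cV, hV⟩ := exists_alg_of_isAffineHom (sp i) V.hom
    have := finite_of_isPullback (sp i) U.hom hU
    have h1 : Module.Projective Γ(X, i.1) B := projective_of_isPullback U i hU
    have hC : Algebra.FiniteType Γ(X, i.1) C := by
      have h2 : LocallyOfFiniteType (spm Γ(X, i.1) C) :=
        MorphismProperty.of_isPullback (P := @LocallyOfFiniteType) hV inferInstance
      rw [HasRingHomProperty.Spec_iff (P := @LocallyOfFiniteType)] at h2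
      exact RingHom.finiteType_algebraMap.1 h2
    obtain ⟨W, _, _, ev, hev, hW⟩ := exists_isRep_ft Γ(X, i.1) B C
    let w0 : XT (sp i) W ⟶ Over.mk (sp i) := Over.homMk (spm Γ(X, i.1) W) rfl
    let D : LocalRep U V i :=
      { W := XT (sp i) W
        w := w0 ≫ (spIso i).hom
        aff := inferInstanceAs (IsAffine (Spec _))
        ev := mkφ (sp i) U V B C bU hU cV hV W ev
        up := fun T hT t => UP_affine (sp i) U V B C bU hU cV hV hev T hT (t ≫ (spIso i).inv) }
    refine ⟨D, fun h => absurd h hVf, fun _ => ?_⟩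
    have h3 : LocallyOfFiniteType (spm Γ(X, i.1) W) := by
      rw [HasRingHomProperty.Spec_iff (P := @LocallyOfFiniteType)]
      exact RingHom.finiteType_algebraMap.2 hW
    have : IsIso (spIso i).hom.left := inferInstance
    change LocallyOfFiniteType (spm Γ(X, i.1) W ≫ (spIso i).hom.left)
    infer_instance
  · obtain ⟨D, -⟩ := HomSch.exists_localRep U V i
    exact ⟨D, fun h => absurd h hVf, fun h => absurd h hVt⟩

/-- Existence of the internal hom object in `Over X`. -/
theorem exists_homObj (U V : Over X) [IsFinite U.hom] [Flat U.hom] [LocallyOfFinitePresentation U.hom]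
    [IsAffineHom V.hom] : ∃ (W : Over X) (ev : (Q U).obj W ⟶ V), IsAffineHom W.hom ∧
      (LocallyOfFinitePresentation V.hom → LocallyOfFinitePresentation W.hom) ∧
      (LocallyOfFiniteType V.hom → LocallyOfFiniteType W.hom) ∧ ∀ T : Over X, UP ev T := by
  choose D hD using exists_localRep U V
  obtain ⟨ev, hev⟩ := exists_ev D
  have hcov : TopologicalSpace.IsOpenCover (fun i : X.affineOpens => i.1) := by
    rw [TopologicalSpace.IsOpenCover, eq_top_iff]
    intro x _
    obtain ⟨i, hi, hxi, -⟩ := exists_isAffineOpen_mem_and_subset (x := x) (U := (⊤ : X.Opens)) trivial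
    exact TopologicalSpace.Opens.mem_iSup.mpr ⟨⟨i, hi⟩, hxi⟩
  let 𝒰 := X.openCoverOfIsOpenCover (fun i : X.affineOpens => i.1) hcov
  refine ⟨glued D, ev, ?_, fun hV => ?_, fun hV => ?_, glued_UP D ev hev⟩
  · rw [IsZariskiLocalAtTarget.iff_of_openCover (P := @IsAffineHom) 𝒰]
    intro i
    have h1 : IsPullback (D i).w.left (inc D i).left (𝒰.f i) (glued D).hom :=
      inc_isPullback D i
    have h2 := h1.flip.isoPullback_hom_snd
    have h3 : IsAffine (D i).W.left := (D i).aff
    have h4 : IsAffine (oObj i).left := i.2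
    have h5 : IsAffineHom (D i).w.left := inferInstance
    have : IsAffineHom (h1.flip.isoPullback.inv ≫ (D i).w.left) := inferInstance
    rwa [h1.flip.isoPullback_inv_snd] at this
  · rw [IsZariskiLocalAtTarget.iff_of_openCover (P := @LocallyOfFinitePresentation) 𝒰]
    intro i
    have h1 : IsPullback (D i).w.left (inc D i).left (𝒰.f i) (glued D).hom :=
      inc_isPullback D i
    have h3 := (hD i).1 hV
    have : LocallyOfFinitePresentation (h1.flip.isoPullback.inv ≫ (D i).w.left) := inferInstance
    rwa [h1.flip.isoPullback_inv_snd] at this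
  · rw [IsZariskiLocalAtTarget.iff_of_openCover (P := @LocallyOfFiniteType) 𝒰]
    intro i
    have h1 : IsPullback (D i).w.left (inc D i).left (𝒰.f i) (glued D).hom :=
      inc_isPullback D i
    have h3 := (hD i).2 hV
    have : LocallyOfFiniteType (h1.flip.isoPullback.inv ≫ (D i).w.left) := inferInstance
    rwa [h1.flip.isoPullback_inv_snd] at this

/-- **The scheme of morphisms** from a finite locally free `U` to an affine `V`. -/
theorem exists_homScheme (U V : Over X) [IsFinite U.hom] [Flat U.hom] [LocallyOfFinitePresentation U.hom]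
    [IsAffineHom V.hom] : ∃ (M : Over X) (ev : U ⊗ M ⟶ V), IsAffineHom M.hom ∧
      (LocallyOfFinitePresentation V.hom → LocallyOfFinitePresentation M.hom) ∧
      (LocallyOfFiniteType V.hom → LocallyOfFiniteType M.hom) ∧
      ∀ (T : Over X) (φ : U ⊗ T ⟶ V), ∃! v : T ⟶ M, (U ◁ v) ≫ ev = φ := by
  obtain ⟨W, ev, h1, h2, h2', h3⟩ := exists_homObj U V
  refine ⟨W, (HomSch.qIso U W).hom ≫ ev, h1, h2, h2', fun T φ => ?_⟩
  obtain ⟨a, ha⟩ := (h3 T).2 ((HomSch.qIso U T).inv ≫ φ)
  refine ⟨a, ?_, fun b hb => ?_⟩
  · dsimp only at ha ⊢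
    rw [← Category.assoc, HomSch.qIso_nat, Category.assoc, ha, Iso.hom_inv_id_assoc]
  · apply (h3 T).1
    dsimp only at ha hb ⊢
    rw [ha, ← cancel_epi (HomSch.qIso U T).hom, ← Category.assoc, ← HomSch.qIso_nat, Category.assoc, hb,
      Iso.hom_inv_id_assoc]

end K20.HomFT
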