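import Groth.Agent.SGA3x.K12.HomDS

/-!
# Points normalizing a diagonalisable subgroup act through automorphisms of the character group, locally
-/

set_option autoImplicit false
universe u
open CategoryTheory MonoidalCategory CartesianMonoidalCategory MonObj GrpObj AlgebraicGeometry Limits

namespace K20.NormLoc

open K12.HomDS K12.ConstPts Groth.Agent.SGA3x.K5.Clopen Groth.Agent.Sga3B

variable {S : Scheme.{u}}

lemma DSmap_comp_DSmap {M N L : Type} [AddCommGroup M] [AddCommGroup N] [AddCommGroup L]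
    (φ : M →+ N) (ψ : L →+ M) : Red.DSmap S φ ≫ Red.DSmap S ψ = Red.DSmap S (φ.comp ψ) := by
  have h : ∀ (T : Over S) (q : T ⟶ Red.DS S N), q ≫ Red.DSmap S φ ≫ Red.DSmap S ψ = q ≫ Red.DSmap S (φ.comp ψ) := by
    intro T q
    apply (DSPts.dsEquiv T L).symm.injective
    change DSPts.dsChar _ = DSPts.dsChar _
    rw [← Category.assoc, DSPts.dsChar_DSmap, DSPts.dsChar_DSmap, DSPts.dsChar_DSmap]
    rfl
  have := h _ (𝟙 _)
  rwa [Category.id_comp, Category.id_comp] at this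

lemma DSmap_id (M : Type) [AddCommGroup M] : Red.DSmap S (AddMonoidHom.id M) = 𝟙 (Red.DS S M) := by
  apply (DSPts.dsEquiv _ M).symm.injective
  change DSPts.dsChar _ = DSPts.dsChar _
  have := DSPts.dsChar_DSmap (S := S) (AddMonoidHom.id M) (𝟙 (Red.DS S M))
  rw [Category.id_comp] at this
  rw [this]
  rfl

variable {G : Over S} [GrpObj G] {M : Type} [AddCommGroup M] (i : Red.DS S M ⟶ G) [IsMonHom i] [Mono i]

theorem exists_local [Module.Finite ℤ M] {T : Over S} (ν : T ⟶ G)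
    (hν : ∀ (X : Over S) (x : X ⟶ T) (h : X ⟶ Red.DS S M),
      (∃ h' : X ⟶ Red.DS S M, (x ≫ ν) * (h ≫ i) * (x ≫ ν)⁻¹ = h' ≫ i) ∧
      (∃ h' : X ⟶ Red.DS S M, (x ≫ ν)⁻¹ * (h ≫ i) * (x ≫ ν) = h' ≫ i)) (t : T.left) :
    ∃ U : T.left.Opens, t ∈ U ∧ ∃ φ : M ≃+ M, ∀ (X : Over S) (h : X ⟶ Red.DS S M) (x : X ⟶ T),
      (∀ y, x.left y ∈ U) →
        (x ≫ ν) * (h ≫ i) * (x ≫ ν)⁻¹ = (h ≫ Red.DSmap S (φ : M →+ M)) ≫ i := by
  obtain ⟨θ₁, h1⟩ := (hν _ (snd (Red.DS S M) T) (fst (Red.DS S M) T)).1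
  obtain ⟨θ₂, h2⟩ := (hν _ (snd (Red.DS S M) T) (fst (Red.DS S M) T)).2
  have h1' : ∀ (X : Over S) (h : X ⟶ Red.DS S M) (x : X ⟶ T),
      (lift h x ≫ θ₁) ≫ i = (x ≫ ν) * (h ≫ i) * (x ≫ ν)⁻¹ := by
    intro X h x
    rw [Category.assoc, ← h1, MonObj.comp_mul, MonObj.comp_mul, GrpObj.comp_inv, lift_snd_assoc, lift_fst_assoc]
  have h2' : ∀ (X : Over S) (h : X ⟶ Red.DS S M) (x : X ⟶ T),
      (lift h x ≫ θ₂) ≫ i = (x ≫ ν)⁻¹ * (h ≫ i) * (x ≫ ν) := by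
    intro X h x
    rw [Category.assoc, ← h2, MonObj.comp_mul, MonObj.comp_mul, GrpObj.comp_inv, lift_snd_assoc, lift_fst_assoc]
  have f1 : AutFam.IsHomFamily (Red.DS S M) (Red.DS S M) θ₁ := by
    intro X a b x
    rw [← cancel_mono i, h1', MonObj.mul_comp, MonObj.mul_comp, h1', h1']
    group
  have f2 : AutFam.IsHomFamily (Red.DS S M) (Red.DS S M) θ₂ := by
    intro X a b x
    rw [← cancel_mono i, h2', MonObj.mul_comp, MonObj.mul_comp, h2', h2']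
    group
  obtain ⟨U₁, ht1, φ₁, hφ₁⟩ := exists_near_fam f1 t
  obtain ⟨U₂, ht2, φ₂, hφ₂⟩ := exists_near_fam f2 t
  let U : T.left.Opens := U₁ ⊓ U₂
  have hU : t ∈ U := ⟨ht1, ht2⟩
  have e1 : ∀ (X : Over S) (h : X ⟶ Red.DS S M) (x : X ⟶ T), lift (lift h x ≫ θ₁) x ≫ θ₂ = h := by
    intro X h x
    rw [← cancel_mono i, h2', h1']
    group
  have e2 : ∀ (X : Over S) (h : X ⟶ Red.DS S M) (x : X ⟶ T), lift (lift h x ≫ θ₂) x ≫ θ₁ = h := by
    intro X h x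
    rw [← cancel_mono i, h1', h2']
    group
  have g1 : φ₁.comp φ₂ = AddMonoidHom.id M := by
    refine eq_of_DSmap _ _ (opn U) ⟨t, hU⟩ ?_
    intro X b q
    have hb1 : ∀ y, (b ≫ opnι U).left y ∈ U₁ := fun y => (b.left y).2.1
    have hb2 : ∀ y, (b ≫ opnι U).left y ∈ U₂ := fun y => (b.left y).2.2
    have h3 := e1 X q (b ≫ opnι U)
    rw [hφ₁ X q (b ≫ opnι U) hb1, hφ₂ X _ (b ≫ opnι U) hb2, Category.assoc, DSmap_comp_DSmap] at h3
    rw [h3, DSmap_id, Category.comp_id]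
  have g2 : φ₂.comp φ₁ = AddMonoidHom.id M := by
    refine eq_of_DSmap _ _ (opn U) ⟨t, hU⟩ ?_
    intro X b q
    have hb1 : ∀ y, (b ≫ opnι U).left y ∈ U₁ := fun y => (b.left y).2.1
    have hb2 : ∀ y, (b ≫ opnι U).left y ∈ U₂ := fun y => (b.left y).2.2
    have h3 := e2 X q (b ≫ opnι U)
    rw [hφ₂ X q (b ≫ opnι U) hb2, hφ₁ X _ (b ≫ opnι U) hb1, Category.assoc, DSmap_comp_DSmap] at h3
    rw [h3, DSmap_id, Category.comp_id]
  refine ⟨U, hU, { φ₁ with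
    invFun := φ₂
    left_inv := fun m => DFunLike.congr_fun g2 m
    right_inv := fun m => DFunLike.congr_fun g1 m }, fun X h x hx => ?_⟩
  rw [← h1' X h x, hφ₁ X h x fun y => (hx y).1]
  rfl

end K20.NormLoc
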