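import Groth.Agent.UnramB.SmoothLoc
import Groth.Agent.Ega4late.H534.FibApp

/-!
# Étale-local sections of smooth morphisms through a rational point of a fibre
-/

set_option autoImplicit false
universe u
open CategoryTheory Limits AlgebraicGeometry

namespace K20.RatSec

/-- Functions on `Spec κ(s)` extend to a neighbourhood of `s`. -/
theorem exists_appLE {T : Scheme.{u}} (t : T) (c : Γ(Spec (T.residueField t), ⊤)) :
    ∃ (W : T.Opens) (hW : t ∈ W) (a : Γ(T, W)),
      (T.fromSpecResidueField t).appLE W ⊤ (Groth.Agent.Ega4late.H534.FibApp.top_le hW) a = c := by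
  obtain ⟨b, hb⟩ := T.residue_surjective t ((Scheme.ΓSpecIso _).hom c)
  obtain ⟨W, hW, a, ha⟩ := T.presheaf.exists_germ_eq b
  refine ⟨W, hW, a, ?_⟩
  rw [Groth.Agent.Ega4late.H534.FibApp.residue_appLE hW a, ha, hb]
  simp

/-- **Sections through a rational point of a fibre, étale-locally with trivial residue field extension.** -/
theorem exists_etale_through {X S : Scheme.{u}} (f : X ⟶ S) [Smooth f] (s : S) (x : Spec (S.residueField s) ⟶ X)
    (hx : x ≫ f = S.fromSpecResidueField s) :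
    ∃ (S' : Scheme.{u}) (e : S' ⟶ S) (σ : Spec (S.residueField s) ⟶ S') (v : S' ⟶ X),
      Etale e ∧ σ ≫ e = S.fromSpecResidueField s ∧ v ≫ f = e ∧ σ ≫ v = x := by
  classical
  have hpt : ∀ z, (S.fromSpecResidueField s) z = s := fun z => Scheme.fromSpecResidueField_apply s z
  let z₀ : Spec (S.residueField s) := default
  obtain ⟨U, V, e, n, g, hxU, hU, hV, hg, hgf⟩ := Groth.Agent.UnramB.SmoothLoc.exists_etale_affineSpace f (x z₀)
  have hsU : ∀ z, x z ∈ U := fun z => by rw [Subsingleton.elim z z₀]; exact hxU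
  have hsV : s ∈ V := by
    have h1 := e hxU
    have h2 : f (x z₀) = s := by
      rw [← Scheme.Hom.comp_apply, hx]
      exact hpt _
    rwa [← h2]
  let xU : Spec (S.residueField s) ⟶ (U : Scheme.{u}) := IsOpenImmersion.lift U.ι x (by
    rw [Scheme.Opens.range_ι]
    rintro _ ⟨z, rfl⟩
    exact hsU z)
  have hxU' : xU ≫ U.ι = x := IsOpenImmersion.lift_fac _ _ _
  have hW := fun i : ULift.{u} (Fin n) => exists_appLE s ((xU ≫ g).appTop (AffineSpace.coord _ i))
  choose W hW a ha using hW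
  let V' : S.Opens := ⟨(V : Set S) ∩ ⋂ i, (W i : Set S), V.2.inter (isOpen_iInter_of_finite fun i => (W i).2)⟩
  have hV'V : V' ≤ V := fun z hz => hz.1
  have hV'W : ∀ i, V' ≤ W i := fun i z hz => Set.mem_iInter.mp hz.2 i
  have hsV' : s ∈ V' := ⟨hsV, Set.mem_iInter.mpr hW⟩
  let j : (V' : Scheme.{u}) ⟶ (V : Scheme.{u}) := S.homOfLE hV'V
  have hle : ∀ i, (⊤ : (V' : Scheme.{u}).Opens) ≤ V'.ι ⁻¹ᵁ (W i) := fun i z _ => hV'W i z.2
  let τ : (V' : Scheme.{u}) ⟶ 𝔸(ULift.{u} (Fin n); (V : Scheme.{u})) :=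
    AffineSpace.homOfVector j fun i => V'.ι.appLE (W i) ⊤ (hle i) (a i)
  let sV' : Spec (S.residueField s) ⟶ (V' : Scheme.{u}) :=
    IsOpenImmersion.lift V'.ι (S.fromSpecResidueField s) (by
      rw [Scheme.Opens.range_ι]
      rintro _ ⟨z, rfl⟩
      rw [hpt]
      exact hsV')
  have hs' : sV' ≫ V'.ι = S.fromSpecResidueField s := IsOpenImmersion.lift_fac _ _ _
  have hj : j ≫ V.ι = V'.ι := S.homOfLE_ι hV'V
  have hτ : τ ≫ (𝔸(ULift.{u} (Fin n); (V : Scheme.{u})) ↘ (V : Scheme.{u})) = j :=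
    AffineSpace.homOfVector_over _ _
  have key : xU ≫ g = sV' ≫ τ := by
    refine AffineSpace.hom_ext ?_ fun i => ?_
    · rw [Category.assoc, Category.assoc, hgf, hτ, ← cancel_mono V.ι, Category.assoc, Category.assoc, hj, hs',
        Scheme.Hom.resLE_comp_ι, ← Category.assoc, hxU', hx]
    · rw [← ha i]
      rw [Scheme.Hom.comp_appTop, CommRingCat.comp_apply, AffineSpace.homOfVector_appTop_coord]
      have h1 : (sV' ≫ V'.ι).appLE (W i) ⊤ (by
          rw [hs']
          exact Groth.Agent.Ega4late.H534.FibApp.top_le (hW i)) =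
          V'.ι.appLE (W i) ⊤ (hle i) ≫ sV'.appTop := by
        rw [← Scheme.Hom.appLE_comp_appLE sV' V'.ι (W i) ⊤ ⊤ (hle i) le_top]
        rfl
      have h2 := congrArg (fun z => z.hom (a i)) h1
      simp only [hs'] at h2
      exact h2
  let S' : Scheme.{u} := pullback g τ
  refine ⟨S', pullback.snd g τ ≫ V'.ι, pullback.lift xU sV' key, pullback.fst g τ ≫ U.ι, inferInstance, ?_, ?_, ?_⟩
  · rw [← Category.assoc, pullback.lift_snd, hs']
  · rw [Category.assoc, ← Scheme.Hom.resLE_comp_ι f e, ← hgf, Category.assoc, ← Category.assoc, pullback.condition,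
      Category.assoc, ← Category.assoc τ, hτ, hj]
  · rw [← Category.assoc, pullback.lift_fst, hxU']

end K20.RatSec
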