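import Mathlib.LinearAlgebra.Matrix.SpecialLinearGroup
import Mathlib.Tactic.Ring
import Mathlib.Tactic.FinCases
import Mathlib.Tactic.LinearCombination

/-!
# Elementary matrices in `SL_2`
-/

set_option autoImplicit false
universe u v

namespace K20.SL2El

open Matrix

variable {R : Type u} [CommRing R] {R' : Type v} [CommRing R']

/-- `SL_2(R)` -/
abbrev SL (R : Type u) [CommRing R] := Matrix.SpecialLinearGroup (Fin 2) R

/-- upper unipotent -/
def xp (a : R) : SL R := ⟨!![1, a; 0, 1], by simp [Matrix.det_fin_two]⟩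
/-- lower unipotent -/
def xm (a : R) : SL R := ⟨!![1, 0; a, 1], by simp [Matrix.det_fin_two]⟩
/-- diagonal -/
def hh (t : Rˣ) : SL R := ⟨!![(t : R), 0; 0, ((t⁻¹ : Rˣ) : R)], by simp [Matrix.det_fin_two]⟩
/-- Weyl element -/
def w : SL R := ⟨!![0, 1; -1, 0], by simp [Matrix.det_fin_two]⟩

/-- functoriality -/
def smap (f : R →+* R') : SL R →* SL R' := Matrix.SpecialLinearGroup.map f

lemma smap_apply (f : R →+* R') (m : SL R) (i j : Fin 2) : (smap f m) i j = f (m i j) := rfl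

lemma sl_ext {m m' : SL R} (h₁ : m 0 0 = m' 0 0) (h₂ : m 0 1 = m' 0 1) (h₃ : m 1 0 = m' 1 0)
    (h₄ : m 1 1 = m' 1 1) : m = m' := by
  ext i j
  fin_cases i <;> fin_cases j <;> assumption

lemma mul00 (m m' : SL R) : (m * m') 0 0 = m 0 0 * m' 0 0 + m 0 1 * m' 1 0 := by
  change (m.1 * m'.1) 0 0 = _
  rw [Matrix.mul_apply, Fin.sum_univ_two]
lemma mul01 (m m' : SL R) : (m * m') 0 1 = m 0 0 * m' 0 1 + m 0 1 * m' 1 1 := by
  change (m.1 * m'.1) 0 1 = _
  rw [Matrix.mul_apply, Fin.sum_univ_two]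
lemma mul10 (m m' : SL R) : (m * m') 1 0 = m 1 0 * m' 0 0 + m 1 1 * m' 1 0 := by
  change (m.1 * m'.1) 1 0 = _
  rw [Matrix.mul_apply, Fin.sum_univ_two]
lemma mul11 (m m' : SL R) : (m * m') 1 1 = m 1 0 * m' 0 1 + m 1 1 * m' 1 1 := by
  change (m.1 * m'.1) 1 1 = _
  rw [Matrix.mul_apply, Fin.sum_univ_two]

lemma det_eq (m : SL R) : m 0 0 * m 1 1 - m 0 1 * m 1 0 = 1 := by
  have := m.2
  rwa [Matrix.det_fin_two] at this

@[simp] lemma xp00 (a : R) : (xp a) 0 0 = 1 := rfl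
@[simp] lemma xp01 (a : R) : (xp a) 0 1 = a := rfl
@[simp] lemma xp10 (a : R) : (xp a) 1 0 = 0 := rfl
@[simp] lemma xp11 (a : R) : (xp a) 1 1 = 1 := rfl
@[simp] lemma xm00 (a : R) : (xm a) 0 0 = 1 := rfl
@[simp] lemma xm01 (a : R) : (xm a) 0 1 = 0 := rfl
@[simp] lemma xm10 (a : R) : (xm a) 1 0 = a := rfl
@[simp] lemma xm11 (a : R) : (xm a) 1 1 = 1 := rfl
@[simp] lemma hh00 (t : Rˣ) : (hh t) 0 0 = (t : R) := rfl
@[simp] lemma hh01 (t : Rˣ) : (hh t) 0 1 = 0 := rfl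
@[simp] lemma hh10 (t : Rˣ) : (hh t) 1 0 = 0 := rfl
@[simp] lemma hh11 (t : Rˣ) : (hh t) 1 1 = ((t⁻¹ : Rˣ) : R) := rfl
@[simp] lemma w00 : (w : SL R) 0 0 = 0 := rfl
@[simp] lemma w01 : (w : SL R) 0 1 = 1 := rfl
@[simp] lemma w10 : (w : SL R) 1 0 = -1 := rfl
@[simp] lemma w11 : (w : SL R) 1 1 = 0 := rfl
@[simp] lemma one00 : (1 : SL R) 0 0 = 1 := rfl
@[simp] lemma one01 : (1 : SL R) 0 1 = 0 := rfl
@[simp] lemma one10 : (1 : SL R) 1 0 = 0 := rfl
@[simp] lemma one11 : (1 : SL R) 1 1 = 1 := rfl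

lemma smap_xp (f : R →+* R') (a : R) : smap f (xp a) = xp (f a) := by
  apply sl_ext <;> simp [smap_apply]
lemma smap_xm (f : R →+* R') (a : R) : smap f (xm a) = xm (f a) := by
  apply sl_ext <;> simp [smap_apply]
lemma smap_hh (f : R →+* R') (t : Rˣ) : smap f (hh t) = hh (Units.map (f : R →* R') t) := by
  apply sl_ext <;> simp [smap_apply, ← map_inv]
lemma smap_w (f : R →+* R') : smap f w = w := by
  apply sl_ext <;> simp [smap_apply]
lemma smap_comp {R'' : Type*} [CommRing R''] (f : R →+* R') (g : R' →+* R'') (m : SL R) :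
    smap (g.comp f) m = smap g (smap f m) := by
  apply sl_ext <;> simp [smap_apply]
lemma smap_id (m : SL R) : smap (RingHom.id R) m = m := by
  apply sl_ext <;> simp [smap_apply]

lemma xp_add (a b : R) : xp (a + b) = xp a * xp b := by
  apply sl_ext <;> simp only [mul00, mul01, mul10, mul11, xp00, xp01, xp10, xp11] <;> ring
lemma xm_add (a b : R) : xm (a + b) = xm a * xm b := by
  apply sl_ext <;> simp only [mul00, mul01, mul10, mul11, xm00, xm01, xm10, xm11] <;> ring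
lemma xp_zero : xp (0 : R) = 1 := by
  apply sl_ext <;> simp
lemma xm_zero : xm (0 : R) = 1 := by
  apply sl_ext <;> simp
lemma xp_neg (a : R) : xp (-a) = (xp a)⁻¹ := by
  rw [eq_inv_iff_mul_eq_one, ← xp_add, neg_add_cancel, xp_zero]
lemma xm_neg (a : R) : xm (-a) = (xm a)⁻¹ := by
  rw [eq_inv_iff_mul_eq_one, ← xm_add, neg_add_cancel, xm_zero]
lemma hh_one : hh (1 : Rˣ) = 1 := by
  apply sl_ext <;> simp
lemma hh_mul (s t : Rˣ) : hh (s * t) = hh s * hh t := by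
  apply sl_ext <;> simp only [mul00, mul01, mul10, mul11, hh00, hh01, hh10, hh11, Units.val_mul, mul_inv] <;> ring
lemma hh_inv (s : Rˣ) : hh s⁻¹ = (hh s)⁻¹ := by
  rw [eq_inv_iff_mul_eq_one, ← hh_mul, inv_mul_cancel, hh_one]
lemma hh_pow (s : Rˣ) (n : ℕ) : hh (s ^ n) = hh s ^ n := by
  induction n with
  | zero => rw [pow_zero, pow_zero, hh_one]
  | succ n ih => rw [pow_succ, pow_succ, hh_mul, ih]

lemma hh_conj_xp (t : Rˣ) (a : R) : hh t * xp a * (hh t)⁻¹ = xp ((t : R) ^ 2 * a) := by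
  rw [mul_inv_eq_iff_eq_mul]
  have h1 : (t : R) * ((t⁻¹ : Rˣ) : R) = 1 := Units.mul_inv t
  apply sl_ext <;> simp only [mul00, mul01, mul10, mul11, hh00, hh01, hh10, hh11, xp00, xp01, xp10, xp11]
  · ring
  · linear_combination (-(t : R) * a) * h1
  · ring
  · ring
lemma hh_conj_xm (t : Rˣ) (a : R) : hh t * xm a * (hh t)⁻¹ = xm (((t⁻¹ : Rˣ) : R) ^ 2 * a) := by
  rw [mul_inv_eq_iff_eq_mul]
  have h1 : (t : R) * ((t⁻¹ : Rˣ) : R) = 1 := Units.mul_inv t
  apply sl_ext <;> simp only [mul00, mul01, mul10, mul11, hh00, hh01, hh10, hh11, xm00, xm01, xm10, xm11]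
  · ring
  · ring
  · linear_combination (-((t⁻¹ : Rˣ) : R) * a) * h1
  · ring
lemma w_conj_xp (a : R) : w * xp a * w⁻¹ = xm (-a) := by
  rw [mul_inv_eq_iff_eq_mul]
  apply sl_ext <;> simp only [mul00, mul01, mul10, mul11, w00, w01, w10, w11, xp00, xp01, xp10, xp11,
    xm00, xm01, xm10, xm11] <;> ring
lemma w_conj_xm (a : R) : w * xm a * w⁻¹ = xp (-a) := by
  rw [mul_inv_eq_iff_eq_mul]
  apply sl_ext <;> simp only [mul00, mul01, mul10, mul11, w00, w01, w10, w11, xp00, xp01, xp10, xp11,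
    xm00, xm01, xm10, xm11] <;> ring
lemma w_conj_hh (t : Rˣ) : w * hh t * w⁻¹ = hh t⁻¹ := by
  rw [mul_inv_eq_iff_eq_mul]
  apply sl_ext <;> simp only [mul00, mul01, mul10, mul11, w00, w01, w10, w11, hh00, hh01, hh10, hh11, inv_inv] <;> ring
lemma w_mul_w : (w : SL R) * w = hh (-1) := by
  apply sl_ext <;> simp [mul00, mul01, mul10, mul11]
lemma w_eq : (w : SL R) = xp 1 * xm (-1) * xp 1 := by
  apply sl_ext <;> simp [mul00, mul01, mul10, mul11]
lemma hh_mul_w (s : Rˣ) : hh s * w = xp (s : R) * xm (-((s⁻¹ : Rˣ) : R)) * xp (s : R) := by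
  have h1 : (s : R) * ((s⁻¹ : Rˣ) : R) = 1 := Units.mul_inv s
  apply sl_ext <;> simp only [mul00, mul01, mul10, mul11, w00, w01, w10, w11, xp00, xp01, xp10, xp11,
    xm00, xm01, xm10, xm11, hh00, hh01, hh10, hh11]
  · linear_combination h1
  · linear_combination (s : R) * h1
  · ring
  · linear_combination h1

/-- the big cell -/
lemma big_cell (m : SL R) (a : Rˣ) (ha : (a : R) = m 0 0) :
    m = xm (m 1 0 * ((a⁻¹ : Rˣ) : R)) * hh a * xp (((a⁻¹ : Rˣ) : R) * m 0 1) := by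
  have h1 : (a : R) * ((a⁻¹ : Rˣ) : R) = 1 := Units.mul_inv a
  have h2 := det_eq m
  rw [← ha] at h2
  apply sl_ext <;> simp only [mul00, mul01, mul10, mul11, xp00, xp01, xp10, xp11,
    xm00, xm01, xm10, xm11, hh00, hh01, hh10, hh11]
  · linear_combination -ha
  · linear_combination -(m 0 1) * h1
  · linear_combination -(m 1 0) * h1
  · linear_combination (((a⁻¹ : Rˣ) : R)) * h2 - (m 1 1) * h1 - (m 1 0 * (((a⁻¹ : Rˣ) : R)) * m 0 1) * h1

end K20.SL2El
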