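import Groth.Agent.SGA3x.K20.WeilRep
import Groth.Agent.Sga3B.TorusBc
import Groth.Agent.Sga3C.CWMain
import Groth.Agent.S3041

/-!
# `UGood Y`: closed subschemes of `G ×_S Y` have closed representable "everything over `G`" locus

* `ugood_of_isFinite`: `Y` finite, flat, locally of finite presentation over `S`;
* `ugood_of_cover`: fpqc-locally on `S`, Zariski-locally, `Y` isomorphic (as a scheme) to `D(M)`, e.g. `IsMultTypeFT`;
* `ugood_of_smooth`: `Y` smooth with geometrically irreducible fibres.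
-/

set_option autoImplicit false
universe u
open CategoryTheory MonoidalCategory CartesianMonoidalCategory AlgebraicGeometry CategoryTheory.Limits

namespace K20.UG

open K20.WeilRep Groth.Agent.Sga3A.H781.RepIdeal

/-- `P` is affine with projective ring of functions over the affine `X`. -/
def AffProj {P X : Scheme.{u}} (r : P ⟶ X) : Prop :=
  IsAffine P ∧ (letI := r.appTop.hom.toAlgebra; Module.Projective Γ(X, ⊤) Γ(P, ⊤))

theorem AffProj.iso_comp {P P' X : Scheme.{u}} {r : P ⟶ X} (h : AffProj r) (e : P' ⟶ P) [IsIso e] :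
    AffProj (e ≫ r) := by
  obtain ⟨h1, h2⟩ := h
  refine ⟨.of_isIso e, ?_⟩
  have hi' : IsIso e.appTop := inferInstanceAs (IsIso (e.app ⊤))
  let ee := (asIso e.appTop).commRingCatIsoToRingEquiv
  let := r.appTop.hom.toAlgebra
  let := (e ≫ r).appTop.hom.toAlgebra
  let e' : Γ(P, ⊤) ≃ₗ[Γ(X, ⊤)] Γ(P', ⊤) :=
    { ee.toAddEquiv with
      map_smul' := fun r x => by
        simp only [Algebra.smul_def, RingHom.algebraMap_toAlgebra, Scheme.Hom.comp_appTop]
        exact map_mul ee _ _ }
  exact Module.Projective.of_equiv e'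

theorem projective_of_isPushout {A B A' B' : CommRingCat.{u}} {f : A ⟶ B} {g : A ⟶ A'} {f' : B ⟶ B'} {g' : A' ⟶ B'}
    (H : IsPushout f g f' g')
    (h : (letI := f.hom.toAlgebra; Module.Projective A B)) :
    (letI := g'.hom.toAlgebra; Module.Projective A' B') := by
  let := f.hom.toAlgebra
  let := g.hom.toAlgebra
  let := f'.hom.toAlgebra
  let := g'.hom.toAlgebra
  let := (f ≫ f').hom.toAlgebra
  have s1 : IsScalarTower A B B' := IsScalarTower.of_algebraMap_eq' rfl
  have s2 : IsScalarTower A A' B' := IsScalarTower.of_algebraMap_eq' (by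
    change (f ≫ f').hom = _
    rw [H.w]; rfl)
  have h1 : Algebra.IsPushout A A' B B' := by
    rw [← CommRingCat.isPushout_iff_isPushout]
    exact H.flip
  have h2 : IsBaseChange A' (IsScalarTower.toAlgHom A B B').toLinearMap := h1.out
  exact Module.Projective.of_equiv h2.equiv

theorem AffProj.of_isPullback {P X P' X' : Scheme.{u}} [IsAffine X] [IsAffine X'] {r : P ⟶ X} (h : AffProj r)
    {a : P' ⟶ P} {r' : P' ⟶ X'} {b : X' ⟶ X} (H : IsPullback a r' r b) : AffProj r' := by
  obtain ⟨h1, h2⟩ := h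
  have h3 : IsAffine P' := .of_isIso H.isoPullback.hom
  refine ⟨h3, ?_⟩
  exact projective_of_isPushout (isPushout_appTop_of_isPullback H) h2

theorem affProj_spec {R A : Type u} [CommRing R] [CommRing A] [Algebra R A] [Module.Projective R A] :
    AffProj (Spec.map (CommRingCat.ofHom (algebraMap R A))) := by
  refine ⟨inferInstance, ?_⟩
  let := (Spec.map (CommRingCat.ofHom (algebraMap R A))).appTop.hom.toAlgebra
  let e1 := (Scheme.ΓSpecIso (CommRingCat.of R)).commRingCatIsoToRingEquiv
  let e2 := (Scheme.ΓSpecIso (CommRingCat.of A)).commRingCatIsoToRingEquiv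
  have hsq := Scheme.ΓSpecIso_naturality (CommRingCat.ofHom (algebraMap R A))
  -- pushout square of isomorphisms
  have H : IsPushout (CommRingCat.ofHom (algebraMap R A)) (Scheme.ΓSpecIso (CommRingCat.of R)).inv
      (Scheme.ΓSpecIso (CommRingCat.of A)).inv (Spec.map (CommRingCat.ofHom (algebraMap R A))).appTop := by
    refine IsPushout.of_vert_isIso ⟨?_⟩
    rw [Iso.eq_inv_comp, ← Category.assoc, Iso.comp_inv_eq]
    exact hsq.symm
  refine projective_of_isPushout H ?_
  have h0 : (algebraMap R A).toAlgebra = ‹Algebra R A› := Algebra.algebra_ext _ _ (fun _ => rfl)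
  change @Module.Projective R _ A _ (@Algebra.toModule R A _ _ (algebraMap R A).toAlgebra)
  rw [h0]
  infer_instance

theorem affProj_diag (M : Type) [AddCommGroup M] : AffProj (Red.diag (ULift.{u} ℤ) M).hom := by
  have : Module.Projective (ULift.{u} ℤ) (MonoidAlgebra (ULift.{u} ℤ) (Multiplicative M)) := inferInstance
  exact affProj_spec (R := ULift.{u} ℤ) (A := MonoidAlgebra (ULift.{u} ℤ) (Multiplicative M))

theorem affProj_DS (X : Scheme.{u}) [IsAffine X] (M : Type) [AddCommGroup M] : AffProj (Red.DS X M).hom :=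
  (affProj_diag M).of_isPullback (IsPullback.of_hasPullback _ _)

variable {S : Scheme.{u}}

/-- Closed subschemes of `G ×_S Y` are everything over closed subschemes of `G`. -/
def UGood (Y : Over S) : Prop :=
  ∀ (G : Over S) {W : Scheme.{u}} (j : W ⟶ (G ⊗ Y).left) [IsClosedImmersion j], Good (fst G Y).left j (𝟙 G.left)

/-- The square comparing the pullback of `G ×_S Y ⟶ G` along `h` with the pullback of `Y ⟶ S`. -/
theorem isPullback_aux (G Y : Over S) {X : Scheme.{u}} (h : X ⟶ G.left) :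
    IsPullback (pullback.fst (fst G Y).left h ≫ (snd G Y).left) (pullback.snd (fst G Y).left h) Y.hom (h ≫ G.hom) :=
  (IsPullback.of_hasPullback (fst G Y).left h).paste_horiz (IsPullback.of_hasPullback G.hom Y.hom).flip

theorem good_of_affProj (G Y : Over S) {W : Scheme.{u}} (j : W ⟶ (G ⊗ Y).left) [IsClosedImmersion j]
    {X : Scheme.{u}} [IsAffine X] (h : X ⟶ G.left) (H : AffProj (pullback.snd Y.hom (h ≫ G.hom))) :
    Good (fst G Y).left j h := by
  have h1 : AffProj (pullback.snd (fst G Y).left h) := by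
    have := H.iso_comp (isPullback_aux G Y h).isoPullback.hom
    rwa [IsPullback.isoPullback_hom_snd] at this
  obtain ⟨h2, h3⟩ := h1
  exact good_local h h3

theorem ugood_of_isFinite (Y : Over S) [IsFinite Y.hom] [Flat Y.hom] [LocallyOfFinitePresentation Y.hom] :
    UGood Y := by
  intro G W j _
  apply good_glue
  intro x
  obtain ⟨_, ⟨V, hV, rfl⟩, hxV, -⟩ :=
    G.left.isBasis_affineOpens.exists_subset_of_mem_open (Set.mem_univ x) isOpen_univ
  refine ⟨V, hxV, ?_⟩
  have : IsAffine V := hV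
  apply good_of_affProj
  set r := pullback.snd Y.hom ((Scheme.Opens.ι V ≫ 𝟙 G.left) ≫ G.hom) with hr
  have hP : IsAffine (pullback Y.hom ((Scheme.Opens.ι V ≫ 𝟙 G.left) ≫ G.hom)) := isAffine_of_isAffineHom r
  refine ⟨hP, ?_⟩
  let := r.appTop.hom.toAlgebra
  have h1 : Module.Finite Γ(V, ⊤) Γ(pullback Y.hom ((Scheme.Opens.ι V ≫ 𝟙 G.left) ≫ G.hom), ⊤) := by
    have : r.appTop.hom.Finite := (HasAffineProperty.iff_of_isAffine (P := @IsFinite).mp inferInstance).2
    exact this
  have h2 : Module.Flat Γ(V, ⊤) Γ(pullback Y.hom ((Scheme.Opens.ι V ≫ 𝟙 G.left) ≫ G.hom), ⊤) :=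
    HasRingHomProperty.appTop (P := @Flat) r inferInstance
  have h3 : Algebra.FinitePresentation Γ(V, ⊤) Γ(pullback Y.hom ((Scheme.Opens.ι V ≫ 𝟙 G.left) ≫ G.hom), ⊤) :=
    HasRingHomProperty.appTop (P := @LocallyOfFinitePresentation) r inferInstance
  have h4 : Module.FinitePresentation Γ(V, ⊤) Γ(pullback Y.hom ((Scheme.Opens.ι V ≫ 𝟙 G.left) ≫ G.hom), ⊤) :=
    Module.FinitePresentation.of_finite_of_finitePresentation _ _
  exact Module.Flat.projective_of_finitePresentation

theorem ugood_of_cover (Y : Over S) (S' : Scheme.{u}) (p : S' ⟶ S) [Flat p]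
    (hc : ∀ V : S.Opens, IsAffineOpen V → ∃ W : S'.Opens, IsCompact (W : Set S') ∧ p.base '' (W : Set S') = (V : Set S))
    (H : ∀ s' : S', ∃ U : S'.Opens, s' ∈ U ∧ ∃ (M : Type) (_ : AddCommGroup M),
      Nonempty (Red.bc (U.ι ≫ p) Y ≅ Red.DS (U : Scheme.{u}) M)) : UGood Y := by
  intro G W j _
  refine good_of_cover (𝟙 G.left) (pullback.fst G.hom p) (Groth.Agent.Sga3B.TorusBc.qc_cover_bc p G.hom hc) ?_
  intro x
  obtain ⟨U, hU, M, _, ⟨e⟩⟩ := H (pullback.snd G.hom p x)
  obtain ⟨_, ⟨V, hV, rfl⟩, hxV, hle⟩ :=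
    (pullback G.hom p).isBasis_affineOpens.exists_subset_of_mem_open (u := (pullback.snd G.hom p ⁻¹ᵁ U : Set _)) hU
      (pullback.snd G.hom p ⁻¹ᵁ U).2
  refine ⟨V, hxV, ?_⟩
  have : IsAffine V := hV
  apply good_of_affProj
  -- the pullback of `Y` to `V` is `D_V(M)`
  let b : (V : Scheme.{u}) ⟶ U := (pullback.snd G.hom p).resLE U V hle
  have hb : (Scheme.Opens.ι V ≫ pullback.fst G.hom p ≫ 𝟙 G.left) ≫ G.hom = b ≫ U.ι ≫ p := by
    rw [← Category.assoc b, Scheme.Hom.resLE_comp_ι]
    simp only [Category.assoc, Category.id_comp, pullback.condition]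
  rw [hb]
  have sq1 := isPullback_tr Y.hom b (U.ι ≫ p)
  have sq2 : IsPullback e.hom.left (pullback.snd Y.hom (U.ι ≫ p)) (Red.DS (U : Scheme.{u}) M).hom (𝟙 _) :=
    IsPullback.of_horiz_isIso ⟨by rw [Category.comp_id]; exact Over.w e.hom⟩
  have sq3 := IsPullback.of_hasPullback (Red.diag (ULift.{u} ℤ) M).hom
    (Limits.IsTerminal.from specULiftZIsTerminal (U : Scheme.{u}))
  exact (affProj_diag M).of_isPullback (sq1.paste_horiz (sq2.paste_horiz sq3))

theorem ugood_of_isMultTypeFT (Y : Over S) [GrpObj Y] (hY : SGA3x.IsMultTypeFT Y) : UGood Y := by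
  obtain ⟨S', f, hf, hs, hc, H⟩ := hY
  refine ugood_of_cover Y S' f hc fun s' => ?_
  obtain ⟨U, hU, M, _, -, ⟨e⟩⟩ := H s'
  exact ⟨U, hU, M, inferInstance, ⟨(Grp.forget _).mapIso e⟩⟩

theorem ugood_of_smooth (Y : Over S) [Smooth Y.hom] [GeometricallyIrreducible Y.hom] : UGood Y := by
  intro G W j _
  have h1 : Smooth (fst G Y).left := inferInstanceAs (Smooth (pullback.fst G.hom Y.hom))
  have h2 : GeometricallyIrreducible (fst G Y).left := inferInstanceAs (GeometricallyIrreducible (pullback.fst G.hom Y.hom))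
  obtain ⟨T, t, ht, h3, h4⟩ := Groth.Agent.S3041.result _ _ _ (fst G Y).left j
  refine ⟨t.ker, fun X a => ?_, fun hj => ?_⟩
  · rw [Category.comp_id, van_iff_isIso, ← h3, comap_eq_bot_iff]
    constructor
    · intro h
      exact ⟨IsClosedImmersion.lift t a h, IsClosedImmersion.lift_fac _ _ _⟩
    · rintro ⟨g', rfl⟩
      exact Scheme.Hom.le_ker_comp _ _
  · have := h4 hj
    have h5 : IsIso t.toImage := inferInstance
    have h6 : t.toImage ≫ t.imageι = t := t.toImage_imageι
    have h7 : t.ker.subschemeι = inv t.toImage ≫ t := by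
      rw [IsIso.eq_inv_comp]
      exact h6
    rw [h7]
    infer_instance

end K20.UG
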