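import Groth.Agent.Pi1C.WeilAlg
import Mathlib.RingTheory.FinitePresentation

/-!
# The algebra representing `T ↦ Hom_R(C, T ⊗ B)` is finitely presented if `C` is

`B` finite projective over `R`, `C` of finite presentation.
-/

set_option autoImplicit false
universe u
open TensorProduct

namespace K20.WeilFP

open Groth.Agent.Pi1C.WeilAlg

variable {R B : Type u} [CommRing R] [CommRing B] [Algebra R B]

section Poly

variable (m : Type u) {n : ℕ} (b : Fin n → B) (bs : Fin n → B →ₗ[R] R)

noncomputable def uu (k : m) : MvPolynomial (m × Fin n) R ⊗[R] B :=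
  ∑ i, MvPolynomial.X (k, i) ⊗ₜ[R] b i

noncomputable def rel (p : m × Fin n) : MvPolynomial (m × Fin n) R :=
  MvPolynomial.X p - coef bs _ p.2 (uu m b p.1)

abbrev PAlg : Type u := MvPolynomial (m × Fin n) R ⧸ Ideal.span (Set.range (rel (R := R) m b bs))

noncomputable abbrev pq : MvPolynomial (m × Fin n) R →ₐ[R] PAlg m b bs := Ideal.Quotient.mkₐ R _

noncomputable def evP : MvPolynomial m R →ₐ[R] PAlg m b bs ⊗[R] B :=
  MvPolynomial.aeval (fun k => Algebra.TensorProduct.map (pq m b bs) (AlgHom.id R B) (uu m b k))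

lemma map_uu {T : Type u} [CommRing T] [Algebra R T] (h : MvPolynomial (m × Fin n) R →ₐ[R] T) (k : m) :
    Algebra.TensorProduct.map h (AlgHom.id R B) (uu m b k) = ∑ i, h (MvPolynomial.X (k, i)) ⊗ₜ[R] b i := by
  simp [uu]

theorem isRep_evP (hb : ∀ x : B, ∑ i, bs i x • b i = x) : IsRep (evP (R := R) m b bs) := by
  intro T _ _
  constructor
  · intro h h' hh
    apply Ideal.Quotient.algHom_ext
    apply MvPolynomial.algHom_ext
    rintro ⟨k, i⟩
    have h1 : ∀ g : PAlg m b bs →ₐ[R] T, g (pq m b bs (MvPolynomial.X (k, i))) =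
        coef bs T i (push (evP (R := R) m b bs) g (MvPolynomial.X k)) := by
      intro g
      have h2 : pq m b bs (MvPolynomial.X (k, i)) = pq m b bs (coef bs _ i (uu m b k)) := by
        rw [← sub_eq_zero, ← map_sub]
        exact Ideal.Quotient.eq_zero_iff_mem.2 (Ideal.subset_span ⟨(k, i), rfl⟩)
      rw [h2, push_apply, evP, MvPolynomial.aeval_X, map_coef, map_coef]
    change h (pq m b bs (MvPolynomial.X (k, i))) = h' (pq m b bs (MvPolynomial.X (k, i)))
    rw [h1, h1]
    exact congrArg (fun z => coef bs T i (z (MvPolynomial.X k))) hh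
  · intro g
    let h0 : MvPolynomial (m × Fin n) R →ₐ[R] T :=
      MvPolynomial.aeval (fun p => coef bs T p.2 (g (MvPolynomial.X p.1)))
    have h1 : ∀ k, Algebra.TensorProduct.map h0 (AlgHom.id R B) (uu m b k) = g (MvPolynomial.X k) := by
      intro k
      rw [map_uu]
      simp only [h0, MvPolynomial.aeval_X]
      exact sum_coef b bs hb T _
    have h2 : ∀ a ∈ Ideal.span (Set.range (rel (R := R) m b bs)), h0 a = 0 := by
      intro a ha
      have : Ideal.span (Set.range (rel (R := R) m b bs)) ≤ RingHom.ker h0 := by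
        rw [Ideal.span_le]
        rintro _ ⟨p, rfl⟩
        change h0 (rel m b bs p) = 0
        rw [rel, map_sub, map_coef, h1, sub_eq_zero]
        simp [h0]
      exact this ha
    refine ⟨Ideal.Quotient.liftₐ _ h0 h2, ?_⟩
    apply MvPolynomial.algHom_ext
    intro k
    change push _ _ _ = _
    rw [push_apply, evP, MvPolynomial.aeval_X, ← h1 k, map_uu, map_uu]
    simp only [map_sum, Algebra.TensorProduct.map_tmul, AlgHom.coe_id, id_eq]
    rfl

end Poly

section Quot

variable {n : ℕ} (b : Fin n → B) (bs : Fin n → B →ₗ[R] R) {C W : Type u} [CommRing C] [Algebra R C]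
  [CommRing W] [Algebra R W] (ev : C →ₐ[R] W ⊗[R] B) (F : Set C)

noncomputable def qid : Ideal W := Ideal.span {x | ∃ f ∈ F, ∃ i, x = coef bs W i (ev f)}

theorem isRep_quot (hb : ∀ x : B, ∑ i, bs i x • b i = x) (hev : IsRep ev) :
    ∃ ev' : (C ⧸ Ideal.span F) →ₐ[R] (W ⧸ qid bs ev F) ⊗[R] B, IsRep ev' := by
  have key : ∀ {T : Type u} [CommRing T] [Algebra R T] (h : W →ₐ[R] T),
      (∀ f ∈ F, push ev h f = 0) ↔ ∀ x ∈ qid bs ev F, h x = 0 := by
    intro T _ _ h
    constructor
    · intro h1 x hx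
      have : qid bs ev F ≤ RingHom.ker h := by
        rw [qid, Ideal.span_le]
        rintro _ ⟨f, hf, i, rfl⟩
        change h (coef bs W i (ev f)) = 0
        rw [map_coef, ← push_apply, h1 f hf, map_zero]
      exact this hx
    · intro h1 f hf
      rw [← sum_coef b bs hb T (push ev h f)]
      refine Finset.sum_eq_zero fun i _ => ?_
      rw [push_apply, ← map_coef, h1 _ (Ideal.subset_span ⟨f, hf, i, rfl⟩), TensorProduct.zero_tmul]
  have h0 : ∀ f ∈ F, push ev (Ideal.Quotient.mkₐ R (qid bs ev F)) f = 0 :=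
    (key _).2 fun x hx => Ideal.Quotient.eq_zero_iff_mem.2 hx
  have h0' : ∀ a ∈ Ideal.span F, push ev (Ideal.Quotient.mkₐ R (qid bs ev F)) a = 0 := by
    intro a ha
    have : Ideal.span F ≤ RingHom.ker (push ev (Ideal.Quotient.mkₐ R (qid bs ev F))) := by
      rw [Ideal.span_le]
      exact fun f hf => h0 f hf
    exact this ha
  let ev' : (C ⧸ Ideal.span F) →ₐ[R] (W ⧸ qid bs ev F) ⊗[R] B := Ideal.Quotient.liftₐ _ _ h0'
  have h3 : ∀ {T : Type u} [CommRing T] [Algebra R T] (h : (W ⧸ qid bs ev F) →ₐ[R] T),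
      (push ev' h).comp (Ideal.Quotient.mkₐ R (Ideal.span F)) = push ev (h.comp (Ideal.Quotient.mkₐ R _)) := by
    intro T _ _ h
    rw [push_comp]
    ext c
    rfl
  refine ⟨ev', fun T _ _ => ⟨fun h h' hh => ?_, fun g => ?_⟩⟩
  · apply Ideal.Quotient.algHom_ext
    apply (hev T).1
    change push ev (h.comp _) = push ev (h'.comp _)
    rw [← h3, ← h3]
    exact congrArg (fun z => AlgHom.comp z (Ideal.Quotient.mkₐ R (Ideal.span F))) hh
  · obtain ⟨h, hh⟩ := (hev T).2 (g.comp (Ideal.Quotient.mkₐ R (Ideal.span F)))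
    have hh' : push ev h = g.comp (Ideal.Quotient.mkₐ R (Ideal.span F)) := hh
    have h4 : ∀ x ∈ qid bs ev F, h x = 0 := (key h).1 fun f hf => by
      rw [hh']
      change g (Ideal.Quotient.mk _ f) = 0
      rw [Ideal.Quotient.eq_zero_iff_mem.2 (Ideal.subset_span hf), map_zero]
    refine ⟨Ideal.Quotient.liftₐ _ h h4, ?_⟩
    apply Ideal.Quotient.algHom_ext
    change (push ev' _).comp _ = _
    rw [h3, ← hh']
    congr 1

end Quot

theorem exists_isRep_fp (R B C : Type u) [CommRing R] [CommRing B] [CommRing C] [Algebra R B]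
    [Algebra R C] [Module.Finite R B] [Module.Projective R B] [Algebra.FinitePresentation R C] :
    ∃ (W : Type u) (_ : CommRing W) (_ : Algebra R W) (ev : C →ₐ[R] W ⊗[R] B),
      IsRep ev ∧ Algebra.FinitePresentation R W := by
  classical
  obtain ⟨n, b, bs, hb⟩ := exists_dualBasis R B
  obtain ⟨ι, _, f, hf, hk⟩ := (Algebra.FinitePresentation.iff_quotient_mvPolynomial'.{u, u, u} (R := R) (A := C)).1
    inferInstance
  obtain ⟨F, hF⟩ := hk
  obtain ⟨ev', hev'⟩ := isRep_quot b bs (evP (R := R) ι b bs) (F : Set (MvPolynomial ι R)) hb (isRep_evP ι b bs hb)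
  have hF' : Ideal.span (F : Set (MvPolynomial ι R)) = RingHom.ker f := hF
  let e : C ≃ₐ[R] (MvPolynomial ι R ⧸ Ideal.span (F : Set (MvPolynomial ι R))) :=
    ((Ideal.quotientEquivAlgOfEq R hF').trans (Ideal.quotientKerAlgEquivOfSurjective hf)).symm
  refine ⟨_, inferInstance, inferInstance, ev'.comp (e : C →ₐ[R] _), ?_, ?_⟩
  · intro T _ _
    have h1 := hev' T
    constructor
    · intro h h' hh
      apply h1.1
      apply AlgHom.ext
      intro x
      obtain ⟨c, rfl⟩ := e.surjective x
      exact DFunLike.congr_fun hh c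
    · intro g
      obtain ⟨h, hh⟩ := h1.2 (g.comp (e.symm : _ →ₐ[R] C))
      refine ⟨h, ?_⟩
      apply AlgHom.ext
      intro c
      have := DFunLike.congr_fun hh (e c)
      refine this.trans ?_
      simp
  · have h1 : Algebra.FinitePresentation R (PAlg (R := R) ι b bs) :=
      Algebra.FinitePresentation.quotient (Submodule.fg_span (Set.finite_range _))
    refine Algebra.FinitePresentation.quotient ?_
    have h2 : {x | ∃ f ∈ (F : Set (MvPolynomial ι R)), ∃ i, x = coef bs _ i (evP (R := R) ι b bs f)} =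
        Set.range (fun p : F × Fin n => coef bs _ p.2 (evP (R := R) ι b bs p.1.1)) := by
      ext x
      constructor
      · rintro ⟨f, hf, i, rfl⟩
        exact ⟨⟨⟨f, hf⟩, i⟩, rfl⟩
      · rintro ⟨⟨⟨f, hf⟩, i⟩, rfl⟩
        exact ⟨f, hf, i, rfl⟩
    rw [qid, h2]
    exact Submodule.fg_span (Set.finite_range _)

end K20.WeilFP
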