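import Groth.Agent.Sga3A.H781.EssFree
import Groth.Agent.Picfga.IdealDescent
import Mathlib.RingTheory.Finiteness.ModuleFinitePresentation
import Mathlib.RingTheory.Flat.EquationalCriterion
import Mathlib.AlgebraicGeometry.Morphisms.Finite
import Groth.Prelude.Def_SGA3x

/-!
# Closed representability of "a closed subscheme is everything", fpqc-local form

For a morphism `f : Z ⟶ S`, a closed immersion `j : Y ⟶ Z` and `h : X ⟶ S`, `Good f j h` says that the condition
"`Y_T = Z_T`" on `X`-schemes `T` is represented by a closed subscheme of `X`, of finite presentation if `j` is.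
* `good_glue`, `good_of_fpqc`: Zariski gluing and fpqc descent;
* `good_local`: `X` and `Z_X` affine and `Γ(Z_X)` projective over `Γ(X)`;
* `good_of_cover`: fpqc coverings in the sense of `Red.IsTorus`.
-/

set_option autoImplicit false
universe u
open CategoryTheory AlgebraicGeometry CategoryTheory.Limits

namespace K20.WeilRep

open Groth.Agent.Sga3A.H781.RepIdeal Groth.Agent.Sga3A.H781.EssFree

variable {S Z Y : Scheme.{u}} (f : Z ⟶ S) (j : Y ⟶ Z)

/-- Closed representability over `X`. -/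
def Good {X : Scheme.{u}} (h : X ⟶ S) : Prop :=
  ∃ K : X.IdealSheafData, IsRep f j h K ∧ (LocallyOfFinitePresentation j → LocallyOfFinitePresentation K.subschemeι)

variable {f j}

theorem Good.congr {X : Scheme.{u}} {h h' : X ⟶ S} (H : Good f j h) (e : h = h') : Good f j h' := e ▸ H

theorem lfp_comap {X X' : Scheme.{u}} (K : X.IdealSheafData) (b : X' ⟶ X)
    (h : LocallyOfFinitePresentation K.subschemeι) : LocallyOfFinitePresentation (K.comap b).subschemeι :=
  MorphismProperty.of_isPullback (P := @LocallyOfFinitePresentation)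
    (Groth.Agent.Picfga.IdealDescent.isPullback_comap b K) h

theorem Good.comp {X X' : Scheme.{u}} {h : X ⟶ S} (H : Good f j h) (b : X' ⟶ X) : Good f j (b ≫ h) := by
  obtain ⟨K, hK, hfp⟩ := H
  exact ⟨K.comap b, hK.comap b, fun hj => lfp_comap K b (hfp hj)⟩

theorem good_glue {X : Scheme.{u}} {h : X ⟶ S} (H : ∀ x : X, ∃ U : X.Opens, x ∈ U ∧ Good f j (U.ι ≫ h)) :
    Good f j h := by
  obtain ⟨K, hK⟩ : ∃ K : X.IdealSheafData, IsRep f j h K := by
    apply exists_isRep_of_forall_exists
    intro x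
    obtain ⟨U, hx, K, hK, -⟩ := H x
    exact ⟨U, U.ι, inferInstance, ⟨x, hx⟩, K, rfl, hK⟩
  refine ⟨K, hK, fun hj => ?_⟩
  choose U hx K' hK' hfp using H
  refine IsZariskiLocalAtTarget.of_iSup_eq_top (P := @LocallyOfFinitePresentation) U
    (top_le_iff.1 fun s _ => TopologicalSpace.Opens.mem_iSup.2 ⟨s, hx s⟩) fun s => ?_
  have h3 := (Groth.Agent.Picfga.IdealDescent.isPullback_comap (U s).ι K)
  have h4 := isPullback_morphismRestrict K.subschemeι (U s)
  have h5 : (h4.flip.isoIsPullback _ _ h3).hom ≫ (K.comap (U s).ι).subschemeι =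
      (K.subschemeι ∣_ U s) := h4.flip.isoIsPullback_hom_snd _ _ h3
  rw [← h5]
  have h6 : K.comap (U s).ι = K' s := (hK.comap (U s).ι).unique (hK' s)
  have := hfp s hj
  rw [← h6] at this
  infer_instance

theorem good_of_fpqc {X X' : Scheme.{u}} (b : X' ⟶ X) [hb1 : Flat b] [hb2 : Surjective b] [hb3 : QuasiCompact b]
    {h : X ⟶ S} (H : Good f j (b ≫ h)) : Good f j h := by
  obtain ⟨K', hK', hfp⟩ := H
  obtain ⟨h1, h2⟩ := hK'.of_fpqc b
  refine ⟨K'.map b, h1, fun hj => ?_⟩
  exact MorphismProperty.of_isPullback_of_descendsAlong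
    (P := @LocallyOfFinitePresentation) (Q := @Surjective ⊓ @Flat ⊓ @QuasiCompact)
    (Groth.Agent.Picfga.IdealDescent.isPullback_comap b (K'.map b)).flip
    ⟨⟨hb2, hb1⟩, hb3⟩ (by rw [h2]; exact hfp hj)

theorem good_local [IsClosedImmersion j] {X : Scheme.{u}} [IsAffine X] (h : X ⟶ S) [IsAffine (pullback f h)]
    (hproj : (letI := (pullback.snd f h).appTop.hom.toAlgebra
      Module.Projective Γ(X, ⊤) Γ(pullback f h, ⊤))) : Good f j h := by
  obtain ⟨K, hK, hfp⟩ := exists_isRep_local (j := j) h (ι := PUnit.{u+1}) (fun _ => ⊤)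
    (fun _ => isAffineOpen_top _) (fun x => ⟨⟨⟩, trivial⟩) (fun _ => by
      have hi : IsIso (⊤ : (pullback f h).Opens).ι := inferInstanceAs (IsIso (Scheme.topIso _).hom)
      have hi' : IsIso (⊤ : (pullback f h).Opens).ι.appTop :=
        inferInstanceAs (IsIso ((⊤ : (pullback f h).Opens).ι.app ⊤))
      let e := (asIso ((⊤ : (pullback f h).Opens).ι).appTop).commRingCatIsoToRingEquiv
      letI := (pullback.snd f h).appTop.hom.toAlgebra
      letI := ((⊤ : (pullback f h).Opens).ι ≫ pullback.snd f h).appTop.hom.toAlgebra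
      let e' : Γ(pullback f h, ⊤) ≃ₗ[Γ(X, ⊤)] Γ(↑(⊤ : (pullback f h).Opens), ⊤) :=
        { e.toAddEquiv with
          map_smul' := fun r x => by
            simp only [Algebra.smul_def, RingHom.algebraMap_toAlgebra, Scheme.Hom.comp_appTop]
            exact map_mul e _ _ }
      exact Module.Projective.of_equiv e')
  refine ⟨K, hK, fun hj => ?_⟩
  apply locallyOfFinitePresentation_subschemeι
  intro x
  exact ⟨⟨⊤, isAffineOpen_top X⟩, trivial, hfp inferInstance inferInstance hj⟩

theorem good_of_cover {X S' : Scheme.{u}} (h : X ⟶ S) (g : S' ⟶ X) [Flat g]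
    (hg : ∀ V : X.Opens, IsAffineOpen V →
      ∃ W : S'.Opens, IsCompact (W : Set S') ∧ g.base '' (W : Set S') = (V : Set X))
    (H : ∀ s' : S', ∃ U : S'.Opens, s' ∈ U ∧ Good f j (U.ι ≫ g ≫ h)) : Good f j h := by
  have h1 : Good f j (g ≫ h) := good_glue H
  apply good_glue
  intro s
  obtain ⟨_, ⟨V, hV, rfl⟩, hsV, -⟩ :=
    X.isBasis_affineOpens.exists_subset_of_mem_open (Set.mem_univ s) isOpen_univ
  refine ⟨V, hsV, ?_⟩
  obtain ⟨W, hW, hWV⟩ := hg V hV
  have hle : W ≤ g ⁻¹ᵁ V := by
    intro w hw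
    have : g.base w ∈ g.base '' (W : Set S') := ⟨w, hw, rfl⟩
    rw [hWV] at this
    exact this
  have : IsAffine V := hV
  have : CompactSpace W := isCompact_iff_compactSpace.mp hW
  have hflat : Flat (g.resLE V W hle) := inferInstance
  have hqc : QuasiCompact (g.resLE V W hle) := inferInstance
  have hsurj : Surjective (g.resLE V W hle) := by
    constructor
    rintro ⟨v, hv⟩
    have : v ∈ g.base '' (W : Set S') := by rw [hWV]; exact hv
    obtain ⟨w, hw, rfl⟩ := this
    refine ⟨⟨w, hw⟩, ?_⟩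
    apply Subtype.ext
    simp
  apply good_of_fpqc (g.resLE V W hle)
  refine (h1.comp W.ι).congr ?_
  rw [← Category.assoc, ← Category.assoc, g.resLE_comp_ι hle]

/-- From `Good` at the identity to the final form. -/
theorem Good.result [IsClosedImmersion j] (H : Good f j (𝟙 S)) :
    ∃ (T : Scheme.{u}) (t : T ⟶ S), IsClosedImmersion t ∧
      (∀ (S' : Scheme.{u}) (g : S' ⟶ S),
        (∃ g' : S' ⟶ T, g' ≫ t = g) ↔ IsIso (pullback.snd j (pullback.fst f g))) ∧
      (LocallyOfFinitePresentation j → LocallyOfFinitePresentation t) := by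
  obtain ⟨K, hK, hfp⟩ := H
  exact ⟨K.subscheme, K.subschemeι, inferInstance,
    fun T g => by rw [hK.exists_lift_iff, van_iff_isIso], hfp⟩

/-- The criterion on points. -/
theorem isIso_snd_iff {B W X : Scheme.{u}} (f : Z ⟶ B) (j : W ⟶ Z) [Mono j] (g : X ⟶ B) :
    IsIso (pullback.snd j (pullback.fst f g)) ↔
      ∀ (X' : Scheme.{u}) (x : X' ⟶ X) (a : X' ⟶ Z), a ≫ f = x ≫ g → ∃ w : X' ⟶ W, w ≫ j = a := by
  constructor
  · intro hi X' x a hax
    refine ⟨pullback.lift a x hax ≫ inv (pullback.snd j (pullback.fst f g)) ≫ pullback.fst j _, ?_⟩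
    rw [Category.assoc, Category.assoc, pullback.condition, IsIso.inv_hom_id_assoc, pullback.lift_fst]
  · intro H
    obtain ⟨w, hw⟩ := H (pullback f g) (pullback.snd f g) (pullback.fst f g) pullback.condition
    have : IsSplitEpi (pullback.snd j (pullback.fst f g)) :=
      ⟨⟨pullback.lift w (𝟙 _) (by rw [hw, Category.id_comp]), pullback.lift_snd _ _ _⟩⟩
    exact isIso_of_mono_of_isSplitEpi _

end K20.WeilRep
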